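import Groth.Agent.Borel50.Conseq
import Groth.Agent.S3278
import Groth.Agent.UnipLib.Points
import Groth.Agent.FlatMor.GeomDescent
import Mathlib.GroupTheory.Nilpotent

/-!
# A group with a nilpotent Borel subgroup equals that subgroup
-/

set_option autoImplicit false
universe u

open CategoryTheory MonoidalCategory CartesianMonoidalCategory MonObj GrpObj AlgebraicGeometry Limits

noncomputable section

namespace Groth.Agent.Borel50.Nilp

open Groth.Agent.Borel50.Pts

variable {k : Type u} [Field k] [IsAlgClosed k]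

/-- A closed subgroup containing all rational points is everything. -/
lemma isIso_of_forall {G B : Over (Spec (CommRingCat.of k))} [GrpObj G] [Smooth G.hom] (iB : B ⟶ G)
    [IsClosedImmersion iB.left] (h : ∀ g : Pt G, ∃ b : Pt B, b ≫ iB = g) : IsIso iB := by
  have := GrpScheme.HomFlat.isReduced_of_smooth G.hom
  obtain ⟨l, hl⟩ := factor_of_points (𝟙 G) iB fun g => by
    obtain ⟨b, hb⟩ := h g
    rw [Category.comp_id]
    exact mem_range_of_factor hb
  have : Mono iB := Over.mono_of_mono_left iB
  exact ⟨l, by rw [← cancel_mono iB, Category.assoc, hl]; simp, hl⟩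

/-- An upper central series moves down one step along a map killing the centre. -/
lemma upperCentralSeries_map_le {Γ Γ' : Type*} [Group Γ] [Group Γ'] (f : Γ →* Γ') (hf : Function.Surjective f)
    (hc : Subgroup.center Γ ≤ f.ker) : ∀ m, ∀ x ∈ Subgroup.upperCentralSeries Γ (m + 1),
      f x ∈ Subgroup.upperCentralSeries Γ' m := by
  intro m
  induction m with
  | zero =>
    intro x hx
    rw [Subgroup.upperCentralSeries_one] at hx
    rw [Subgroup.upperCentralSeries_zero, Subgroup.mem_bot]
    exact hc hx
  | succ m ih =>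
    intro x hx
    rw [Subgroup.mem_upperCentralSeries_succ_iff] at hx ⊢
    intro y'
    obtain ⟨y, rfl⟩ := hf y'
    simpa [map_commutatorElement] using ih _ (hx y)

/-- A point of a Borel subgroup commuting with it is central. -/
lemma central_of_center {G B : Over (Spec (CommRingCat.of k))} [GrpObj G] [GrpObj B] [IsAffine G.left]
    [Smooth G.hom] [ConnectedSpace G.left] (iB : B ⟶ G) (hB : Red.IsBorelOver k iB) {z : Pt B}
    (hz : z ∈ Subgroup.center (Pt B)) : (Conj.conjIso (z ≫ iB)).hom = 𝟙 G := by
  have := hB.1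
  have := hB.2.1
  have := hB.2.2.1
  have : IsMonHom (Conj.conjIso (z ≫ iB)).hom := by
    have h := Conj.isMonHom_conjBy (G := G) (H := G) (z ≫ iB) (𝟙 G)
    rwa [Conj.conjBy_eq, Category.id_comp] at h
  refine Conseq.hom_eq_of_eq_on_borel iB hB _ _ ?_
  rw [Category.comp_id, ← Conj.conjBy_eq]
  have := GrpScheme.HomFlat.isReduced_of_smooth B.hom
  have : IsSeparated G.hom := GrpScheme.IdComponent.isSeparated G
  refine UnipLib.ext_points fun b => ?_
  rw [Conj.comp_conjBy, AGF.conjBy, toUnit_unique (toUnit (𝟙_ _)) (𝟙 _), Category.id_comp,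
    ← MonObj.mul_comp, ← GrpObj.inv_comp, ← MonObj.mul_comp, ← Subgroup.mem_center_iff.1 hz b]
  simp

/-- If a Borel subgroup is nilpotent, it is the whole group. -/
theorem isIso_of_nilpotent_borel : ∀ (n : ℕ) (G B : Over (Spec (CommRingCat.of k))) [GrpObj G] [GrpObj B]
    [IsAffine G.left] [Smooth G.hom] [ConnectedSpace G.left] (iB : B ⟶ G), Red.IsBorelOver k iB →
    Subgroup.upperCentralSeries (Pt B) n = ⊤ → IsIso iB := by
  intro n
  induction n with
  | zero =>
    intro G B _ _ _ _ _ iB hB h
    have := hB.1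
    have := hB.2.1
    have := hB.2.2.1
    have := GrpScheme.HomFlat.isReduced_of_smooth B.hom
    have : IsSeparated G.hom := GrpScheme.IdComponent.isSeparated G
    have hone : ∀ b : Pt B, b = 1 := fun b => by
      have : b ∈ (⊥ : Subgroup (Pt B)) := Subgroup.upperCentralSeries_zero (G := Pt B) ▸ h ▸ Subgroup.mem_top b
      exact Subgroup.mem_bot.1 this
    have : IsMonHom (1 : G ⟶ G) :=
      { one_hom := by simp [Hom.one_def]
        mul_hom := by rw [MonObj.comp_one, MonObj.mul_eq_mul, MonObj.comp_mul, tensorHom_fst, tensorHom_snd, MonObj.comp_one, MonObj.comp_one, _root_.mul_one] }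
    have e : 𝟙 G = 1 := Conseq.hom_eq_of_eq_on_borel iB hB _ _ (UnipLib.ext_points fun b => by
      rw [hone b]; simp [MonObj.comp_one])
    refine isIso_of_forall iB fun g => ⟨1, ?_⟩
    rw [MonObj.one_comp]
    calc (1 : Pt G) = g ≫ (1 : G ⟶ G) := (MonObj.comp_one g).symm
      _ = g := by rw [← e, Category.comp_id]
  | succ n ih =>
    intro G B _ _ _ _ _ iB hB h
    have := hB.1
    have := hB.2.1
    have := hB.2.2.1
    have := hB.2.2.2.1
    have := FixedPt.qc_G G
    have : IsSeparated G.hom := GrpScheme.IdComponent.isSeparated G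
    have : QuasiCompact B.hom := by rw [← Over.w iB]; infer_instance
    let φ : Pt B →* Pt G :=
      { toFun := fun b => b ≫ iB, map_one' := MonObj.one_comp _, map_mul' := fun x y => MonObj.mul_comp x y _ }
    let S : Subgroup (Pt G) := (Subgroup.center (Pt B)).map φ
    obtain ⟨Z, _, i, _, _, _, _, hr, hSl⟩ := exists_closure S
    have := GrpScheme.HomFlat.isReduced_of_smooth Z.hom
    -- the closure is central
    have hcen : ∀ (z : Pt Z) (g : Pt G), g * (z ≫ i) = (z ≫ i) * g := by
      intro z g
      let σ : G ⟶ G := (Conj.conjIso g).hom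
      let E := Limits.equalizer σ (𝟙 G)
      let ε : E ⟶ G := equalizer.ι σ (𝟙 G)
      have : IsClosedImmersion ε.left := isClosedImmersion_equalizer_ι_left σ (𝟙 G)
      obtain ⟨l, hl⟩ := factor_of_points i ε fun w => by
        refine closure_minimal ?_ ε.left.isClosedEmbedding.isClosed_range (hr ▸ mem_range_of_factor rfl)
        rintro _ ⟨_, ⟨b, hb, rfl⟩, rfl⟩
        refine mem_range_of_factor (z := equalizer.lift (φ b) ?_) (equalizer.lift_ι _ _)
        have e := congr(g ≫ $(central_of_center iB hB hb))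
        rw [← Category.id_comp (Conj.conjIso (b ≫ iB)).hom, ← Conj.conjBy_eq, Category.comp_id,
          Conj.comp_conjBy, Category.comp_id, AGF.conjBy, toUnit_unique (toUnit (𝟙_ _)) (𝟙 _),
          Category.id_comp] at e
        show (b ≫ iB) ≫ σ = (b ≫ iB) ≫ 𝟙 G
        rw [Category.comp_id, ← Conj.conjBy_eq, AGF.conjBy, toUnit_unique (toUnit (𝟙_ _)) (𝟙 _), Category.id_comp]
        rw [mul_inv_eq_iff_eq_mul] at e ⊢
        exact e.symm
      have e : (z ≫ i) ≫ σ = z ≫ i := by
        rw [← hl, Category.assoc, Category.assoc, equalizer.condition, Category.comp_id]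
      rw [← Conj.conjBy_eq, AGF.conjBy, toUnit_unique (toUnit (𝟙_ _)) (𝟙 _), Category.id_comp,
        mul_inv_eq_iff_eq_mul] at e
      exact e
    have := GrpScheme.HomFlat.isReduced_of_smooth G.hom
    have hN : AlgGrp.IsNormalHom i := by
      intro T g z
      refine ⟨z, ?_⟩
      have : Smooth (G ⊗ Z).hom := inferInstanceAs (Smooth (pullback.fst G.hom Z.hom ≫ G.hom))
      have : IsReduced (G ⊗ Z).left := GrpScheme.HomFlat.isReduced_of_smooth (G ⊗ Z).hom
      have : fst G Z * (snd G Z ≫ i) * (fst G Z)⁻¹ = snd G Z ≫ i := UnipLib.ext_points fun w => by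
        rw [MonObj.comp_mul, MonObj.comp_mul, GrpObj.comp_inv, ← Category.assoc, hcen]
        group
      simpa [MonObj.comp_mul, GrpObj.comp_inv] using congr(lift g z ≫ $this)
    obtain ⟨Q, _, q, _, _, _, _, _, hker⟩ := S3278.result k G Z i hN
    have := FixedPt.qc_G Q
    have : IsReduced Q.left := FlatMor.GeomDescent.isReduced_of_flat_surjective q.left
    have : Smooth Q.hom := GrpScheme.Smooth.smooth_of_perfectField Q
    have : ConnectedSpace Q.left := q.left.surjective.connectedSpace q.left.continuous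
    obtain ⟨B', _, i', p, _, _, _, hp⟩ := Conseq.exists_image (iB ≫ q)
    obtain ⟨_, hp⟩ := hp (GrpScheme.HomFlat.isReduced_of_smooth B.hom)
    have hB' := Conseq.isBorelOver_image q iB hB i' p hp
    have : Mono i' := Over.mono_of_mono_left i'
    have : LocallyOfFiniteType B'.hom := by rw [← Over.w i']; infer_instance
    let f : Pt B →* Pt B' :=
      { toFun := fun b => b ≫ p
        map_one' := by rw [← cancel_mono i', Category.assoc, hp, MonObj.one_comp, MonObj.one_comp]
        map_mul' := fun x y => by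
          rw [← cancel_mono i', Category.assoc, hp, MonObj.mul_comp, MonObj.mul_comp, Category.assoc,
            Category.assoc, hp] }
    have hker' : ∀ {T : Over (Spec (CommRingCat.of k))} (z : T ⟶ Z), (z ≫ i) ≫ q = 1 := fun z => by
      rw [Category.assoc, hker.w, ← Category.assoc, toUnit_unique (z ≫ toUnit Z) (toUnit _)]
      rfl
    have hf : Function.Surjective f := Conj.surjective_pts p
    have hc : Subgroup.center (Pt B) ≤ f.ker := fun z hz => by
      obtain ⟨w, hw⟩ := hSl (φ z) ⟨z, hz, rfl⟩
      show z ≫ p = 1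
      rw [← cancel_mono i', Category.assoc, hp, MonObj.one_comp, ← Category.assoc]
      show φ z ≫ q = 1
      rw [← hw, hker']
    have : IsIso i' := ih Q B' i' hB' (eq_top_iff.2 fun y _ => by
      obtain ⟨x, rfl⟩ := hf y
      exact upperCentralSeries_map_le f hf hc n x (h ▸ Subgroup.mem_top x))
    refine isIso_of_forall iB fun g => ?_
    obtain ⟨b, hb⟩ := hf ((g ≫ q) ≫ inv i')
    have hd : ((b ≫ iB)⁻¹ * g) ≫ q = 1 := by
      have : (b ≫ iB) ≫ q = g ≫ q := by
        rw [Category.assoc, ← hp, ← Category.assoc, show b ≫ p = _ from hb]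
        simp
      rw [MonObj.mul_comp, GrpObj.inv_comp, this, inv_mul_cancel]
    obtain ⟨w, hw⟩ : ∃ w : Pt Z, w ≫ i = (b ≫ iB)⁻¹ * g :=
      ⟨hker.lift _ (𝟙 _) (by rw [hd, Category.id_comp, Hom.one_def, toUnit_unique (toUnit (𝟙_ _)) (𝟙 _),
        Category.id_comp]), hker.lift_fst _ _ _⟩
    have hsub : Set.range i.left ⊆ Set.range iB.left := by
      rw [hr]
      refine closure_minimal ?_ iB.left.isClosedEmbedding.isClosed_range
      rintro _ ⟨_, ⟨c, -, rfl⟩, rfl⟩
      exact mem_range_of_factor rfl
    obtain ⟨c, hc'⟩ := exists_lift_of_mem iB (hsub (mem_range_of_factor hw))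
    exact ⟨b * c, by rw [MonObj.mul_comp, hc', mul_inv_cancel_left]⟩

end Groth.Agent.Borel50.Nilp
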