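import Groth.Agent.Borel50.FixedPt
import Groth.Prelude.Def_Red2

/-!
# Solvability of a group scheme on rational points
-/

set_option autoImplicit false
universe u

open CategoryTheory MonoidalCategory CartesianMonoidalCategory MonObj GrpObj AlgebraicGeometry Limits
open scoped commutatorElement

noncomputable section

namespace Groth.Agent.Borel50.Solvable

open Groth.Agent.Borel50.Pts

variable {k : Type u} [Field k] {G : Over (Spec (CommRingCat.of k))} [GrpObj G] [Smooth G.hom] [QuasiCompact G.hom]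

/-- If the rational points are solvable then the group is solvable. -/
theorem isSolvableGrp_of_points [IsAlgClosed k] (h : ∃ n, derivedSeries (Pt G) n = ⊥) : Red.IsSolvableGrp G := by
  obtain ⟨n, hn⟩ := h
  refine ⟨n, fun X => (Subgroup.eq_bot_iff_forall _).2 fun g hg => ?_⟩
  have := GrpScheme.HomFlat.isReduced_of_smooth G.hom
  let Γs : ℕ → Subgroup (Pt G) := derivedSeries (Pt G)
  -- points of `G` in the closure of the derived series
  have key : ∀ m, ∀ g ∈ derivedSeries (X ⟶ G) m, ∀ (H : Over (Spec (CommRingCat.of k))) (i : H ⟶ G),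
      IsClosedImmersion i.left → closure (pts (Γs m)) ⊆ Set.range i.left → ∃ h : X ⟶ H, h ≫ i = g := by
    intro m
    induction m with
    | zero =>
      intro g _ H i _ hi
      obtain ⟨l, hl⟩ := factor_of_points (𝟙 G) i fun w => hi (by
        rw [show Γs 0 = ⊤ from rfl, FixedPt.closure_pts_top]; trivial)
      exact ⟨g ≫ l, by rw [Category.assoc, hl, Category.comp_id]⟩
    | succ m ih =>
      intro g hg H' i' hi' hsub
      obtain ⟨H, _, i, _, hci, hsm, _, hr, -⟩ := exists_closure (Γs m)
      obtain ⟨N, _, j, _, hcj, _, _, hrN, -⟩ := exists_closure (Γs (m + 1))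
      have := GrpScheme.HomFlat.isReduced_of_smooth N.hom
      have : Smooth (H ⊗ H).hom := inferInstanceAs (Smooth (pullback.fst H.hom H.hom ≫ H.hom))
      have : IsReduced (H ⊗ H).left := GrpScheme.HomFlat.isReduced_of_smooth (H ⊗ H).hom
      obtain ⟨c, hc⟩ := factor_of_points ⁅fst H H ≫ i, snd H H ≫ i⁆ j fun w => by
        have e : w ≫ ⁅fst H H ≫ i, snd H H ≫ i⁆ = ⁅(w ≫ fst H H) ≫ i, (w ≫ snd H H) ≫ i⁆ := by
          simp only [commutatorElement_def, MonObj.comp_mul, GrpObj.comp_inv, Category.assoc]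
        rw [hrN, e, show Γs (m + 1) = ⁅Γs m, Γs m⁆ from derivedSeries_succ _ m]
        exact commutator_mem_closure _ (hr ▸ mem_range_of_factor rfl) (hr ▸ mem_range_of_factor rfl)
      obtain ⟨l, hl⟩ := factor_of_points j i' fun w => hsub (hrN ▸ mem_range_of_factor rfl)
      suffices h : ∃ h : X ⟶ N, h ≫ j = g by
        obtain ⟨h, rfl⟩ := h
        exact ⟨h ≫ l, by rw [Category.assoc, hl]⟩
      rw [derivedSeries_succ, Subgroup.commutator_def] at hg
      clear hl hsub l
      induction hg using Subgroup.closure_induction with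
      | mem x hx =>
        obtain ⟨a, ha, b, hb, rfl⟩ := hx
        obtain ⟨a', rfl⟩ := ih a ha H i hci hr.ge
        obtain ⟨b', rfl⟩ := ih b hb H i hci hr.ge
        exact ⟨lift a' b' ≫ c, by
          rw [Category.assoc, hc]
          simp only [commutatorElement_def, MonObj.comp_mul, GrpObj.comp_inv, lift_fst_assoc, lift_snd_assoc]⟩
      | one => exact ⟨1, MonObj.one_comp _⟩
      | mul x y _ _ hx hy =>
        obtain ⟨a, rfl⟩ := hx; obtain ⟨b, rfl⟩ := hy
        exact ⟨a * b, MonObj.mul_comp _ _ _⟩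
      | inv x _ hx =>
        obtain ⟨a, rfl⟩ := hx
        exact ⟨a⁻¹, GrpObj.inv_comp _ _⟩
  have : IsSeparated G.hom := GrpScheme.IdComponent.isSeparated G
  obtain ⟨h, hh⟩ := key n g hg (𝟙_ _) η[G] (isClosedImmersion_pt η[G]) (by
    refine closure_minimal ?_ (isClosedImmersion_pt η[G]).base_closed.isClosed_range
    rintro _ ⟨x, hx, rfl⟩
    have : x ∈ (⊥ : Subgroup (Pt G)) := hn ▸ hx
    rw [Subgroup.mem_bot.mp this]
    refine ⟨IsLocalRing.closedPoint k, ?_⟩
    rw [Hom.one_def, toUnit_unique (toUnit _) (𝟙 _), Category.id_comp])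
  rw [← hh, toUnit_unique h (toUnit X), ← Hom.one_def]

/-- A solvable group has solvable rational points. -/
lemma points_of_isSolvableGrp {H : Over (Spec (CommRingCat.of k))} [GrpObj H] (h : Red.IsSolvableGrp H) :
    ∃ n, derivedSeries (Pt H) n = ⊥ := by
  obtain ⟨n, hn⟩ := h
  exact ⟨n, hn _⟩

end Groth.Agent.Borel50.Solvable
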