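import Groth.Agent.Borel50.Cartan
import Groth.Agent.Borel50.Nilp
import Groth.Agent.Borel50.Solvable

/-!
# A connected group without connected unipotent subgroups is a torus
-/

set_option autoImplicit false
universe u

open CategoryTheory MonoidalCategory CartesianMonoidalCategory MonObj GrpObj AlgebraicGeometry Limits

noncomputable section

namespace Groth.Agent.Borel50.NoUnip

open Groth.Agent.Borel50.Pts Groth.Agent.Borel50.Lin Groth.Agent.Borel50.Density

attribute [local instance] ptTop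

variable {k : Type u} [Field k] [IsAlgClosed k]

/-- A subgroup of unipotent points contains no subtorus. -/
theorem hasNoSubtorus_of_unipotent {G U : Over (Spec (CommRingCat.of k))} [GrpObj G] [GrpObj U] [IsAffine G.left]
    [Smooth G.hom] {N : ℕ} (Φ : Rep k (Pt G) N) (hup : ∀ x, Φ.ρ x ∈ fil k N 0) (iU : U ⟶ G) [IsMonHom iU] [Mono iU]
    (h : (ptHom iU).range ≤ Φ.unipotent hup 1) : Red.HasNoSubtorus k U := by
  intro T _ j _ _ hT
  obtain ⟨_, _, _, _, -, -⟩ := TorusSch.torus_facts hT
  have := FixedPt.qc_G G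
  have := GrpScheme.HomFlat.isReduced_of_smooth T.hom
  have : IsSeparated T.hom := GrpScheme.IdComponent.isSeparated T
  have := Lin.Torus.isClosedImmersion_of_torus (j ≫ iU) hT
  have htor := Lin.Torus.isToral_range Φ (j ≫ iU) hT
  have hone : ∀ t : Pt T, t = 1 := fun t => by
    refine ptHom_injective (j ≫ iU) ?_
    rw [map_one]
    have := htor.closure_torsion (show ptHom (j ≫ iU) t ∈ (ptHom (j ≫ iU)).range from ⟨t, rfl⟩)
    refine closure_minimal ?_ (Φ.isClosed_singleton 1) this
    rintro x ⟨⟨s, rfl⟩, n, hn, hxn⟩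
    exact Φ.eq_one_of_unipotent_torsion hup hn (h ⟨s ≫ j, show (s ≫ j) ≫ iU = s ≫ j ≫ iU from Category.assoc _ _ _⟩) hxn
  have e : 𝟙 T = (1 : T ⟶ T) := Centralizer.hom_ext _ _ fun w => by
    rw [Category.comp_id, MonObj.comp_one, hone w]
  have e1 : toUnit T ≫ η[T] = 𝟙 T := by rw [e, Hom.one_def]
  exact ⟨(η[T] : 𝟙_ (Over (Spec (CommRingCat.of k))) ⟶ T).left, by
    have := congrArg CommaMorphism.left e1
    simpa using this, Over.w _⟩

/-- A connected group without nontrivial connected unipotent subgroups is a torus. -/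
theorem isTorus {G : Over (Spec (CommRingCat.of k))} [GrpObj G] [IsAffine G.left] [Smooth G.hom] [ConnectedSpace G.left]
    (h : ∀ (U : Over (Spec (CommRingCat.of k))) [GrpObj U] (i : U ⟶ G) [IsMonHom i], IsClosedImmersion i.left →
      Smooth U.hom → ConnectedSpace U.left → Red.HasNoSubtorus k U → Red.IsTrivialGrp U) :
    Red.IsTorus G := by
  classical
  have := FixedPt.qc_G G
  obtain ⟨B, _, iB, hB⟩ := Conj.exists_borel G
  have := hB.1
  have := hB.2.1
  have := hB.2.2.1
  have := hB.2.2.2.1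
  have : IsAffine B.left := isAffine_of_isAffineHom iB.left
  have := FixedPt.qc_G B
  have := GrpScheme.HomFlat.isReduced_of_smooth B.hom
  have := preconnectedSpace_pt (G := B)
  obtain ⟨M, ⟨Φ₀⟩⟩ := exists_rep (G := B)
  obtain ⟨d, hd⟩ := Solvable.points_of_isSolvableGrp hB.2.2.2.2.1
  obtain ⟨P, Q, hQP, hup⟩ := Φ₀.exists_upper hd
  let Φ := Φ₀.conj P Q hQP
  -- the unipotent points
  let U := Φ.unipotent hup 1
  have hUcl : IsClosed (U : Set (Pt B)) := by
    have : (U : Set (Pt B)) = ⋂ i : Fin M, {x | Φ.ρ x i i = 1} := by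
      ext x
      simp only [Set.mem_iInter, Set.mem_setOf_eq]
      refine ⟨fun hx i => congrFun (Φ.diag_of_mem_unipotent hx) i, fun hx => Φ.mem_unipotent_of_diag (funext hx)⟩
    rw [this]
    exact isClosed_iInter fun i => Φ.isClosed_apply i i 1
  let ΦU := Φ.restrict U hUcl
  let U₀ : Subgroup (Pt B) := ΦU.identityComponent.map U.subtype
  obtain ⟨K, _, iK, _, _, _, _, hmem, hconn⟩ := exists_sub U₀
    (Rep.isClosed_map_subtype hUcl ΦU.isClosed_identityComponent)
  have := hconn (Rep.isPreconnected_map_subtype isPreconnected_connectedComponent)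
  have : Mono iK := Over.mono_of_mono_left iK
  have hKU : (ptHom iK).range ≤ U := by
    rintro _ ⟨w, rfl⟩
    exact Subgroup.map_subtype_le _ ((hmem _).2 ⟨w, rfl⟩)
  have htriv : Red.IsTrivialGrp K := h K (iK ≫ iB) (by rw [Over.comp_left]; infer_instance) ‹_› ‹_›
    (hasNoSubtorus_of_unipotent Φ hup iK hKU)
  have hK1 : ∀ w : Pt K, w = 1 := fun w => by
    have : IsIso K.hom := htriv
    exact Over.OverMorphism.ext ((cancel_mono K.hom).1 (by rw [Over.w, Over.w]))
  have hU₀ : U₀ = ⊥ := le_antisymm (fun x hx => by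
    obtain ⟨w, rfl⟩ := (hmem x).1 hx
    rw [hK1 w, Subgroup.mem_bot]
    exact (MonObj.one_comp iK)) bot_le
  have hUfin : Finite U := by
    have hbot : ΦU.identityComponent = ⊥ := (Subgroup.map_eq_bot_iff_of_injective _ U.subtype_injective).1 hU₀
    have := ΦU.finiteIndex_identityComponent
    rw [hbot] at this
    exact Finite.of_equiv _ (QuotientGroup.quotientBot (G := U)).toEquiv
  obtain ⟨T, hT, hcov⟩ := Φ.exists_toral_lift hup
  have : T.FiniteIndex := by
    refine @Subgroup.finiteIndex_of_finite_quotient _ _ _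
      (Finite.of_surjective (fun u : U => (QuotientGroup.mk (u : Pt B) : Pt B ⧸ T)) ?_)
    rintro ⟨x⟩
    obtain ⟨t, ht, he⟩ := hcov x
    refine ⟨⟨x * t⁻¹, Φ.mem_unipotent_of_diag ?_⟩, QuotientGroup.eq.2 ?_⟩
    · rw [map_mul, ← he, ← map_mul, mul_inv_cancel, map_one]
    · rw [_root_.mul_inv_rev, _root_.inv_inv, inv_mul_cancel_right]
      exact ht
  have htop := Φ.eq_top_of_finiteIndex T hT.closed
  have hcen : Subgroup.upperCentralSeries (Pt B) 1 = ⊤ := by
    rw [Subgroup.upperCentralSeries_one, eq_top_iff]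
    exact fun x _ => Subgroup.mem_center_iff.2 fun y => hT.commute (htop ▸ trivial) (htop ▸ trivial)
  have : IsIso iB := Nilp.isIso_of_nilpotent_borel 1 G B iB hB hcen
  obtain ⟨T', _, j, _, _, _, hT', hr⟩ := Lin.Torus.exists_torus hT
  have : IsIso j := Nilp.isIso_of_forall j fun g => (by rw [hr, htop]; trivial : g ∈ (ptHom j).range)
  have := hT'
  exact TorusSch.isTorus_of_iso (asIso (j ≫ iB)) hT'

end Groth.Agent.Borel50.NoUnip
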