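import Groth.Agent.Borel50.Exists

/-!
# Conjugacy of Borel subgroups
-/

set_option autoImplicit false
universe u

open CategoryTheory MonoidalCategory CartesianMonoidalCategory MonObj GrpObj AlgebraicGeometry Limits

noncomputable section

namespace Groth.Agent.Borel50.Conj

open Groth.Agent.Borel50.Pts
open Groth.Agent.GrpScheme.Basic (smul one_smul' mul_smul')
open Groth.Agent.AGFQuot.Basic (comp_eq_iff existsUnique_desc)

variable {k : Type u} [Field k] {G H H' : Over (Spec (CommRingCat.of k))} [GrpObj G]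

lemma const_toUnit {T : Over (Spec (CommRingCat.of k))} (f : T ⟶ H) (g : Pt G) :
    f ≫ toUnit H ≫ g = toUnit T ≫ g := by
  rw [← Category.assoc, toUnit_unique (f ≫ toUnit H) (toUnit T)]

lemma comp_conjBy (g : Pt G) (i : H ⟶ G) (l : H' ⟶ H) : l ≫ AGF.conjBy g i = AGF.conjBy g (l ≫ i) := by
  simp only [AGF.conjBy, MonObj.comp_mul, GrpObj.comp_inv, const_toUnit]

lemma conjBy_conjBy (g h : Pt G) (i : H ⟶ G) : AGF.conjBy g (AGF.conjBy h i) = AGF.conjBy (g * h) i := by
  simp only [AGF.conjBy, MonObj.comp_mul]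
  group

lemma conjBy_one (i : H ⟶ G) : AGF.conjBy 1 i = i := by
  simp [AGF.conjBy]

lemma conjBy_inv_conjBy (g : Pt G) (i : H ⟶ G) : AGF.conjBy g⁻¹ (AGF.conjBy g i) = i := by
  rw [conjBy_conjBy, inv_mul_cancel, conjBy_one]

lemma conjBy_conjBy_inv (g : Pt G) (i : H ⟶ G) : AGF.conjBy g (AGF.conjBy g⁻¹ i) = i := by
  rw [conjBy_conjBy, mul_inv_cancel, conjBy_one]

/-- Conjugation as an automorphism of the scheme. -/
def conjIso (g : Pt G) : G ≅ G where
  hom := AGF.conjBy g (𝟙 G)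
  inv := AGF.conjBy g⁻¹ (𝟙 G)
  hom_inv_id := by rw [comp_conjBy, Category.comp_id, conjBy_inv_conjBy]
  inv_hom_id := by rw [comp_conjBy, Category.comp_id, conjBy_conjBy_inv]

lemma conjBy_eq (g : Pt G) (i : H ⟶ G) : AGF.conjBy g i = i ≫ (conjIso g).hom := by
  rw [conjIso, comp_conjBy, Category.comp_id]

lemma isClosedImmersion_conjBy (g : Pt G) (i : H ⟶ G) [IsClosedImmersion i.left] :
    IsClosedImmersion (AGF.conjBy g i).left := by
  rw [conjBy_eq, Over.comp_left]
  have : IsIso (conjIso g).hom.left := inferInstanceAs (IsIso ((Over.forget _).map (conjIso g).hom))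
  infer_instance

lemma isMonHom_conjBy [GrpObj H] (g : Pt G) (i : H ⟶ G) [IsMonHom i] : IsMonHom (AGF.conjBy g i) := by
  have hc : IsMonHom (conjIso g).hom :=
    { one_hom := by
        show η[G] ≫ AGF.conjBy g (𝟙 G) = η[G]
        rw [comp_conjBy, Category.comp_id]
        have h1 : (η[G] : 𝟙_ _ ⟶ G) = 1 := by rw [Hom.one_def, toUnit_unique (toUnit _) (𝟙 _), Category.id_comp]
        rw [h1]
        simp [AGF.conjBy]
      mul_hom := by
        show μ[G] ≫ AGF.conjBy g (𝟙 G) = (AGF.conjBy g (𝟙 G) ⊗ₘ AGF.conjBy g (𝟙 G)) ≫ μ[G]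
        rw [comp_conjBy, Category.comp_id, MonObj.mul_eq_mul, MonObj.comp_mul, tensorHom_fst, tensorHom_snd,
          comp_conjBy, comp_conjBy, Category.comp_id, Category.comp_id]
        simp only [AGF.conjBy]
        group }
  rw [conjBy_eq]
  infer_instance

lemma surjective_pts [IsAlgClosed k] {X Y : Over (Spec (CommRingCat.of k))} [LocallyOfFiniteType X.hom]
    [LocallyOfFiniteType Y.hom] (p : X ⟶ Y) [Surjective p.left] (y : Pt Y) : ∃ x : Pt X, x ≫ p = y := by
  have : JacobsonSpace X.left := LocallyOfFiniteType.jacobsonSpace X.hom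
  have hy : IsClosed ({pt y} : Set Y.left) := (pointEquivClosedPoint Y.hom ⟨y.left, Over.w y⟩).2
  obtain ⟨z, hz⟩ := p.left.surjective (pt y)
  obtain ⟨z', hz', hz'c⟩ := nonempty_inter_closedPoints (Z := p.left ⁻¹' {pt y}) ⟨z, hz⟩
    ((hy.preimage p.left.continuous).isLocallyClosed)
  obtain ⟨x, rfl⟩ := exists_pt hz'c
  exact ⟨x, Over.OverMorphism.ext (ext_of_apply_closedPoint_eq Y.hom (Over.w (x ≫ p)) (Over.w y) hz')⟩

variable [IsAlgClosed k] [GrpObj H]

/-- A connected solvable group acting on a proper homogeneous space is conjugate into the subgroup. -/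
theorem exists_conj_factor [IsAffine G.left] [Smooth G.hom] (iH : H ⟶ G) [IsMonHom iH] [IsClosedImmersion iH.left]
    [Smooth H.hom] [ConnectedSpace H.left] (hH : ∃ n, derivedSeries (Pt H) n = ⊥)
    {B X : Over (Spec (CommRingCat.of k))} [GrpObj B] {b : B ⟶ G} {a : AlgGrp.Action G X} {o : Pt X}
    (hX : AGF.IsQuotient b X a o) [IsProper X.hom] :
    ∃ (g : Pt G) (l : H ⟶ B), l ≫ b = AGF.conjBy g iH := by
  have := hX.1
  have := hX.2.2.1
  have : IsAffine H.left := isAffine_of_isAffineHom iH.left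
  have : Nonempty X.left := ⟨pt o⟩
  obtain ⟨x, hx⟩ := FixedPt.exists_fixedPt H X hH (FixedPt.restrict a iH)
  obtain ⟨g, rfl⟩ := surjective_pts (a.orbitMap o) x
  have e := hx H (𝟙 H)
  change smul (FixedPt.restrict a iH) (𝟙 H) _ = _ at e
  rw [FixedPt.smul_restrict, Category.id_comp, ← Category.assoc, GrpdLib.OrbitQuot.comp_orbitMap,
    toUnit_unique (toUnit H) (toUnit H)] at e
  have e2 : (iH * (toUnit H ≫ g)) ≫ a.orbitMap o = (toUnit H ≫ g) ≫ a.orbitMap o := by
    rw [GrpdLib.OrbitQuot.comp_orbitMap, GrpdLib.OrbitQuot.comp_orbitMap, mul_smul']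
    exact e
  obtain ⟨l, hl⟩ := (comp_eq_iff hX.2.2.2 _ _).1 e2.symm
  refine ⟨g⁻¹, l, ?_⟩
  simp only [AGF.conjBy, GrpObj.comp_inv, _root_.inv_inv, _root_.mul_assoc]
  rw [← hl, inv_mul_cancel_left]

/-- A homomorphism from a smooth subgroup containing its conjugate is an isomorphism. -/
lemma isIso_of_conj_factor [QuasiCompact G.hom] [LocallyOfFiniteType G.hom]
    {A B : Over (Spec (CommRingCat.of k))} (iA : A ⟶ G) (iB : B ⟶ G) [IsClosedImmersion iA.left]
    [IsClosedImmersion iB.left] [IsReduced B.left] (f : A ⟶ B) (hf : f ≫ iB = iA) (g : Pt G) (l : B ⟶ A)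
    (hl : l ≫ iA = AGF.conjBy g iB) : IsIso f := by
  have : IsLocallyNoetherian G.left := LocallyOfFiniteType.isLocallyNoetherian G.hom
  have : CompactSpace G.left := (quasiCompact_iff_compactSpace G.hom).1 inferInstance
  have : IsNoetherian G.left := {}
  have : IsIso (conjIso g).hom.left := inferInstanceAs (IsIso ((Over.forget _).map (conjIso g).hom))
  let τ := (conjIso g).hom.left
  have hτ := τ.isOpenEmbedding
  have hτs : Function.Surjective τ := τ.surjective
  let h := hτ.isEmbedding.toHomeomorphOfSurjective hτs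
  let R : TopologicalSpace.Closeds G.left := ⟨Set.range iB.left, iB.left.isClosedEmbedding.isClosed_range⟩
  let D : ℕ → TopologicalSpace.Closeds G.left := fun n =>
    Nat.rec R (fun _ Z => ⟨h '' Z, h.isClosedMap _ Z.isClosed⟩) n
  have hsub : h '' Set.range iB.left ⊆ Set.range iA.left := by
    rintro _ ⟨_, ⟨z, rfl⟩, rfl⟩
    refine ⟨l.left z, ?_⟩
    show (l ≫ iA).left z = τ (iB.left z)
    rw [hl, conjBy_eq]
    rfl
  have hAB : Set.range iA.left ⊆ Set.range iB.left := by
    rintro _ ⟨z, rfl⟩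
    exact ⟨f.left z, by rw [← hf]; rfl⟩
  have hanti : ∀ n, D (n + 1) ≤ D n := fun n => by
    induction n with
    | zero => exact hsub.trans hAB
    | succ n ih => exact Set.image_mono ih
  obtain ⟨c, ⟨n, rfl⟩, hmin⟩ :=
    (wellFounded_lt (α := TopologicalSpace.Closeds G.left)).has_min (Set.range D) ⟨R, 0, rfl⟩
  have heq : D (n + 1) = D n := ((hanti n).lt_or_eq).resolve_left (hmin _ ⟨n + 1, rfl⟩)
  have hback : ∀ m, D (m + 1) = D m → D 1 = D 0 := fun m => by
    induction m with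
    | zero => exact id
    | succ m ih => exact fun e => ih (SetLike.coe_injective
        (h.injective.image_injective (congrArg (fun Z : TopologicalSpace.Closeds G.left => (Z : Set G.left)) e)))
  have h10 : h '' Set.range iB.left = Set.range iB.left :=
    congrArg (fun Z : TopologicalSpace.Closeds G.left => (Z : Set G.left)) (hback n heq)
  have : IsClosedImmersion f.left := by
    have : IsClosedImmersion (f.left ≫ iB.left) := by rw [← Over.comp_left, hf]; infer_instance
    exact IsClosedImmersion.of_comp f.left iB.left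
  refine Exists.isIso_of_range_eq f (Set.eq_univ_of_forall fun z => ?_)
  obtain ⟨w, hw⟩ := hsub (h10.symm.subset ⟨z, rfl⟩)
  refine ⟨w, iB.left.isClosedEmbedding.injective ?_⟩
  rw [← hw, ← hf]; rfl

variable [IsAffine G.left] [Smooth G.hom]

/-- A connected solvable subgroup with proper quotient is a Borel subgroup. -/
theorem isBorelOver_of_proper (iH : H ⟶ G) [IsMonHom iH] [IsClosedImmersion iH.left]
    [Smooth H.hom] [ConnectedSpace H.left] (hsolv : Red.IsSolvableGrp H)
    {X : Over (Spec (CommRingCat.of k))} {a : AlgGrp.Action G X} {o : Pt X}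
    (hX : AGF.IsQuotient iH X a o) [IsProper X.hom] : Red.IsBorelOver k iH := by
  refine ⟨inferInstance, inferInstance, inferInstance, inferInstance, hsolv, ?_⟩
  intro B' _ i' _ f hcl hsm hconn hsB hf
  obtain ⟨n, hn⟩ := hsB
  obtain ⟨g, l, hl⟩ := exists_conj_factor i' ⟨n, hn _⟩ hX
  have := GrpScheme.HomFlat.isReduced_of_smooth B'.hom
  have := FixedPt.qc_G G
  exact isIso_of_conj_factor iH i' f hf g l hl

/-- Every Borel subgroup is conjugate to a given connected solvable subgroup with proper quotient. -/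
theorem exists_iso_of_proper (iH : H ⟶ G) [IsMonHom iH] [IsClosedImmersion iH.left]
    [Smooth H.hom] [ConnectedSpace H.left] (hsolv : Red.IsSolvableGrp H)
    {X : Over (Spec (CommRingCat.of k))} {a : AlgGrp.Action G X} {o : Pt X}
    (hX : AGF.IsQuotient iH X a o) [IsProper X.hom]
    {B : Over (Spec (CommRingCat.of k))} [GrpObj B] (iB : B ⟶ G) (hB : Red.IsBorelOver k iB) :
    ∃ (g : Pt G) (e : H ≅ B), e.hom ≫ iB = AGF.conjBy g iH := by
  obtain ⟨hBh, hBc, hBs, hBconn, ⟨n, hn⟩, hmax⟩ := hB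
  obtain ⟨g, l, hl⟩ := exists_conj_factor iB ⟨n, hn _⟩ hX
  have := isMonHom_conjBy g⁻¹ iH
  have := isClosedImmersion_conjBy g⁻¹ iH
  have : IsIso l := hmax H (AGF.conjBy g⁻¹ iH) l ‹_› ‹_› ‹_› hsolv
    (by rw [comp_conjBy, hl, conjBy_inv_conjBy])
  refine ⟨g⁻¹, (asIso l).symm, ?_⟩
  show inv l ≫ iB = _
  rw [IsIso.inv_comp_eq, comp_conjBy, hl, conjBy_inv_conjBy]

omit [IsAlgClosed k] [GrpObj H] [IsAffine G.left] [Smooth G.hom] in
/-- A conjugate of a Borel subgroup is a Borel subgroup. -/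
theorem isBorelOver_conjBy {B : Over (Spec (CommRingCat.of k))} [GrpObj B] (iB : B ⟶ G)
    (hB : Red.IsBorelOver k iB) (g : Pt G) : Red.IsBorelOver k (AGF.conjBy g iB) := by
  obtain ⟨h1, h2, h3, h4, h5, hmax⟩ := hB
  refine ⟨isMonHom_conjBy g iB, isClosedImmersion_conjBy g iB, h3, h4, h5, ?_⟩
  intro B' _ i' _ f hcl hsm hconn hs hf
  have := isMonHom_conjBy g⁻¹ i'
  exact hmax B' (AGF.conjBy g⁻¹ i') f (have := hcl; isClosedImmersion_conjBy g⁻¹ i') hsm hconn hs
    (by rw [comp_conjBy, hf, conjBy_inv_conjBy])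

variable [ConnectedSpace G.left]

/-- Borel subgroups are conjugate. -/
theorem borel_conj {B B' : Over (Spec (CommRingCat.of k))} [GrpObj B] [GrpObj B'] (iB : B ⟶ G) (iB' : B' ⟶ G)
    (hB : Red.IsBorelOver k iB) (hB' : Red.IsBorelOver k iB') :
    ∃ (g : Pt G) (f : B ≅ B'), f.hom ≫ iB' = AGF.conjBy g iB := by
  obtain ⟨B₀, _, b, _, _, _, _, hs, X, a, o, hX, _⟩ := Exists.exists_proper_quotient G
  obtain ⟨g, e, he⟩ := exists_iso_of_proper b hs hX iB hB
  obtain ⟨g', e', he'⟩ := exists_iso_of_proper b hs hX iB' hB'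
  refine ⟨g' * g⁻¹, e.symm ≪≫ e', ?_⟩
  have hb : e.inv ≫ AGF.conjBy g b = iB := by rw [← he, Iso.inv_hom_id_assoc]
  rw [Iso.trans_hom, Iso.symm_hom, Category.assoc, he', comp_conjBy, ← hb, comp_conjBy g,
    conjBy_conjBy, inv_mul_cancel_right]

/-- The quotient by a subgroup containing a conjugate of one with proper quotient is proper. -/
theorem isProper_of_conj {B B' X X' : Over (Spec (CommRingCat.of k))} [GrpObj B] [GrpObj B'] {b : B ⟶ G} {b' : B' ⟶ G}
    [IsMonHom b'] [IsClosedImmersion b'.left] {a : AlgGrp.Action G X} {o : Pt X} {a' : AlgGrp.Action G X'} {o' : Pt X'}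
    (hX : AGF.IsQuotient b X a o) [IsProper X.hom] (hX' : AGF.IsQuotient b' X' a' o')
    (g : Pt G) (l : B ⟶ B') (hl : l ≫ b' = AGF.conjBy g b) : IsProper X'.hom := by
  have := hX.1
  have := hX'.1
  have := FixedPt.qc_G G
  let p' := a'.orbitMap o'
  let F : G ⟶ X' := (𝟙 G * (toUnit G ≫ g⁻¹)) ≫ p'
  obtain ⟨φ, hφ, -⟩ := existsUnique_desc (ProperQuot.isCover hX) hX.2.2.2 F fun T x t => by
    show (x * t ≫ b) ≫ (𝟙 G * (toUnit G ≫ g⁻¹)) ≫ p' = x ≫ (𝟙 G * (toUnit G ≫ g⁻¹)) ≫ p'
    rw [← Category.assoc, ← Category.assoc]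
    refine ((comp_eq_iff hX'.2.2.2 _ _).mpr ⟨t ≫ l, ?_⟩).symm
    rw [Category.assoc, hl, comp_conjBy]
    simp only [AGF.conjBy, MonObj.comp_mul, Category.comp_id, const_toUnit, GrpObj.comp_inv]
    group
  have : Surjective φ.left := by
    have hs : Surjective F.left := by
      have : IsIso ((𝟙 G * (toUnit G ≫ g⁻¹)) : G ⟶ G) :=
        ⟨𝟙 G * (toUnit G ≫ g), by simp [MonObj.comp_mul, const_toUnit, _root_.mul_assoc, GrpObj.comp_inv],
          by simp [MonObj.comp_mul, const_toUnit, _root_.mul_assoc, GrpObj.comp_inv]⟩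
      have : IsIso (𝟙 G * (toUnit G ≫ g⁻¹) : G ⟶ G).left :=
        inferInstanceAs (IsIso ((Over.forget _).map (𝟙 G * (toUnit G ≫ g⁻¹) : G ⟶ G)))
      have := hX'.2.2.1
      exact inferInstanceAs (Surjective ((𝟙 G * (toUnit G ≫ g⁻¹) : G ⟶ G).left ≫ p'.left))
    rw [← hφ, Over.comp_left] at hs
    exact Surjective.of_comp (a.orbitMap o).left φ.left
  have : UniversallyClosed (φ.left ≫ X'.hom) := by rw [Over.w φ]; infer_instance
  have : UniversallyClosed X'.hom := UniversallyClosed.of_comp_surjective φ.left _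
  have := ProperQuot.isSeparated_quotient hX'
  exact {}

/-- The quotient by a Borel subgroup is proper. -/
theorem isProper_quotient_borel {B : Over (Spec (CommRingCat.of k))} [GrpObj B] (iB : B ⟶ G)
    (hB : Red.IsBorelOver k iB) {X : Over (Spec (CommRingCat.of k))} {a : AlgGrp.Action G X} {o : Pt X}
    (hX : AGF.IsQuotient iB X a o) : IsProper X.hom := by
  obtain ⟨B₀, _, b, _, _, _, _, hs, X₀, a₀, o₀, hX₀, _⟩ := Exists.exists_proper_quotient G
  obtain ⟨g, e, he⟩ := exists_iso_of_proper b hs hX₀ iB hB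
  have := hB.1
  have := hB.2.1
  exact isProper_of_conj hX₀ hX g e.hom he

variable (G) in
/-- Borel subgroups exist. -/
theorem exists_borel :
    ∃ (B : Over (Spec (CommRingCat.of k))) (_ : GrpObj B) (b : B ⟶ G), Red.IsBorelOver k b := by
  obtain ⟨B₀, _, b, _, _, _, _, hs, X, a, o, hX, _⟩ := Exists.exists_proper_quotient G
  exact ⟨B₀, ‹_›, b, isBorelOver_of_proper b hs hX⟩

end Groth.Agent.Borel50.Conj
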