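import Groth.Agent.Borel50.Conseq
import Groth.Agent.LimGrp.Quot
import Groth.Agent.GrpScheme.IdComponent
import Groth.Agent.FlatMor.GeomDescent
import Groth.Prelude.Def_ActBC
import Groth.Agent.S3904

/-!
# Borel subgroups and base change to an algebraic closure
-/

set_option autoImplicit false
universe u

open CategoryTheory MonoidalCategory CartesianMonoidalCategory MonObj GrpObj AlgebraicGeometry Limits

noncomputable section

namespace Groth.Agent.Borel50.BaseChange

variable {S S' : Scheme.{u}} (f : S' ⟶ S) {G H X : Over S} [GrpObj G]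

/-- The base change of a section. -/
def bcPt (x : 𝟙_ (Over S) ⟶ X) : 𝟙_ (Over S') ⟶ Red.bc f X :=
  Functor.LaxMonoidal.ε (Over.pullback f) ≫ (Over.pullback f).map x

lemma orbitMap_bc (a : AlgGrp.Action G X) (x : 𝟙_ (Over S) ⟶ X) :
    (a.bc f).orbitMap (bcPt f x) = (Over.pullback f).map (a.orbitMap x) := by
  have e : lift (𝟙 (Red.bc f G)) (toUnit (Red.bc f G) ≫ bcPt f x) ≫ Functor.LaxMonoidal.μ (Over.pullback f) G X =
      (Over.pullback f).map (lift (𝟙 G) (toUnit G ≫ x)) := by
    rw [← cancel_mono (Functor.Monoidal.μIso (Over.pullback f) G X).inv]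
    refine CartesianMonoidalCategory.hom_ext _ _ ?_ ?_ <;>
    simp [bcPt, Functor.OplaxMonoidal.δ_fst, Functor.OplaxMonoidal.δ_snd, ← Functor.map_comp,
      Functor.Monoidal.toUnit_ε_assoc]
  show lift (𝟙 _) (toUnit _ ≫ bcPt f x) ≫ Functor.LaxMonoidal.μ (Over.pullback f) G X ≫ (Over.pullback f).map a.act = _
  rw [← Category.assoc, e, ← Functor.map_comp]
  rfl

/-- Quotients are stable under base change. -/
theorem isQuotient_bc [GrpObj H] {i : H ⟶ G} {a : AlgGrp.Action G X} {o : 𝟙_ (Over S) ⟶ X}
    (hX : AGF.IsQuotient i X a o) :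
    AGF.IsQuotient ((Over.pullback f).map i) (Red.bc f X) (a.bc f) (bcPt f o) := by
  obtain ⟨hl, hf, hs, hq⟩ := hX
  refine ⟨?_, ?_, ?_, ?_⟩
  · exact inferInstanceAs (LocallyOfFiniteType (pullback.snd X.hom f))
  · rw [orbitMap_bc]; exact LimGrp.property_map @Flat f _ hf
  · rw [orbitMap_bc]; exact LimGrp.property_map @Surjective f _ hs
  · rw [orbitMap_bc]
    have h := hq.map (Over.pullback f)
    refine h.of_iso (Functor.Monoidal.μIso (Over.pullback f) G H).symm (Iso.refl _) (Iso.refl _) (Iso.refl _) ?_ ?_ (by simp) (by simp)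
    · simp [Functor.OplaxMonoidal.δ_fst]
    · rw [Iso.refl_hom, Category.comp_id, Iso.symm_hom, Iso.eq_inv_comp, Functor.Monoidal.μIso_hom,
        Functor.map_comp, Functor.obj.μ_def, Functor.LaxMonoidal.μ_natural_right_assoc]

section Field

variable {k : Type u} [Field k] {K : Type u} [Field K] (g : Spec (CommRingCat.of K) ⟶ Spec (CommRingCat.of k))

lemma surjective_g : Surjective g :=
  ⟨fun x => ⟨IsLocalRing.closedPoint K, Subsingleton.elim _ _⟩⟩

lemma flat_g : Flat g := by
  obtain ⟨φ, rfl⟩ := Spec.map_surjective g
  rw [HasRingHomProperty.Spec_iff (P := @Flat)]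
  let := φ.hom.toAlgebra
  exact RingHom.flat_algebraMap_iff.mpr (inferInstance : Module.Flat k K)

/-- A connected group over a field is connected after base change. -/
lemma connectedSpace_bc (G : Over (Spec (CommRingCat.of k))) [GrpObj G] [ConnectedSpace G.left]
    [LocallyOfFiniteType G.hom] : ConnectedSpace (Red.bc g G).left := by
  have : IrreducibleSpace G.left := by
    have h1 : irreducibleComponent (GrpScheme.IdComponent.e₀ G) = Set.univ := by
      rw [← GrpScheme.IdComponent.connectedComponent_eq]
      exact PreconnectedSpace.connectedComponent_eq_univ _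
    exact { toPreirreducibleSpace := ⟨h1 ▸ (isIrreducible_irreducibleComponent).2⟩
            toNonempty := ⟨GrpScheme.IdComponent.e₀ G⟩ }
  have := GrpScheme.Component.geometricallyIrreducible_of_irreducibleSpace G
  have : IrreducibleSpace (Red.bc g G).left := GeometricallyIrreducible.geometrically_irreducibleSpace
    (f := G.hom) g (pullback.fst G.hom g) (pullback.snd G.hom g) (IsPullback.of_hasPullback _ _)
  infer_instance

lemma isAffine_bc (G : Over (Spec (CommRingCat.of k))) [IsAffine G.left] : IsAffine (Red.bc g G).left := by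
  show IsAffine (pullback G.hom g)
  infer_instance

/-- Properness descends from a field extension. -/
lemma isProper_of_bc (X : Over (Spec (CommRingCat.of k))) (h : IsProper (Red.bc g X).hom) : IsProper X.hom := by
  have := surjective_g g
  have := flat_g g
  have := FpqcDesc.descendsAlong_isProper.{u}
  exact MorphismProperty.of_isPullback_of_descendsAlong (Q := @Surjective ⊓ @Flat ⊓ @QuasiCompact)
    (IsPullback.of_hasPullback X.hom g).flip ⟨⟨inferInstance, inferInstance⟩, inferInstance⟩ h

variable [IsAlgClosed K]

/-- Over an algebraically closed extension, parabolic means proper quotient. -/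
theorem parabolic_iff_proper {G P : Over (Spec (CommRingCat.of k))} [GrpObj G] [GrpObj P] [IsAffine G.left]
    [Smooth G.hom] [ConnectedSpace G.left] (iP : P ⟶ G) [IsMonHom iP] [IsClosedImmersion iP.left] [Smooth P.hom]
    {X : Over (Spec (CommRingCat.of k))} {a : AlgGrp.Action G X} {o : 𝟙_ _ ⟶ X} (hX : AGF.IsQuotient iP X a o) :
    IsProper X.hom ↔ Red.IsParabolicOver K ((Over.pullback g).map iP) := by
  have := isAffine_bc g G
  have := connectedSpace_bc g G
  have : Smooth (Red.bc g G).hom := inferInstanceAs (Smooth (pullback.snd G.hom g))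
  have : Smooth (Red.bc g P).hom := inferInstanceAs (Smooth (pullback.snd P.hom g))
  have hc : IsClosedImmersion ((Over.pullback g).map iP).left :=
    LimGrp.property_map @IsClosedImmersion g iP ‹_›
  have h := S3904.result K (Red.bc g G) (Red.bc g P) ((Over.pullback g).map iP) hc _ _ _ (isQuotient_bc g hX)
  rw [← h]
  exact ⟨fun _ => inferInstanceAs (IsProper (pullback.snd X.hom g)), isProper_of_bc g X⟩

/-- The quotient by a subgroup which is geometrically a Borel subgroup is proper. -/
theorem isProper_of_borel {G B : Over (Spec (CommRingCat.of k))} [GrpObj G] [GrpObj B] [IsAffine G.left]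
    [Smooth G.hom] [ConnectedSpace G.left] (iB : B ⟶ G) (hB : Red.IsBorelOver K ((Over.pullback g).map iB))
    {X : Over (Spec (CommRingCat.of k))} {a : AlgGrp.Action G X} {o : 𝟙_ _ ⟶ X} (hX : AGF.IsQuotient iB X a o) :
    IsProper X.hom := by
  have := isAffine_bc g G
  have := connectedSpace_bc g G
  have : Smooth (Red.bc g G).hom := inferInstanceAs (Smooth (pullback.snd G.hom g))
  exact isProper_of_bc g X (Conj.isProper_quotient_borel _ hB (isQuotient_bc g hX))

/-- Images of geometric Borel subgroups are geometric Borel subgroups. -/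
theorem isBorelOver_image {G Q B B' : Over (Spec (CommRingCat.of k))} [GrpObj G] [GrpObj Q] [GrpObj B] [GrpObj B']
    [IsAffine G.left] [Smooth G.hom] [ConnectedSpace G.left] [IsAffine Q.left] [Smooth Q.hom]
    (q : G ⟶ Q) [IsMonHom q] [Surjective q.left] (iB : B ⟶ G) (hBm : IsMonHom iB) (hBc : IsClosedImmersion iB.left)
    [Smooth B.hom] (hB : Red.IsBorelOver K ((Over.pullback g).map iB)) (iB' : B' ⟶ Q) [IsMonHom iB']
    [IsClosedImmersion iB'.left] [IsReduced B'.left] (p : B ⟶ B') [Surjective p.left] (hp : p ≫ iB' = iB ≫ q) :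
    Red.IsBorelOver K ((Over.pullback g).map iB') := by
  have := isAffine_bc g G
  have := isAffine_bc g Q
  have := connectedSpace_bc g G
  have : Smooth (Red.bc g G).hom := inferInstanceAs (Smooth (pullback.snd G.hom g))
  have : Smooth (Red.bc g Q).hom := inferInstanceAs (Smooth (pullback.snd Q.hom g))
  have : Smooth (Red.bc g B).hom := inferInstanceAs (Smooth (pullback.snd B.hom g))
  have := hBm
  have : Mono iB' := Over.mono_of_mono_left iB'
  have : IsMonHom p :=
    { one_hom := by
        rw [← cancel_mono iB', Category.assoc, hp, IsMonHom.one_hom (iB ≫ q), IsMonHom.one_hom iB']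
      mul_hom := by
        rw [← cancel_mono iB', Category.assoc, Category.assoc, hp, IsMonHom.mul_hom (iB ≫ q),
          IsMonHom.mul_hom iB', MonoidalCategory.tensorHom_comp_tensorHom_assoc, hp] }
  have := FixedPt.qc_G Q
  have : LocallyOfFiniteType B'.hom := by rw [← Over.w iB']; infer_instance
  have : Flat p.left := GrpScheme.HomFlat.flat_of_surjective p
  have hs : Surjective ((Over.pullback g).map p).left := LimGrp.property_map @Surjective g p ‹_›
  have hf : Flat ((Over.pullback g).map p).left := LimGrp.property_map @Flat g p ‹_›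
  have hsq : Surjective ((Over.pullback g).map q).left := LimGrp.property_map @Surjective g q ‹_›
  have hcl : IsClosedImmersion ((Over.pullback g).map iB').left :=
    LimGrp.property_map @IsClosedImmersion g iB' ‹_›
  have : IsReduced (Red.bc g B).left := GrpScheme.HomFlat.isReduced_of_smooth (Red.bc g B).hom
  have : IsReduced (Red.bc g B').left := FlatMor.GeomDescent.isReduced_of_flat_surjective ((Over.pullback g).map p).left
  exact Conseq.isBorelOver_image ((Over.pullback g).map q) _ hB _ ((Over.pullback g).map p)
    (by rw [← Functor.map_comp, hp, Functor.map_comp])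

end Field

end Groth.Agent.Borel50.BaseChange
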