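import Groth.Agent.Borel50.Centralizer

/-!
# Cartan subgroups and nilpotent groups
-/

set_option autoImplicit false
universe u v

open CategoryTheory MonoidalCategory CartesianMonoidalCategory MonObj GrpObj AlgebraicGeometry Limits
open scoped commutatorElement

noncomputable section

namespace Groth.Agent.Borel50

namespace Lin.Rep

variable {k : Type u} [Field k] {N : ℕ} {Γ : Type v} [Group Γ] [TopologicalSpace Γ] (Φ : Rep k Γ N)

/-- A unipotent element of order prime to the characteristic is trivial. -/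
lemma eq_one_of_unipotent_torsion (hup : ∀ x, Φ.ρ x ∈ fil k N 0) {n : ℕ} (hn : (n : k) ≠ 0) {u : Γ}
    (hu : u ∈ Φ.unipotent hup 1) (hun : u ^ n = 1) : u = 1 := by
  have key : ∀ m, u ∈ Φ.unipotent hup (m + 1) := by
    intro m
    induction m with
    | zero => exact hu
    | succ m ih =>
      refine Φ.mem_succ_of_lead hup (by omega) (a := ⟨u, ih⟩) ?_
      have h1 : Φ.lead hup (by omega : 1 ≤ m + 1) ⟨u, ih⟩ ^ n = 1 := by
        rw [← map_pow, show (⟨u, ih⟩ : Φ.unipotent hup (m + 1)) ^ n = 1 from Subtype.ext hun, map_one]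
      have h2 := congrArg Multiplicative.toAdd h1
      rw [toAdd_pow, toAdd_one, ← Nat.cast_smul_eq_nsmul k, smul_eq_zero] at h2
      exact Multiplicative.toAdd.injective (h2.resolve_left hn)
  exact Φ.inj (by rw [map_one, ← sub_eq_zero]; exact eq_zero_of_fil (Nat.le_succ N) (key N))

/-- In a nilpotent triangular group the elements of order prime to the characteristic are central. -/
theorem torsion_central [Group.IsNilpotent Γ] (hup : ∀ x, Φ.ρ x ∈ fil k N 0) {n : ℕ} (hn : (n : k) ≠ 0) {s : Γ}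
    (hs : s ^ n = 1) (x : Γ) : x * s = s * x := by
  obtain ⟨c, hc⟩ := (inferInstance : Group.IsNilpotent Γ)
  suffices key : ∀ j, ∀ y ∈ Subgroup.upperCentralSeries Γ j, y * s = s * y from key c x (hc ▸ trivial)
  intro j
  induction j with
  | zero => intro y hy; rw [Subgroup.upperCentralSeries_zero, Subgroup.mem_bot] at hy; simp [hy]
  | succ j ih =>
    intro y hy
    let u := ⁅y, s⁆
    have hu : u ∈ Φ.unipotent hup 1 := Φ.mem_unipotent_of_diag (by
      show Φ.diagHom hup (y * s * y⁻¹ * s⁻¹) = 1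
      calc _ = (Φ.diagHom hup y * Φ.diagHom hup y⁻¹) * (Φ.diagHom hup s * Φ.diagHom hup s⁻¹) := by
            simp only [map_mul]; ring
        _ = 1 := by rw [← map_mul, ← map_mul, mul_inv_cancel, mul_inv_cancel, map_one, _root_.mul_one])
    have hus : Commute u s := ih u (Subgroup.mem_upperCentralSeries_succ_iff.1 hy s)
    have hys : y * s * y⁻¹ = u * s := by simp only [u, commutatorElement_def]; group
    have h1 : u ^ n = 1 := by
      have h2 : (u * s) ^ n = 1 := by rw [← hys, conj_pow, hs]; group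
      rwa [hus.mul_pow, hs, _root_.mul_one] at h2
    have hu1 := Φ.eq_one_of_unipotent_torsion hup hn hu h1
    rw [hu1, _root_.one_mul] at hys
    calc y * s = (y * s * y⁻¹) * y := by group
      _ = s * y := by rw [hys]

end Lin.Rep

namespace Cartan

open Groth.Agent.Borel50.Pts Groth.Agent.Borel50.Lin Groth.Agent.Borel50.Density

attribute [local instance] ptTop

variable {k : Type u} [Field k] [IsAlgClosed k] {G : Over (Spec (CommRingCat.of k))} [GrpObj G]

/-- A rational point in the image of a morphism lifts to a rational point. -/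
lemma exists_pt_of_mem {X Y : Over (Spec (CommRingCat.of k))} [LocallyOfFiniteType X.hom]
    [LocallyOfFiniteType Y.hom] [IsSeparated Y.hom] (p : X ⟶ Y) (y : Pt Y) (h : pt y ∈ Set.range p.left) :
    ∃ x : Pt X, x ≫ p = y := by
  have : JacobsonSpace X.left := LocallyOfFiniteType.jacobsonSpace X.hom
  obtain ⟨z, hz⟩ := h
  obtain ⟨z', hz', hz'c⟩ := nonempty_inter_closedPoints (Z := p.left ⁻¹' {pt y}) ⟨z, hz⟩
    (((ConjDense.isClosed_singleton_pt y).preimage p.left.continuous).isLocallyClosed)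
  obtain ⟨x, rfl⟩ := exists_pt hz'c
  exact ⟨x, ConjDense.ext_pt hz'⟩

variable [IsAffine G.left] [Smooth G.hom]

omit [IsAlgClosed k] [IsAffine G.left] [Smooth G.hom] in
lemma iterated_comp {X Y : Over (Spec (CommRingCat.of k))} (f : X ⟶ Y) (a b : Y ⟶ G) :
    f ≫ ⁅a, b⁆ = ⁅f ≫ a, f ≫ b⁆ := by
  simp only [commutatorElement_def, MonObj.comp_mul, GrpObj.comp_inv]

/-- A group with nilpotent rational points is nilpotent. -/
theorem isNilpotentGrp_of_points (h : Group.IsNilpotent (Pt G)) : AGF.IsNilpotentGrp G := by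
  obtain ⟨n, hn⟩ := h
  refine ⟨n, fun X => eq_top_iff.2 fun g _ => ?_⟩
  have : IsSeparated G.hom := GrpScheme.IdComponent.isSeparated G
  -- iterated commutators as morphisms
  have key : ∀ (j : ℕ) (W : Over (Spec (CommRingCat.of k))) (_ : Smooth W.hom) (f : W ⟶ G),
      (∀ w : Pt W, w ≫ f ∈ Subgroup.upperCentralSeries (Pt G) j) →
      ∀ {X : Over (Spec (CommRingCat.of k))} (x : X ⟶ W), x ≫ f ∈ Subgroup.upperCentralSeries (X ⟶ G) j := by
    intro j
    induction j with
    | zero =>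
      intro W hW f hf X x
      have := GrpScheme.HomFlat.isReduced_of_smooth W.hom
      have e : f = 1 := Centralizer.hom_ext f 1 fun w => by
        have := hf w
        rw [Subgroup.upperCentralSeries_zero, Subgroup.mem_bot] at this
        rw [this, MonObj.comp_one]
      rw [Subgroup.upperCentralSeries_zero, Subgroup.mem_bot, e, MonObj.comp_one]
    | succ j ih =>
      intro W hW f hf X x
      refine Subgroup.mem_upperCentralSeries_succ_iff.2 fun y => ?_
      have hWG : Smooth (W ⊗ G).hom := inferInstanceAs (Smooth (pullback.fst W.hom G.hom ≫ W.hom))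
      have h1 := ih (W ⊗ G) hWG ⁅fst W G ≫ f, snd W G⁆ (fun w => by
        rw [iterated_comp, ← Category.assoc]
        exact Subgroup.mem_upperCentralSeries_succ_iff.1 (hf _) _) (lift x y)
      rwa [iterated_comp, lift_fst_assoc, lift_snd] at h1
  have := key n G ‹_› (𝟙 G) (fun w => by rw [hn]; trivial) g
  rwa [Category.comp_id] at this

variable [ConnectedSpace G.left]

/-- The conjugates of a Cartan subgroup fill an open subset. -/
theorem exists_open_cartan {N : ℕ} (Φ : Rep k (Pt G) N) {T : Subgroup (Pt G)} (hT : Φ.IsToral T)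
    (hmax : ∀ T', Φ.IsToral T' → T ≤ T' → T' = T) :
    ∃ U : G.left.Opens, (U : Set G.left).Nonempty ∧ ∀ x : Pt G, pt x ∈ U →
      ∃ g : Pt G, g⁻¹ * x * g ∈ Subgroup.centralizer (T : Set (Pt G)) := by
  classical
  have := FixedPt.qc_G G
  have : IsSeparated G.hom := GrpScheme.IdComponent.isSeparated G
  obtain ⟨hnil, hss⟩ := cartan Φ hT hmax
  set C := Φ.centralizerComp T with hC
  obtain ⟨K, _, iK, _, _, _, _, hmem, hconn⟩ := exists_sub C (Φ.isClosed_centralizerComp T)
  have := hconn (Φ.isPreconnected_centralizerComp T)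
  have : IsAffine K.left := isAffine_of_isAffineHom iK.left
  have : IsSeparated K.hom := GrpScheme.IdComponent.isSeparated K
  obtain ⟨t, ht, hgen⟩ := hT.exists_generic
  obtain ⟨h₀, hh₀⟩ := (hmem t).1 (hT.le_centralizerComp_self ht)
  obtain ⟨S, hS⟩ := hT.exists_finite_normalizer
  obtain ⟨U, hU, hsub⟩ := ConjDense.exists_open_subset_conj iK h₀ S fun x h hxh => by
    rw [hh₀] at hxh
    have hc' : h ≫ iK ∈ C := (hmem _).2 ⟨h, rfl⟩
    have hTconj : ∀ s ∈ T, x * s * x⁻¹ ∈ T := by
      have ht' : h ≫ iK ∈ T := by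
        obtain ⟨P, Q, hQP, hd⟩ := (hT.map_conj x⁻¹).diag
        refine hss _ hc' ⟨P, Q, hQP, hd _ ⟨t, ht, ?_⟩⟩
        simp [← hxh]
      intro s hs
      obtain ⟨P', Q', hQP', hd'⟩ := (hT.map_conj x).diag
      refine hss _ ?_ ⟨P', Q', hQP', hd' _ ⟨s, hs, by simp⟩⟩
      rw [hC, ← Centralizer.centralizer_eq Φ hT]
      refine Subgroup.mem_centralizer_iff.2 fun r hr => (hgen _ ?_ r hr).symm
      have h1 : s * (h ≫ iK) = (h ≫ iK) * s := hT.commute hs ht'
      have ht2 : t = x * (h ≫ iK) * x⁻¹ := by rw [← hxh]; group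
      rw [ht2]
      calc x * s * x⁻¹ * (x * (h ≫ iK) * x⁻¹) = x * (s * (h ≫ iK)) * x⁻¹ := by group
        _ = x * ((h ≫ iK) * s) * x⁻¹ := by rw [h1]
        _ = x * (h ≫ iK) * x⁻¹ * (x * s * x⁻¹) := by group
    have hTconj' : ∀ s ∈ T, x⁻¹ * s * x ∈ T := fun s hs => by
      have hle : T ≤ T.map (MulAut.conj x⁻¹).toMonoidHom := fun r hr =>
        ⟨x * r * x⁻¹, hTconj r hr, by simp [_root_.mul_assoc]⟩
      rw [← hmax _ (hT.map_conj x⁻¹) hle]
      exact ⟨s, hs, by simp⟩
    obtain ⟨y, hy, hyx⟩ := hS x fun s hs => ⟨hTconj s hs, hTconj' s hs⟩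
    obtain ⟨h', hh'⟩ := (hmem _).1 hyx
    exact ⟨y, hy, h', by rw [hh']; group⟩
  refine ⟨U, hU, fun x hx => ?_⟩
  have : LocallyOfFiniteType (G ⊗ K).hom :=
    inferInstanceAs (LocallyOfFiniteType (pullback.fst G.hom K.hom ≫ G.hom))
  obtain ⟨w, hw⟩ := exists_pt_of_mem _ x (hsub hx)
  refine ⟨w ≫ fst G K, Φ.centralizerComp_le T ((hmem _).2 ⟨w ≫ snd G K, ?_⟩)⟩
  rw [← hw]
  simp only [MonObj.comp_mul, GrpObj.comp_inv, Category.assoc]
  group

/-- In a nilpotent group every torus is central. -/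
theorem toral_central {N : ℕ} (Φ : Rep k (Pt G) N) (hnil : Group.IsNilpotent (Pt G)) {T : Subgroup (Pt G)}
    (hT : Φ.IsToral T) (g : Pt G) {s : Pt G} (hs : s ∈ T) : g * s = s * g := by
  have := preconnectedSpace_pt (G := G)
  obtain ⟨d, hd⟩ : ∃ d, derivedSeries (Pt G) d = ⊥ := by
    have : Group.IsNilpotent (Pt G) := hnil
    have : Group.IsSolvable (Pt G) := inferInstance
    exact Group.IsSolvable.solvable
  obtain ⟨P, Q, hQP, hup⟩ := Φ.exists_upper hd
  have hcl : IsClosed {x : Pt G | g * x = x * g} := by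
    have : {x : Pt G | g * x = x * g} = (Subgroup.centralizer ({g} : Set (Pt G)) : Set (Pt G)) := by
      ext x
      simp [Subgroup.mem_centralizer_iff]
    rw [this]
    exact Φ.isClosed_centralizer _
  refine closure_minimal ?_ hcl (hT.closure_torsion hs)
  rintro x ⟨-, n, hn, hxn⟩
  exact (Φ.conj P Q hQP).torsion_central hup hn hxn g

/-- If the toral subgroup is unique, the group is nilpotent. -/
theorem nilpotent_of_normal {N : ℕ} (Φ : Rep k (Pt G) N) {T : Subgroup (Pt G)} (hT : Φ.IsToral T)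
    (hmax : ∀ T', Φ.IsToral T' → T ≤ T' → T' = T) (hn : ∀ x : Pt G, ∀ s ∈ T, x * s * x⁻¹ ∈ T) :
    Group.IsNilpotent (Pt G) := by
  classical
  have := preconnectedSpace_pt (G := G)
  obtain ⟨hnil, -⟩ := cartan Φ hT hmax
  obtain ⟨S, hS⟩ := hT.exists_finite_normalizer
  have : (Φ.centralizerComp T).FiniteIndex := by
    refine @Subgroup.finiteIndex_of_finite_quotient _ _ _ (Finite.of_surjective (fun y : S => (QuotientGroup.mk (y : Pt G) : Pt G ⧸ Φ.centralizerComp T)) ?_)
    rintro ⟨x⟩
    obtain ⟨y, hy, hyx⟩ := hS x fun s hs => ⟨hn x s hs, by simpa using hn x⁻¹ s hs⟩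
    exact ⟨⟨y, hy⟩, QuotientGroup.eq.2 hyx⟩
  have htop := Φ.eq_top_of_finiteIndex _ (Φ.isClosed_centralizerComp T)
  have : Group.IsNilpotent (⊤ : Subgroup (Pt G)) := htop ▸ hnil
  exact Group.nilpotent_of_mulEquiv Subgroup.topEquiv

end Cartan

end Groth.Agent.Borel50
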