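import Groth.Agent.Borel50.Centralizer
import Groth.Agent.GrpQuot50.Orbit
import Groth.Agent.S7984
import Groth.Agent.S14586

/-!
# Borel subgroups meet the centraliser of a torus they contain in Borel subgroups
-/

set_option autoImplicit false
universe u

open CategoryTheory MonoidalCategory CartesianMonoidalCategory MonObj GrpObj AlgebraicGeometry Limits

noncomputable section

namespace Groth.Agent.Borel50.CentBorel

open Groth.Agent.Borel50.Pts Groth.Agent.Borel50.Lin Groth.Agent.Borel50.Density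
open Groth.Agent.GrpScheme.Basic (smul comp_smul one_smul' mul_smul')
open Groth.Agent.AGFQuot.Basic (comp_eq_iff)

attribute [local instance] ptTop

variable {k : Type u} [Field k] [IsAlgClosed k] {G : Over (Spec (CommRingCat.of k))} [GrpObj G]
  [IsAffine G.left] [Smooth G.hom] [ConnectedSpace G.left]

/-- The centraliser of a torus in a connected subgroup containing it is connected. -/
theorem isPreconnected_inter {N : ℕ} {Φ : Rep k (Pt G) N} {B : Over (Spec (CommRingCat.of k))} [GrpObj B]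
    (iB : B ⟶ G) [IsMonHom iB] [IsClosedImmersion iB.left] [Smooth B.hom] [ConnectedSpace B.left]
    {S : Subgroup (Pt G)} (hS : Φ.IsToral S) (hSB : S ≤ (ptHom iB).range) :
    _root_.IsPreconnected
      (((ptHom iB).range ⊓ Subgroup.centralizer (S : Set (Pt G)) : Subgroup (Pt G)) : Set (Pt G)) := by
  have : IsAffine B.left := isAffine_of_isAffineHom iB.left
  have := GrpScheme.HomFlat.isReduced_of_smooth B.hom
  have : Mono iB := Over.mono_of_mono_left iB
  obtain ⟨M, ⟨ΦB⟩⟩ := exists_rep (G := B)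
  obtain ⟨K, _, iK, _, _, _, hK, hr⟩ := Torus.exists_torus hS
  obtain ⟨_, _, _, _, -⟩ := TorusSch.torus_facts hK
  have := GrpScheme.HomFlat.isReduced_of_smooth K.hom
  obtain ⟨l, hl⟩ := factor_of_points iK iB fun w => by
    obtain ⟨b, hb⟩ := hSB (x := w ≫ iK) (by rw [← hr]; exact ⟨w, rfl⟩)
    exact mem_range_of_factor hb
  have : IsMonHom l :=
    { one_hom := by rw [← cancel_mono iB, Category.assoc, hl, IsMonHom.one_hom, IsMonHom.one_hom]
      mul_hom := by
        rw [← cancel_mono iB, Category.assoc, Category.assoc, hl, IsMonHom.mul_hom, IsMonHom.mul_hom,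
          MonoidalCategory.tensorHom_comp_tensorHom_assoc, hl] }
  have : IsClosedImmersion l.left := by
    have : IsClosedImmersion (l.left ≫ iB.left) := by rw [← Over.comp_left, hl]; infer_instance
    exact IsClosedImmersion.of_comp l.left iB.left
  have : Mono l := Over.mono_of_mono_left l
  have hSl := Torus.isToral_range ΦB l hK
  have hpre := ΦB.isPreconnected_centralizerComp (ptHom l).range
  rw [← Centralizer.centralizer_eq ΦB hSl] at hpre
  have e : (((ptHom iB).range ⊓ Subgroup.centralizer (S : Set (Pt G)) : Subgroup (Pt G)) : Set (Pt G)) =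
      (fun b : Pt B => b ≫ iB) '' (Subgroup.centralizer ((ptHom l).range : Set (Pt B)) : Set (Pt B)) := by
    ext x
    constructor
    · rintro ⟨⟨b, rfl⟩, hx⟩
      refine ⟨b, Subgroup.mem_centralizer_iff.2 ?_, rfl⟩
      rintro _ ⟨w, rfl⟩
      refine ptHom_injective iB ?_
      rw [map_mul, map_mul]
      have hw : (w ≫ l) ≫ iB ∈ S := hr ▸ ⟨w, (by rw [Category.assoc, hl] : w ≫ iK = (w ≫ l) ≫ iB)⟩
      exact Subgroup.mem_centralizer_iff.1 hx _ hw
    · rintro ⟨b, hb, rfl⟩
      refine ⟨⟨b, rfl⟩, Subgroup.mem_centralizer_iff.2 fun s hs => ?_⟩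
      obtain ⟨w, rfl⟩ := (hr ▸ hs : s ∈ (ptHom iK).range)
      have h := congrArg (ptHom iB) (Subgroup.mem_centralizer_iff.1 hb _ ⟨w, rfl⟩)
      rw [map_mul, map_mul] at h
      simp only [MonoidHom.coe_mk, OneHom.coe_mk, Category.assoc, hl] at h
      exact h
  rw [e]
  exact hpre.image _ (continuous_comp iB).continuousOn

/-- The intersection of a Borel subgroup with the centraliser of a torus it contains is a Borel subgroup of the
centraliser. -/
theorem exists_borel {N : ℕ} {Φ : Rep k (Pt G) N} {B : Over (Spec (CommRingCat.of k))} [GrpObj B]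
    (iB : B ⟶ G) [IsMonHom iB] (hB : Red.IsBorelOver k iB)
    {S : Subgroup (Pt G)} (hS : Φ.IsToral S) (hSB : S ≤ (ptHom iB).range)
    {K : Over (Spec (CommRingCat.of k))} [GrpObj K] (iK : K ⟶ G) [IsMonHom iK] [IsClosedImmersion iK.left]
    [Smooth K.hom] [ConnectedSpace K.left] (hK : (ptHom iK).range = Subgroup.centralizer (S : Set (Pt G))) :
    ∃ (D : Over (Spec (CommRingCat.of k))) (_ : GrpObj D) (dK : D ⟶ K) (_ : IsMonHom dK),
      Red.IsBorelOver k dK ∧
      (ptHom (dK ≫ iK)).range = (ptHom iB).range ⊓ Subgroup.centralizer (S : Set (Pt G)) := by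
  classical
  have := hB.2.1
  have := hB.2.2.1
  have := hB.2.2.2.1
  have := FixedPt.qc_G G
  have : IsSeparated G.hom := GrpScheme.IdComponent.isSeparated G
  have : IsAffine K.left := isAffine_of_isAffineHom iK.left
  have := FixedPt.qc_G K
  have : Mono iK := Over.mono_of_mono_left iK
  have : Mono iB := Over.mono_of_mono_left iB
  have : LocallyOfFiniteType B.hom := by rw [← Over.w iB]; infer_instance
  have : QuasiCompact B.hom := by rw [← Over.w iB]; infer_instance
  set BC := (ptHom iB).range with hBCdef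
  set C := Subgroup.centralizer (S : Set (Pt G)) with hCdef
  have hBC : IsClosed (BC : Set (Pt G)) := Density.isClosed_range iB
  have : PreconnectedSpace BC := Subtype.preconnectedSpace (Density.isPreconnected_range iB)
  obtain ⟨n₀, hn₀⟩ := Solvable.points_of_isSolvableGrp hB.2.2.2.2.1
  have hBsol : derivedSeries BC n₀ = ⊥ := by
    rw [eq_bot_iff, ← map_derivedSeries_eq (MonoidHom.rangeRestrict_surjective (ptHom iB)) n₀, hn₀, Subgroup.map_bot]
  obtain ⟨P, Q, hQP, hup⟩ := (Φ.restrict BC hBC).exists_upper hBsol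
  let Ψ := (Φ.restrict BC hBC).conj P Q hQP
  obtain ⟨s, hs, ⟨n, hn, hsn⟩, hgen⟩ := hS.exists_generic_torsion
  have hsB : s ∈ BC := hSB hs
  -- the set `C * B` is closed
  let E : Set (Pt G) := {g | ∃ c ∈ C, ∃ b ∈ BC, g = c * b}
  have hE : IsClosed E := by
    let φ : G ⟶ G := (𝟙 G)⁻¹ * (toUnit G ≫ s) * 𝟙 G
    have hφ : ∀ g : Pt G, g ≫ φ = g⁻¹ * s * g := fun g => by
      simp only [φ, MonObj.comp_mul, GrpObj.comp_inv, Category.comp_id]
      rw [← Category.assoc, Pts.toUnit_comp, Category.id_comp]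
    have e : E = {g | g ≫ φ ∈ BC} ∩
        ⋂ i : Fin N, {g | (Φ.conj P Q hQP).ρ (g ≫ φ) i i = (P * Φ.ρ s * Q) i i} := by
      ext g
      simp only [Set.mem_inter_iff, Set.mem_setOf_eq, Set.mem_iInter, hφ, E]
      constructor
      · rintro ⟨c, hc, b, hb, rfl⟩
        have e1 : (c * b)⁻¹ * s * (c * b) = b⁻¹ * s * b := by
          calc (c * b)⁻¹ * s * (c * b) = b⁻¹ * (c⁻¹ * (s * c)) * b := by group
            _ = _ := by rw [Subgroup.mem_centralizer_iff.1 hc s hs, inv_mul_cancel_left]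
        rw [e1]
        refine ⟨BC.mul_mem (BC.mul_mem (BC.inv_mem hb) hsB) hb, fun i => ?_⟩
        have hd : Ψ.diagHom hup ((⟨b, hb⟩ : BC)⁻¹ * ⟨s, hsB⟩ * ⟨b, hb⟩) = Ψ.diagHom hup ⟨s, hsB⟩ := by
          simp only [map_mul]
          calc _ = (Ψ.diagHom hup (⟨b, hb⟩ : BC)⁻¹ * Ψ.diagHom hup ⟨b, hb⟩) * Ψ.diagHom hup ⟨s, hsB⟩ := by ring
            _ = _ := by rw [← map_mul, inv_mul_cancel, map_one, _root_.one_mul]
        exact congrFun hd i
      · rintro ⟨hy, hyd⟩
        obtain ⟨v, -, hv⟩ := exists_conj Ψ hup hn (s := (⟨s, hsB⟩ : BC)) (y := ⟨_, hy⟩) (Subtype.ext hsn)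
          (Subtype.ext (by
            show (g⁻¹ * s * g) ^ n = 1
            rw [show g⁻¹ * s * g = g⁻¹ * s * g⁻¹⁻¹ by group, conj_pow, hsn, _root_.mul_one, mul_inv_cancel]))
          (Ψ.mem_unipotent_of_diag (by
            have hd : Ψ.diagHom hup ⟨_, hy⟩ = Ψ.diagHom hup ⟨s, hsB⟩ := funext hyd
            rw [map_mul, hd, ← map_mul, inv_mul_cancel, map_one]))
        have hv' : (v : Pt G) * s * (v : Pt G)⁻¹ = g⁻¹ * s * g := congrArg Subtype.val hv
        refine ⟨g * v, Subgroup.mem_centralizer_iff.2 fun t ht => (hgen _ ?_ t ht).symm, (v : Pt G)⁻¹,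
          BC.inv_mem v.2, by group⟩
        calc g * v * s = g * ((v : Pt G) * s * (v : Pt G)⁻¹) * v := by group
          _ = s * (g * v) := by rw [hv']; group
    rw [e]
    exact (hBC.preimage (continuous_comp φ)).inter
      (isClosed_iInter fun i => ((Φ.conj P Q hQP).isClosed_apply i i _).preimage (continuous_comp φ))
  obtain ⟨F, hF, hFE⟩ := isClosed_induced_iff.1 hE
  -- the orbit of the centraliser in `G / B` is closed
  obtain ⟨X, a, o, hl, -, hf, hsj, hq⟩ := S3279.result k G B iB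
  have hX : AGF.IsQuotient iB X a o := ⟨hl, hf, hsj, hq⟩
  have := Conj.isProper_quotient_borel iB hB hX
  let aK := FixedPt.restrict a iK
  have horb : aK.orbitMap o = iK ≫ a.orbitMap o := by
    rw [← Category.id_comp (aK.orbitMap o), GrpdLib.OrbitQuot.comp_orbitMap, FixedPt.smul_restrict,
      Category.id_comp, GrpdLib.OrbitQuot.comp_orbitMap]
  have : JacobsonSpace G.left := LocallyOfFiniteType.jacobsonSpace G.hom
  have : JacobsonSpace X.left := LocallyOfFiniteType.jacobsonSpace X.hom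
  have : JacobsonSpace K.left := LocallyOfFiniteType.jacobsonSpace K.hom
  have hclosed : IsClosed (Set.range (aK.orbitMap o).left) := by
    set π := (a.orbitMap o).left with hπ
    set R := Set.range (aK.orbitMap o).left with hR
    let S0 : Set X.left := (fun c : Pt G => pt (c ≫ a.orbitMap o)) '' (C : Set (Pt G))
    have hRS : R ⊆ closure S0 := by
      rintro _ ⟨z, rfl⟩
      have hz : z ∈ closure (closedPoints K.left) := by rw [closure_closedPoints]; trivial
      refine map_mem_closure (aK.orbitMap o).left.continuous hz ?_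
      intro y hy
      obtain ⟨w, rfl⟩ := exists_pt hy
      exact ⟨w ≫ iK, hK ▸ ⟨w, rfl⟩, show pt ((w ≫ iK) ≫ a.orbitMap o) = pt (w ≫ aK.orbitMap o) by rw [horb, Category.assoc]⟩
    have hSF : π ⁻¹' S0 ⊆ F := by
      rintro z ⟨c, hc, hcz⟩
      by_contra hzF
      obtain ⟨y, ⟨hy, hyF⟩, hyc⟩ := nonempty_inter_closedPoints (Z := π ⁻¹' {pt (c ≫ a.orbitMap o)} ∩ Fᶜ)
        ⟨z, hcz.symm, hzF⟩ (((ConjDense.isClosed_singleton_pt (c ≫ a.orbitMap o)).preimage
          π.continuous).isLocallyClosed.inter hF.isOpen_compl.isLocallyClosed)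
      obtain ⟨g, rfl⟩ := exists_pt hyc
      have e : c ≫ a.orbitMap o = g ≫ a.orbitMap o := ConjDense.ext_pt (Eq.symm hy)
      obtain ⟨b, hb⟩ := (comp_eq_iff hq c g).1 e
      exact hyF (show g ∈ pt ⁻¹' F from hFE ▸ ⟨c, hc, _, ⟨b, rfl⟩, hb.symm⟩)
    have : Flat π := hf
    have : LocallyOfFinitePresentation π := GrpdLib.GrpOver.lfp_left _
    have hopen : IsOpenMap π := π.isOpenMap
    have hcF : π ⁻¹' closure S0 ⊆ F := by
      rw [hopen.preimage_closure_eq_closure_preimage π.continuous]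
      exact closure_minimal hSF hF
    have hlc : IsLocallyClosed R := S7984.isLocallyClosed_orbit aK o
    rw [← closure_subset_iff_isClosed]
    intro p hp
    by_contra hpR
    have hZ : IsClosed (closure R \ R) := by
      rw [← compl_compl (closure R \ R)]
      exact hlc.isOpen_coborder.isClosed_compl
    obtain ⟨q, hqZ, hqc⟩ := nonempty_inter_closedPoints (show (closure R \ R).Nonempty from ⟨p, hp, hpR⟩) hZ.isLocallyClosed
    obtain ⟨xq, rfl⟩ := exists_pt hqc
    obtain ⟨g, hg⟩ := Conj.surjective_pts (a.orbitMap o) xq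
    have hgF : pt g ∈ F := hcF (show π (pt g) ∈ closure S0 from
      closure_minimal hRS isClosed_closure (show π (pt g) ∈ closure R by rw [← hg] at hqZ; exact hqZ.1))
    obtain ⟨c, hc, b, ⟨b', rfl⟩, rfl⟩ : g ∈ E := hFE ▸ hgF
    have e : c ≫ a.orbitMap o = (c * (b' ≫ iB)) ≫ a.orbitMap o := (comp_eq_iff hq _ _).2 ⟨b', rfl⟩
    obtain ⟨w, hw⟩ := (hK.symm ▸ hc : c ∈ (ptHom iK).range)
    exact hqZ.2 ⟨pt w, show pt (w ≫ aK.orbitMap o) = pt xq by
      rw [horb, ← Category.assoc, show w ≫ iK = c from hw, e, show (c * (b' ≫ iB)) ≫ a.orbitMap o = xq from hg]⟩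
  -- the quotient by the stabiliser is proper
  obtain ⟨Sx, _, iSx, _, _, hsq, hSx⟩ := Exists.exists_stabilizer aK o
  obtain ⟨Y, bY, y, f, hY, -, -, hyorb, hfi⟩ := GrpQuot50.Orbit.exists_quotient_orbit aK o iSx hsq
  have := hY.1
  have : Surjective (bY.orbitMap y).left := hY.2.2.1
  have hrange : Set.range f.left = Set.range (aK.orbitMap o).left := by
    rw [← hyorb, Over.comp_left, Scheme.Hom.comp_base, TopCat.coe_comp,
      (bY.orbitMap y).left.surjective.range_comp]
  have : IsClosedImmersion f.left :=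
    have := hfi
    IsClosedImmersion.of_isPreimmersion f.left (hrange ▸ hclosed)
  have : IsProper Y.hom := by rw [← Over.w f]; infer_instance
  -- a Borel subgroup of the centraliser inside the intersection
  obtain ⟨B₀, _, b₀, hB₀⟩ := Conj.exists_borel K
  have := hB₀.1
  have := hB₀.2.1
  have := hB₀.2.2.1
  have := hB₀.2.2.2.1
  obtain ⟨g, l, hgl⟩ := Conj.exists_conj_factor b₀ (Solvable.points_of_isSolvableGrp hB₀.2.2.2.2.1) hY
  have hB₁ := Conj.isBorelOver_conjBy b₀ hB₀ g
  let dK := AGF.conjBy g b₀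
  have : IsMonHom dK := hB₁.1
  have : IsClosedImmersion dK.left := hB₁.2.1
  refine ⟨B₀, ‹_›, dK, ‹_›, hB₁, ?_⟩
  have hle : (ptHom (dK ≫ iK)).range ≤ BC ⊓ C := by
    rintro _ ⟨w, rfl⟩
    have h1 := (hSx (w ≫ dK)).1 ⟨w ≫ l, by rw [Category.assoc, hgl]⟩
    rw [FixedPt.smul_restrict, ← GrpdLib.OrbitQuot.comp_orbitMap,
      show toUnit (𝟙_ (Over (Spec (CommRingCat.of k)))) ≫ o = o by
        rw [toUnit_unique (toUnit (𝟙_ _)) (𝟙 _), Category.id_comp]] at h1
    have h2 : (1 : Pt G) ≫ a.orbitMap o = o := by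
      rw [GrpdLib.OrbitQuot.comp_orbitMap, one_smul', toUnit_unique (toUnit (𝟙_ _)) (𝟙 _), Category.id_comp]
    obtain ⟨b, hb⟩ := (comp_eq_iff hq 1 _).1 (h2.trans h1.symm)
    rw [_root_.one_mul] at hb
    refine ⟨⟨b, hb.trans (Category.assoc _ _ _)⟩, hK ▸ ⟨w ≫ dK, ?_⟩⟩
    show (w ≫ dK) ≫ iK = w ≫ dK ≫ iK
    rw [Category.assoc]
  have hDcl : IsClosed ((BC ⊓ C : Subgroup (Pt G)) : Set (Pt G)) :=
    hBC.inter (Φ.isClosed_centralizer _)
  obtain ⟨D, _, iD, _, _, _, _, hmem, hconn⟩ := exists_sub (BC ⊓ C) hDcl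
  have := hconn (isPreconnected_inter iB hS hSB)
  have := GrpScheme.HomFlat.isReduced_of_smooth D.hom
  have := GrpScheme.HomFlat.isReduced_of_smooth B₀.hom
  have : Mono iD := Over.mono_of_mono_left iD
  obtain ⟨j, hj⟩ := factor_of_points iD iK fun w => by
    obtain ⟨w', hw'⟩ : w ≫ iD ∈ (ptHom iK).range := hK ▸ ((hmem _).2 ⟨w, rfl⟩).2
    exact mem_range_of_factor hw'
  have : IsMonHom j :=
    { one_hom := by rw [← cancel_mono iK, Category.assoc, hj, IsMonHom.one_hom, IsMonHom.one_hom]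
      mul_hom := by
        rw [← cancel_mono iK, Category.assoc, Category.assoc, hj, IsMonHom.mul_hom, IsMonHom.mul_hom,
          MonoidalCategory.tensorHom_comp_tensorHom_assoc, hj] }
  have : IsClosedImmersion j.left := by
    have : IsClosedImmersion (j.left ≫ iK.left) := by rw [← Over.comp_left, hj]; infer_instance
    exact IsClosedImmersion.of_comp j.left iK.left
  have : Mono j := Over.mono_of_mono_left j
  obtain ⟨f₁, hf₁⟩ := factor_of_points (dK ≫ iK) iD fun w => by
    obtain ⟨z, hz⟩ := (hmem _).1 (hle ⟨w, rfl⟩)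
    exact mem_range_of_factor hz
  have hf₂ : f₁ ≫ j = dK := by rw [← cancel_mono iK, Category.assoc, hj, hf₁]
  have hDsol : Red.IsSolvableGrp D := by
    have : IsAffine D.left := isAffine_of_isAffineHom iD.left
    refine Solvable.isSolvableGrp_of_points ⟨n₀, ?_⟩
    let incl : Pt D →* BC := (ptHom iD).codRestrict BC fun w => ((hmem _).2 ⟨w, rfl⟩).1
    refine eq_bot_iff.2 fun w hw => ?_
    have h1 := Subgroup.mem_bot.1 (hBsol ▸ map_derivedSeries_le_derivedSeries incl n₀ ⟨w, hw, rfl⟩)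
    refine ptHom_injective iD ?_
    rw [map_one]
    exact congrArg Subtype.val h1
  have : IsIso f₁ := hB₁.2.2.2.2.2 D j f₁ ‹_› ‹_› ‹_› hDsol hf₂
  refine le_antisymm hle fun x hx => ?_
  obtain ⟨w, rfl⟩ := (hmem x).1 hx
  exact ⟨w ≫ inv f₁, show (w ≫ inv f₁) ≫ dK ≫ iK = w ≫ iD by
    rw [← hf₁, Category.assoc, IsIso.inv_hom_id_assoc]⟩

end Groth.Agent.Borel50.CentBorel
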