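import Groth.Agent.Borel50.ToralConj
import Groth.Agent.Borel50.Lin.SolvCent
import Groth.Agent.GrpdLib.SepExt

/-!
# Centralisers of tori are connected
-/

set_option autoImplicit false
universe u v

open CategoryTheory MonoidalCategory CartesianMonoidalCategory MonObj GrpObj AlgebraicGeometry Limits

noncomputable section

namespace Groth.Agent.Borel50.Centralizer

open Groth.Agent.Borel50.Pts Groth.Agent.Borel50.Lin Groth.Agent.Borel50.Density
open Groth.Agent.GrpScheme.Basic (smul comp_smul one_smul' mul_smul')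
open Groth.Agent.AGFQuot.Basic (comp_eq_iff)

attribute [local instance] ptTop

variable {k : Type u} [Field k] [IsAlgClosed k]

/-- Morphisms to a separated scheme agreeing on rational points agree. -/
lemma hom_ext {W Y : Over (Spec (CommRingCat.of k))} [LocallyOfFiniteType W.hom] [IsReduced W.left]
    [IsSeparated Y.hom] (a b : W ⟶ Y) (h : ∀ w : Pt W, w ≫ a = w ≫ b) : a = b := by
  have : IsClosedImmersion (lift (𝟙 Y) (𝟙 Y)).left :=
    inferInstanceAs (IsClosedImmersion (pullback.diagonal Y.hom))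
  obtain ⟨l, hl⟩ := factor_of_points (lift a b) (lift (𝟙 Y) (𝟙 Y)) fun w => mem_range_of_factor (z := w ≫ a) (by
    rw [comp_lift, comp_lift, Category.comp_id, ← h w])
  have h₁ := congr($hl ≫ fst Y Y)
  have h₂ := congr($hl ≫ snd Y Y)
  rw [Category.assoc, lift_fst, lift_fst, Category.comp_id] at h₁
  rw [Category.assoc, lift_snd, lift_snd, Category.comp_id] at h₂
  exact h₁ ▸ h₂

variable {G : Over (Spec (CommRingCat.of k))} [GrpObj G]

/-- Commutation with a reduced subgroup can be tested on rational points. -/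
lemma commute_of_points {S : Over (Spec (CommRingCat.of k))} [LocallyOfFiniteType S.hom] [IsReduced S.left]
    [IsSeparated G.hom] (iS : S ⟶ G) (c : Pt G) (h : ∀ s : Pt S, c * (s ≫ iS) = (s ≫ iS) * c)
    {X : Over (Spec (CommRingCat.of k))} (s : X ⟶ S) :
    (toUnit X ≫ c) * (s ≫ iS) = (s ≫ iS) * (toUnit X ≫ c) := by
  have e : (toUnit S ≫ c) * iS = iS * (toUnit S ≫ c) := hom_ext _ _ fun w => by
    rw [MonObj.comp_mul, MonObj.comp_mul, ← Category.assoc, Pts.toUnit_comp, Category.id_comp]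
    exact h w
  have := congrArg (fun m => s ≫ m) e
  simp only [MonObj.comp_mul, ← Category.assoc] at this
  rwa [toUnit_unique (s ≫ toUnit S) (toUnit X)] at this

lemma map_avg {Γ Γ' : Type*} [Group Γ] [Group Γ'] (f : Γ →* Γ') (s : Γ) (n l : ℕ) (x : Γ) :
    f (Rep.avg s n l x) = Rep.avg (f s) n l (f x) := by
  have : ∀ i, f (Rep.twistProd s x i) = Rep.twistProd (f s) (f x) i := fun i => by
    induction i with
    | zero => exact map_one f
    | succ i ih => simp only [Rep.twistProd, map_mul, map_inv, map_pow, ih]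
  simp [Rep.avg, this]

omit [IsAlgClosed k] in
lemma continuous_avg (s : Pt G) (n l : ℕ) : Continuous (Rep.avg s n l) := by
  let cst : Pt G → (G ⟶ G) := fun a => toUnit G ≫ a
  have hconst : ∀ (x a : Pt G), x ≫ cst a = a := fun x a => by
    rw [← Category.assoc, Pts.toUnit_comp, Category.id_comp]
  let D : ℕ → (G ⟶ G) := fun i => (𝟙 G)⁻¹ * (cst (s ^ i) * 𝟙 G * (cst (s ^ i))⁻¹)
  let P : ℕ → (G ⟶ G) := fun i => Nat.rec 1 (fun j a => a * D j) i
  have hD : ∀ (x : Pt G) i, x ≫ D i = x⁻¹ * (s ^ i * x * (s ^ i)⁻¹) := fun x i => by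
    simp only [D, MonObj.comp_mul, GrpObj.comp_inv, Category.comp_id, hconst]
  have hP : ∀ (x : Pt G) i, x ≫ P i = Rep.twistProd s x i := fun x i => by
    induction i with
    | zero => exact MonObj.comp_one x
    | succ i ih =>
      show x ≫ (P i * D i) = _
      rw [MonObj.comp_mul, ih, hD]
      rfl
  have hpow : ∀ (x : Pt G) (f : G ⟶ G) (j : ℕ), x ≫ f ^ j = (x ≫ f) ^ j := fun x f j => by
    induction j with
    | zero => rw [pow_zero, pow_zero]; exact MonObj.comp_one x
    | succ j ih => rw [pow_succ, pow_succ, MonObj.comp_mul, ih]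
  have : Rep.avg s n l = fun x : Pt G => x ≫ (𝟙 G * P n ^ l) := funext fun x => by
    rw [MonObj.comp_mul, hpow, hP, Category.comp_id]
    rfl
  rw [this]
  exact continuous_comp _

variable [IsAffine G.left] [Smooth G.hom] [ConnectedSpace G.left]

omit [IsAlgClosed k] in
lemma exists_conjBy_factor {S B : Over (Spec (CommRingCat.of k))} (iS : S ⟶ G) (iB : B ⟶ G) (g : Pt G) (l : S ⟶ B)
    (hl : (toUnit S ≫ g) * (l ≫ iB) = iS * (toUnit S ≫ g)) : l ≫ AGF.conjBy g iB = iS := by
  rw [Conj.comp_conjBy, AGF.conjBy, hl, mul_inv_cancel_right]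

/-- A rational point commuting with a torus lies with it in a Borel subgroup. -/
theorem exists_borel_of_commute {S : Over (Spec (CommRingCat.of k))} [GrpObj S] (iS : S ⟶ G) [IsMonHom iS] [Mono iS]
    (hS : Red.IsTorus S) (c : Pt G) (hc : ∀ s : Pt S, c * (s ≫ iS) = (s ≫ iS) * c) :
    ∃ (B : Over (Spec (CommRingCat.of k))) (_ : GrpObj B) (iB : B ⟶ G) (_ : Red.IsBorelOver k iB) (t : S ⟶ B)
      (b : Pt B), t ≫ iB = iS ∧ b ≫ iB = c := by
  obtain ⟨_, _, _, _, hcomm, -⟩ := TorusSch.torus_facts hS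
  have := GrpScheme.HomFlat.isReduced_of_smooth S.hom
  have := FixedPt.qc_G G
  have : IsSeparated G.hom := GrpScheme.IdComponent.isSeparated G
  obtain ⟨B, _, iB, hB⟩ := Conj.exists_borel G
  have := hB.1
  have := hB.2.1
  have := hB.2.2.1
  have : Mono iB := Over.mono_of_mono_left iB
  have : LocallyOfFiniteType B.hom := by rw [← Over.w iB]; infer_instance
  have : QuasiCompact B.hom := by rw [← Over.w iB]; infer_instance
  obtain ⟨X, a, o, hl, -, hf, hs', hq⟩ := S3279.result k G B iB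
  have hX : AGF.IsQuotient iB X a o := ⟨hl, hf, hs', hq⟩
  have := Conj.isProper_quotient_borel iB hB hX
  have := hl
  -- fixed points of `c`
  let τ : X ⟶ X := smul a (toUnit X ≫ c) (𝟙 X)
  let d : X ⟶ X ⊗ X := lift (𝟙 X) (𝟙 X)
  have hd : IsClosedImmersion d.left := inferInstanceAs (IsClosedImmersion (pullback.diagonal X.hom))
  let Z := pullback (lift τ (𝟙 X)) d
  let incl : Z ⟶ X := pullback.fst _ _
  have hincl : IsClosedImmersion incl.left :=
    MorphismProperty.of_isPullback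
      (GrpdLib.GrpOver.isPullback_left (IsPullback.of_hasPullback (lift τ (𝟙 X)) d)).flip hd
  have : Mono incl := Over.mono_of_mono_left incl
  have hZ : ∀ {T : Over (Spec (CommRingCat.of k))} (f : T ⟶ X),
      (∃ f', f' ≫ incl = f) ↔ smul a (toUnit T ≫ c) f = f := by
    intro T f
    have e : f ≫ τ = smul a (toUnit T ≫ c) f := by
      rw [comp_smul, ← Category.assoc, toUnit_unique (f ≫ toUnit X) (toUnit T), Category.comp_id]
    constructor
    · rintro ⟨f', rfl⟩
      rw [← e]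
      have h1 := congrArg (fun m => f' ≫ m) (pullback.condition (f := lift τ (𝟙 X)) (g := d))
      simp only [← Category.assoc, d, comp_lift, Category.comp_id] at h1
      have h2 := congrArg (fun m => m ≫ fst X X) h1
      have h3 := congrArg (fun m => m ≫ snd X X) h1
      simp only [lift_fst, lift_snd] at h2 h3
      exact h2.trans h3.symm
    · intro h
      refine ⟨pullback.lift f f ?_, pullback.lift_fst _ _ _⟩
      rw [comp_lift, comp_lift, Category.comp_id, e, h]
  obtain ⟨z₀, hz₀⟩ : ∃ z₀ : Pt Z, True := by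
    obtain ⟨w, hw⟩ := (Density.surjective_conj_borel iB hB) (pt c)
    have : JacobsonSpace (G ⊗ B).left := by
      have : LocallyOfFiniteType (G ⊗ B).hom := GrpdLib.SepExt.tensor_lft k G B
      exact LocallyOfFiniteType.jacobsonSpace (G ⊗ B).hom
    have : LocallyOfFiniteType (G ⊗ B).hom := GrpdLib.SepExt.tensor_lft k G B
    have : Surjective (fst G B * (snd G B ≫ iB) * (fst G B)⁻¹).left := ⟨Density.surjective_conj_borel iB hB⟩
    obtain ⟨x, hx⟩ := Conj.surjective_pts (fst G B * (snd G B ≫ iB) * (fst G B)⁻¹) c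
    rw [MonObj.comp_mul, MonObj.comp_mul, GrpObj.comp_inv, ← Category.assoc] at hx
    refine ⟨((hZ ((x ≫ fst G B) ≫ a.orbitMap o)).2 ?_).choose, trivial⟩
    rw [toUnit_unique (toUnit (𝟙_ _)) (𝟙 _), Category.id_comp, GrpdLib.OrbitQuot.comp_orbitMap, ← mul_smul',
      ← GrpdLib.OrbitQuot.comp_orbitMap, ← GrpdLib.OrbitQuot.comp_orbitMap]
    refine ((comp_eq_iff hX.2.2.2 _ _).2 ⟨x ≫ snd G B, ?_⟩).symm
    rw [← hx]
    group
  have : Nonempty Z.left := ⟨pt z₀⟩
  have : IsProper Z.hom := by rw [← Over.w incl]; infer_instance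
  obtain ⟨bS, hbS⟩ := FixedPt.exists_action_of_mono (FixedPt.restrict a iS) incl fun T s z => by
    refine (hZ _).2 ?_
    rw [FixedPt.smul_restrict, ← mul_smul', commute_of_points iS c hc, mul_smul', (hZ _).1 ⟨z, rfl⟩]
  have hsol : ∃ n, derivedSeries (Pt S) n = ⊥ := by
    refine ⟨1, ?_⟩
    rw [derivedSeries_one, commutator_def, eq_bot_iff, Subgroup.commutator_le]
    intro x _ y _
    rw [Subgroup.mem_bot, commutatorElement_eq_one_iff_mul_comm]
    exact hcomm x y
  have : ConnectedSpace S.left := inferInstance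
  obtain ⟨z, hz⟩ := FixedPt.exists_fixedPt S Z hsol bS
  obtain ⟨g, hg⟩ := Conj.surjective_pts (a.orbitMap o) (z ≫ incl)
  have hgc : smul a c (z ≫ incl) = z ≫ incl := by
    have := (hZ (z ≫ incl)).1 ⟨z, rfl⟩
    rwa [toUnit_unique (toUnit (𝟙_ _)) (𝟙 _), Category.id_comp] at this
  have hgS : smul a iS (toUnit S ≫ z ≫ incl) = toUnit S ≫ z ≫ incl := by
    have e := congrArg (fun m => m ≫ incl) (hz S (𝟙 S))
    have e' := hbS S (𝟙 S) (toUnit S ≫ z)
    rw [FixedPt.smul_restrict, Category.id_comp, Category.assoc] at e'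
    rw [← e']
    refine (e.trans ?_)
    rw [Category.assoc]
  rw [← hg] at hgc hgS
  rw [← Category.assoc] at hgS
  rw [GrpdLib.OrbitQuot.comp_orbitMap, ← mul_smul', ← GrpdLib.OrbitQuot.comp_orbitMap,
    ← GrpdLib.OrbitQuot.comp_orbitMap] at hgc hgS
  obtain ⟨b, hb⟩ := (comp_eq_iff hX.2.2.2 _ _).1 hgc.symm
  obtain ⟨l, hl'⟩ := (comp_eq_iff hX.2.2.2 _ _).1 hgS.symm
  refine ⟨B, ‹_›, AGF.conjBy g iB, Conj.isBorelOver_conjBy iB hB g, l, b, exists_conjBy_factor iS iB g l hl', ?_⟩
  rw [Conj.comp_conjBy, AGF.conjBy, toUnit_unique (toUnit (𝟙_ _)) (𝟙 _), Category.id_comp, hb, mul_inv_cancel_right]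

/-- The centraliser of a torus is connected. -/
theorem centralizer_eq {N : ℕ} (Φ : Rep k (Pt G) N) {T : Subgroup (Pt G)} (hT : Φ.IsToral T) :
    Subgroup.centralizer (T : Set (Pt G)) = Φ.centralizerComp T := by
  refine le_antisymm (fun c hc => ?_) (Φ.centralizerComp_le T)
  obtain ⟨K, _, iK, _, _, _, hK, hr⟩ := Torus.exists_torus hT
  obtain ⟨B, _, iB, hB, t, b, ht, hb⟩ := exists_borel_of_commute iK hK c fun s =>
    (Subgroup.mem_centralizer_iff.1 hc _ (hr ▸ (⟨s, rfl⟩ : s ≫ iK ∈ (ptHom iK).range))).symm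
  have := hB.1
  have := hB.2.1
  have := hB.2.2.1
  have := hB.2.2.2.1
  set BC := (ptHom iB).range with hBCdef
  have hcB : c ∈ BC := ⟨b, hb⟩
  have hTB : T ≤ BC := by
    rw [← hr]
    rintro _ ⟨s, rfl⟩
    exact ⟨s ≫ t, show (s ≫ t) ≫ iB = s ≫ iK by rw [Category.assoc, ht]⟩
  have hBC : IsClosed (BC : Set (Pt G)) := Density.isClosed_range iB
  have : PreconnectedSpace BC := Subtype.preconnectedSpace (Density.isPreconnected_range iB)
  obtain ⟨d, hd⟩ := Solvable.points_of_isSolvableGrp hB.2.2.2.2.1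
  have hBsol : derivedSeries BC d = ⊥ := by
    rw [eq_bot_iff, ← map_derivedSeries_eq (MonoidHom.rangeRestrict_surjective (ptHom iB)) d, hd, Subgroup.map_bot]
  obtain ⟨P, Q, hQP, hup⟩ := (Φ.restrict BC hBC).exists_upper hBsol
  let Ψ := (Φ.restrict BC hBC).conj P Q hQP
  obtain ⟨s, hs, ⟨n, hn, hsn⟩, hgen⟩ := hT.exists_generic_torsion
  let s' : BC := ⟨s, hTB hs⟩
  have hsn' : s' ^ n = 1 := Subtype.ext hsn
  have hcs : c * s = s * c := (Subgroup.mem_centralizer_iff.1 hc s hs).symm
  rcases CharP.exists' k with hchar | ⟨p, hp, hkp⟩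
  · -- characteristic zero
    obtain ⟨Tm, hTm, hle, hmax⟩ := ((hT.subgroupOf hBC hTB).to_conj (Φ := Φ.restrict BC hBC) hQP).exists_maximal
    obtain ⟨T₁, h₁, hcov⟩ := Ψ.exists_toral_lift hup
    obtain ⟨v, hv⟩ := Rep.exists_conj_eq hup h₁ hcov hTm hmax
    obtain ⟨t₁, ht₁, he⟩ := hcov ⟨c, hcB⟩
    rw [← hv] at ht₁
    obtain ⟨t₀, ht₀, rfl⟩ := ht₁
    have ht₀' : (t₀ : Pt G) ∈ Φ.centralizerComp T :=
      Φ.le_centralizerComp (H := Tm.map BC.subtype) (Rep.isPreconnected_map_subtype hTm.preconnected) (by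
        rintro _ ⟨x, hx, rfl⟩
        refine Subgroup.mem_centralizer_iff.2 fun y hy => ?_
        exact congrArg Subtype.val (hTm.commute (hle (show (⟨y, hTB hy⟩ : BC) ∈ T.subgroupOf BC from hy)) hx))
        ⟨t₀, ht₀, rfl⟩
    let u : BC := t₀⁻¹ * ⟨c, hcB⟩
    have hu : u ∈ Ψ.unipotent hup 1 := Ψ.mem_unipotent_of_diag (by
      show Ψ.diagHom hup (t₀⁻¹ * ⟨c, hcB⟩) = 1
      rw [map_mul, ← he]
      show Ψ.diagHom hup t₀⁻¹ * Ψ.diagHom hup (v * t₀ * v⁻¹) = 1
      calc _ = (Ψ.diagHom hup t₀⁻¹ * Ψ.diagHom hup t₀) * (Ψ.diagHom hup v * Ψ.diagHom hup v⁻¹) := by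
            simp only [map_mul]; ring
        _ = 1 := by rw [← map_mul, ← map_mul, inv_mul_cancel, mul_inv_cancel, map_one, _root_.mul_one])
    have huZ : u ∈ Subgroup.centralizer ({s'} : Set BC) := by
      refine Subgroup.mem_centralizer_iff.2 fun y hy => ?_
      rw [Set.mem_singleton_iff.1 hy]
      have h1 : s' * t₀ = t₀ * s' := hTm.commute (hle (show s' ∈ T.subgroupOf BC from hs)) ht₀
      have h2 : s' * ⟨c, hcB⟩ = ⟨c, hcB⟩ * s' := Subtype.ext hcs.symm
      show s' * (t₀⁻¹ * ⟨c, hcB⟩) = t₀⁻¹ * ⟨c, hcB⟩ * s'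
      rw [← _root_.mul_assoc, _root_.mul_assoc t₀⁻¹, ← h2,
        show s' * t₀⁻¹ = t₀⁻¹ * s' from ((show Commute s' t₀ from h1).inv_right).eq, _root_.mul_assoc]
    let Z := Subgroup.centralizer ({s'} : Set BC)
    let ΨZ := Ψ.restrict Z (Ψ.isClosed_centralizer _)
    have hu0 : (⟨u, huZ⟩ : Z) ∈ ΨZ.identityComponent :=
      ΨZ.mem_identityComponent_of_unipotent (hup := fun x => hup x.1) hu
    have hu' : (u : Pt G) ∈ Φ.centralizerComp T :=
      Φ.le_centralizerComp (H := (ΨZ.identityComponent.map Z.subtype).map BC.subtype)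
        (Rep.isPreconnected_map_subtype (Rep.isPreconnected_map_subtype isPreconnected_connectedComponent)) (by
          rintro _ ⟨_, ⟨x, -, rfl⟩, rfl⟩
          refine Subgroup.mem_centralizer_iff.2 fun y hy => (hgen _ ?_ y hy).symm
          exact (congrArg Subtype.val (Subgroup.mem_centralizer_iff.1 x.2 s' rfl)).symm)
        ⟨_, ⟨_, hu0, rfl⟩, rfl⟩
    have := Subgroup.mul_mem _ ht₀' hu'
    rwa [show (t₀ : Pt G) * (u : Pt G) = c from mul_inv_cancel_left (t₀ : Pt G) c] at this
  · -- positive characteristic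
    have hcont : ∀ l, Continuous (Rep.avg s' n l) := fun l => by
      refine continuous_induced_rng.2 ?_
      have : Subtype.val ∘ Rep.avg s' n l = Rep.avg s n l ∘ Subtype.val := funext fun x => map_avg BC.subtype s' n l x
      rw [this]
      exact (continuous_avg s n l).comp continuous_subtype_val
    have hpre := Ψ.preconnected_centralizer_charP hup p hn hsn' hcont
    refine Φ.le_centralizerComp (H := BC ⊓ Subgroup.centralizer ({s} : Set (Pt G))) ?_ (fun x hx => ?_) ?_
    · have e : ((BC ⊓ Subgroup.centralizer ({s} : Set (Pt G)) : Subgroup (Pt G)) : Set (Pt G)) =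
          Subtype.val '' {x : BC | x * s' = s' * x} := by
        ext x
        constructor
        · rintro ⟨hx1, hx2⟩
          exact ⟨⟨x, hx1⟩, Subtype.ext (Subgroup.mem_centralizer_iff.1 hx2 s rfl).symm, rfl⟩
        · rintro ⟨y, hy, rfl⟩
          exact ⟨y.2, Subgroup.mem_centralizer_iff.2 fun z hz => by
            rw [Set.mem_singleton_iff.1 hz]; exact (congrArg Subtype.val hy).symm⟩
      rw [e]
      exact hpre.image _ continuous_subtype_val.continuousOn
    · exact Subgroup.mem_centralizer_iff.2 fun y hy =>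
        (hgen x (Subgroup.mem_centralizer_iff.1 hx.2 s rfl).symm y hy).symm
    · exact ⟨hcB, Subgroup.mem_centralizer_iff.2 fun z hz => by rw [Set.mem_singleton_iff.1 hz]; exact hcs.symm⟩

/-- The rational points of a centraliser. -/
theorem range_eq_centralizer {T C : Over (Spec (CommRingCat.of k))} [GrpObj T] [GrpObj C] (iT : T ⟶ G) [IsMonHom iT]
    (hT : Red.IsTorus T) (c : C ⟶ G) [IsMonHom c] (hc : Red.IsCentralizerOf iT c) :
    (ptHom c).range = Subgroup.centralizer ((ptHom iT).range : Set (Pt G)) := by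
  obtain ⟨_, _, _, _, -, -⟩ := TorusSch.torus_facts hT
  have := GrpScheme.HomFlat.isReduced_of_smooth T.hom
  have : IsSeparated G.hom := GrpScheme.IdComponent.isSeparated G
  ext g
  constructor
  · rintro ⟨z, rfl⟩
    refine Subgroup.mem_centralizer_iff.2 ?_
    rintro _ ⟨s, rfl⟩
    have := (hc.2.2 _ (z ≫ c)).1 ⟨z, rfl⟩ _ (𝟙 _) s
    rw [Category.id_comp] at this
    exact this.symm
  · intro hg
    obtain ⟨z, hz⟩ := (hc.2.2 _ g).2 fun X x h => by
      have := commute_of_points iT g (fun s => (Subgroup.mem_centralizer_iff.1 hg _ ⟨s, rfl⟩).symm) h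
      rwa [toUnit_unique x (toUnit X)]
    exact ⟨z, hz⟩

end Groth.Agent.Borel50.Centralizer
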