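import Groth.Agent.Borel50.Conj

/-!
# Stable irreducible closed subsets of a product with finitely many orbits
-/

set_option autoImplicit false
universe u

open CategoryTheory MonoidalCategory CartesianMonoidalCategory MonObj GrpObj AlgebraicGeometry Limits

noncomputable section

namespace Groth.Agent.Borel50.StableProd

open Groth.Agent.Borel50.Pts
open Groth.Agent.GrpScheme.Basic (smul comp_smul one_smul' mul_smul')

variable {k : Type u} [Field k] [IsAlgClosed k]

lemma isClosed_pt {X : Over (Spec (CommRingCat.of k))} [LocallyOfFiniteType X.hom] (x : Pt X) :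
    IsClosed ({pt x} : Set X.left) := (pointEquivClosedPoint X.hom ⟨x.left, Over.w x⟩).2

/-- A rational point in the image of a morphism lifts. -/
lemma exists_lift_range {W X : Over (Spec (CommRingCat.of k))} [LocallyOfFiniteType W.hom]
    [LocallyOfFiniteType X.hom] (p : W ⟶ X) (x : Pt X) (h : pt x ∈ Set.range p.left) : ∃ w : Pt W, w ≫ p = x := by
  have : JacobsonSpace W.left := LocallyOfFiniteType.jacobsonSpace W.hom
  obtain ⟨z, hz⟩ := h
  obtain ⟨z', hz', hz'c⟩ := nonempty_inter_closedPoints (Z := p.left ⁻¹' {pt x}) ⟨z, hz⟩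
    (((isClosed_pt x).preimage p.left.continuous).isLocallyClosed)
  obtain ⟨w, rfl⟩ := exists_pt hz'c
  exact ⟨w, Over.OverMorphism.ext (ext_of_apply_closedPoint_eq X.hom (Over.w (w ≫ p)) (Over.w x) hz')⟩

/-- A closed set is the closure of its rational points. -/
lemma subset_of_pts {X : Over (Spec (CommRingCat.of k))} [LocallyOfFiniteType X.hom] {Z C : Set X.left}
    (hZ : IsClosed Z) (hC : IsClosed C) (h : ∀ x : Pt X, pt x ∈ Z → pt x ∈ C) : Z ⊆ C := by
  have : JacobsonSpace X.left := LocallyOfFiniteType.jacobsonSpace X.hom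
  intro z hz
  by_contra hzC
  obtain ⟨z', ⟨hz', hz'C⟩, hzc⟩ := nonempty_inter_closedPoints (Z := Z ∩ Cᶜ) ⟨z, hz, hzC⟩
    (hZ.isLocallyClosed.inter hC.isOpen_compl.isLocallyClosed)
  obtain ⟨x, rfl⟩ := exists_pt (Y := X) hzc
  exact hz'C (h x hz')

/-- A connected group of finite type is irreducible. -/
lemma irreducibleSpace (G : Over (Spec (CommRingCat.of k))) [GrpObj G] [ConnectedSpace G.left]
    [LocallyOfFiniteType G.hom] : IrreducibleSpace G.left := by
  have h1 : irreducibleComponent (GrpScheme.IdComponent.e₀ G) = Set.univ := by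
    rw [← GrpScheme.IdComponent.connectedComponent_eq]
    exact PreconnectedSpace.connectedComponent_eq_univ _
  exact { toPreirreducibleSpace := ⟨h1 ▸ (isIrreducible_irreducibleComponent).2⟩
          toNonempty := ⟨GrpScheme.IdComponent.e₀ G⟩ }

variable {B X Y : Over (Spec (CommRingCat.of k))} [GrpObj B] [LocallyOfFiniteType B.hom] [ConnectedSpace B.left]
  [LocallyOfFiniteType X.hom] [LocallyOfFiniteType Y.hom]

/-- Stable irreducible closed subsets of a product are products. -/
theorem eq_prod (a : AlgGrp.Action B X)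
    (hfin : Set.Finite {S : Set ↥X.left | ∃ x : Pt X, S = Set.range ⇑(a.orbitMap x).left.base})
    (Z : Set ↥(X ⊗ Y).left) (hZc : IsClosed Z) (hZi : IsIrreducible Z)
    (hZs : ∀ b : Pt B, ⇑(lift (toUnit (X ⊗ Y) ≫ b) (𝟙 (X ⊗ Y)) ≫ (α_ B X Y).inv ≫ (a.act ▷ Y)).left.base '' Z ⊆ Z) :
    ∃ (V : Set ↥X.left) (W : Set ↥Y.left), IsClosed V ∧ IsIrreducible V ∧ IsClosed W ∧ IsIrreducible W ∧
      (∀ b : Pt B, ⇑(lift (toUnit X ≫ b) (𝟙 X) ≫ a.act).left.base '' V ⊆ V) ∧
      Z = ⇑(fst X Y).left.base ⁻¹' V ∩ ⇑(snd X Y).left.base ⁻¹' W := by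
  classical
  have : LocallyOfFiniteType (X ⊗ Y).hom := inferInstanceAs (LocallyOfFiniteType (pullback.fst X.hom Y.hom ≫ X.hom))
  have := irreducibleSpace B
  have hstab : ∀ (b : Pt B) (x : Pt X) (y : Pt Y), pt (lift x y) ∈ Z → pt (lift (smul a b x) y) ∈ Z := by
    intro b x y h
    have e : lift x y ≫ lift (toUnit (X ⊗ Y) ≫ b) (𝟙 (X ⊗ Y)) ≫ (α_ B X Y).inv ≫ (a.act ▷ Y) =
        lift (smul a b x) y := by
      rw [comp_lift_assoc, Category.comp_id, const_comp, lift_lift_associator_inv_assoc, lift_whiskerRight]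
      rfl
    rw [← e, pt_comp]
    exact hZs b ⟨_, h, rfl⟩
  have horb : ∀ (x : Pt X) (b : Pt B), b ≫ a.orbitMap x = smul a b x := fun x b => by
    rw [GrpdLib.OrbitQuot.comp_orbitMap, toUnit_unique (toUnit _) (𝟙 _), Category.id_comp]
  let T : Set ↥X.left → Set ↥(X ⊗ Y).left := fun S =>
    closure {p | ∃ (x : Pt X) (y : Pt Y), pt x ∈ S ∧ pt (lift x y) ∈ Z ∧ pt (lift x y) = p}
  have hpair : ∀ z : Pt (X ⊗ Y), lift (z ≫ fst X Y) (z ≫ snd X Y) = z := fun z => lift_comp_fst_snd z
  obtain ⟨S, hS, hZS⟩ : ∃ S ∈ hfin.toFinset, Z ⊆ T S := by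
    have hcov : Z ⊆ ⋃₀ ↑(hfin.toFinset.image T) := by
      refine subset_of_pts hZc ?_ ?_
      · rw [Set.sUnion_eq_biUnion]
        refine Set.Finite.isClosed_biUnion (Finset.finite_toSet _) ?_
        intro C hC
        obtain ⟨S, -, rfl⟩ := Finset.mem_image.1 hC
        exact isClosed_closure
      · intro z hz
        refine Set.mem_sUnion.2 ⟨_, Finset.mem_image_of_mem T (hfin.mem_toFinset.2 ⟨z ≫ fst X Y, rfl⟩), ?_⟩
        refine subset_closure ⟨z ≫ fst X Y, z ≫ snd X Y, ⟨pt (1 : Pt B), ?_⟩, (hpair z).symm ▸ hz, by rw [hpair]⟩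
        rw [← pt_comp, horb, one_smul']
    obtain ⟨C, hC, hZC⟩ := isIrreducible_iff_sUnion_isClosed.1 hZi (hfin.toFinset.image T)
      (fun C hC => by obtain ⟨S, -, rfl⟩ := Finset.mem_image.1 hC; exact isClosed_closure) hcov
    obtain ⟨S, hS, rfl⟩ := Finset.mem_image.1 hC
    exact ⟨S, hS, hZC⟩
  obtain ⟨x₀, rfl⟩ := hfin.mem_toFinset.1 hS
  refine ⟨closure (Set.range ⇑(a.orbitMap x₀).left.base), closure (⇑(snd X Y).left.base '' Z), isClosed_closure,
    ?_, isClosed_closure, (hZi.image _ (snd X Y).left.continuous.continuousOn).closure, fun b => ?_, ?_⟩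
  · have h : IsIrreducible (Set.range ⇑(a.orbitMap x₀).left.base) := by
      rw [← Set.image_univ]
      exact (IrreducibleSpace.isIrreducible_univ _).image _ (a.orbitMap x₀).left.continuous.continuousOn
    exact h.closure
  · refine (image_closure_subset_closure_image
      (lift (toUnit X ≫ b) (𝟙 X) ≫ a.act).left.continuous).trans (closure_mono ?_)
    have e : a.orbitMap x₀ ≫ lift (toUnit X ≫ b) (𝟙 X) ≫ a.act =
        ((toUnit B ≫ b) * 𝟙 B) ≫ a.orbitMap x₀ := by
      rw [GrpdLib.OrbitQuot.comp_orbitMap, mul_smul', comp_lift_assoc, Category.comp_id, ← Category.assoc,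
        toUnit_unique (a.orbitMap x₀ ≫ toUnit X) (toUnit B)]
      rfl
    rintro _ ⟨_, ⟨c, rfl⟩, rfl⟩
    refine ⟨((toUnit B ≫ b) * 𝟙 B).left c, ?_⟩
    exact (congrArg (fun f : B ⟶ X => f.left c) e).symm
  · refine Set.Subset.antisymm (fun z hz => ⟨?_, subset_closure ⟨z, hz, rfl⟩⟩) ?_
    · refine closure_minimal (?_ : _ ⊆ ⇑(fst X Y).left.base ⁻¹' closure _)
        (isClosed_closure.preimage (fst X Y).left.continuous) (hZS hz)
      rintro _ ⟨x, y, hx, -, rfl⟩
      rw [Set.mem_preimage, ← pt_comp, lift_fst]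
      exact subset_closure hx
    · refine subset_of_pts ((isClosed_closure.preimage (fst X Y).left.continuous).inter
        (isClosed_closure.preimage (snd X Y).left.continuous)) hZc fun z ⟨hz1, hz2⟩ => ?_
      let W₀ : Set ↥Y.left := {q | ∃ y : Pt Y, pt (lift x₀ y) ∈ Z ∧ pt y = q}
      have hW : ⇑(snd X Y).left.base '' Z ⊆ closure W₀ := by
        rintro _ ⟨p, hp, rfl⟩
        refine closure_minimal (?_ : _ ⊆ ⇑(snd X Y).left.base ⁻¹' closure W₀)
          (isClosed_closure.preimage (snd X Y).left.continuous) (hZS hp)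
        rintro _ ⟨x, y, hx, hxy, rfl⟩
        rw [Set.mem_preimage, ← pt_comp, lift_snd]
        obtain ⟨b, rfl⟩ := exists_lift_range (a.orbitMap x₀) x hx
        rw [horb] at hxy
        have h := hstab b⁻¹ _ y hxy
        rw [← mul_smul', inv_mul_cancel, one_smul'] at h
        exact subset_closure ⟨y, h, rfl⟩
      have hV : ∀ y : Pt Y, pt (lift x₀ y) ∈ Z → ∀ x : Pt X,
          pt x ∈ closure (Set.range ⇑(a.orbitMap x₀).left.base) → pt (lift x y) ∈ Z := by
        intro y hy x hx
        let s : X ⟶ X ⊗ Y := lift (𝟙 X) (toUnit X ≫ y)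
        have hs : ∀ x' : Pt X, pt (lift x' y) = s.left (pt x') := fun x' => by
          rw [← pt_comp, comp_lift, Category.comp_id, const_comp]
        rw [hs]
        refine closure_minimal (?_ : _ ⊆ s.left.base ⁻¹' Z) (hZc.preimage s.left.continuous) hx
        have hall : ((a.orbitMap x₀) ≫ s).left.base ⁻¹' Z = Set.univ := by
          refine Set.univ_subset_iff.1 (subset_of_pts isClosed_univ (hZc.preimage ((a.orbitMap x₀) ≫ s).left.continuous) ?_)
          intro b _
          show ((a.orbitMap x₀) ≫ s).left (pt b) ∈ Z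
          rw [← pt_comp, ← Category.assoc, horb, pt_comp, ← hs]
          exact hstab b x₀ y hy
        rintro _ ⟨c, rfl⟩
        exact Set.eq_univ_iff_forall.1 hall c
      have h1 : pt (z ≫ fst X Y) ∈ closure (Set.range ⇑(a.orbitMap x₀).left.base) := hz1
      have h2 : pt (z ≫ snd X Y) ∈ closure W₀ := closure_minimal hW isClosed_closure hz2
      let r : Y ⟶ X ⊗ Y := lift (toUnit Y ≫ (z ≫ fst X Y)) (𝟙 Y)
      have hr : ∀ y : Pt Y, pt (lift (z ≫ fst X Y) y) = r.left (pt y) := fun y => by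
        rw [← pt_comp, comp_lift, Category.comp_id, const_comp]
      rw [← hpair z, hr]
      refine closure_minimal (?_ : _ ⊆ r.left.base ⁻¹' Z) (hZc.preimage r.left.continuous) h2
      rintro _ ⟨y, hy, rfl⟩
      show r.left (pt y) ∈ Z
      rw [← hr]
      exact hV y hy _ h1

end Groth.Agent.Borel50.StableProd
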