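import Groth.Agent.Borel50.Lin.Torus

/-!
# Conjugacy of maximal tori
-/

set_option autoImplicit false
universe u v

open CategoryTheory MonoidalCategory CartesianMonoidalCategory MonObj GrpObj AlgebraicGeometry Limits

noncomputable section

namespace Groth.Agent.Borel50

namespace Lin.Rep

open MvPolynomial in
/-- A torus has a torsion element with the same centraliser. -/
theorem IsToral.exists_generic_torsion {k : Type u} [Field k] [IsAlgClosed k] {N : ℕ} {Γ : Type v} [Group Γ]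
    [TopologicalSpace Γ] {Φ : Rep k Γ N} {T : Subgroup Γ} (hT : Φ.IsToral T) :
    ∃ t ∈ T, (∃ n : ℕ, (n : k) ≠ 0 ∧ t ^ n = 1) ∧ ∀ x : Γ, x * t = t * x → ∀ s ∈ T, x * s = s * x := by
  classical
  obtain ⟨P, Q, hQP, hd⟩ := hT.diag
  let Ψ := Φ.conj P Q hQP
  have hirr := Φ.isIrreducible_of_preconnected hT.closed hT.preconnected
  let e : Fin N × Fin N → Set Γ := fun p => {x | ev (X (p.1, p.1) - X (p.2, p.2)) (Ψ.ρ x) = 0}
  let I := Finset.univ.filter fun p => ¬ (T : Set Γ) ⊆ e p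
  obtain ⟨t, ⟨ht, htor⟩, htI⟩ :
      ∃ t, (t ∈ T ∧ ∃ n : ℕ, (n : k) ≠ 0 ∧ t ^ n = 1) ∧ ∀ p ∈ I, t ∉ e p := by
    by_contra hne
    push Not at hne
    have hcl : IsClosed (⋃ p ∈ I, e p) := isClosed_biUnion_finset fun p _ => Ψ.isClosed_ev _
    have hsub : (T : Set Γ) ⊆ ⋃ p ∈ I, e p := hT.closure_torsion.trans (closure_minimal (fun x hx => by
      obtain ⟨p, hp, hxp⟩ := hne x hx
      exact Set.mem_biUnion hp hxp) hcl)
    obtain ⟨s, hs, hTs⟩ := isIrreducible_iff_sUnion_isClosed.1 hirr (I.image e)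
      (fun z hz => by
        obtain ⟨p, -, rfl⟩ := Finset.mem_image.1 hz
        exact Ψ.isClosed_ev _)
      (fun x hx => by
        obtain ⟨p, hp, hxp⟩ := Set.mem_iUnion₂.1 (hsub hx)
        exact ⟨e p, Finset.mem_coe.2 (Finset.mem_image_of_mem e hp), hxp⟩)
    obtain ⟨p, hp, rfl⟩ := Finset.mem_image.1 hs
    exact (Finset.mem_filter.1 hp).2 hTs
  refine ⟨t, ht, htor, fun x hx s hs => Ψ.inj ?_⟩
  obtain ⟨a, ha⟩ : ∃ a, Ψ.ρ t = Matrix.diagonal a := ⟨_, (Matrix.IsDiag.diagonal_diag (hd t ht)).symm⟩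
  obtain ⟨b, hb⟩ : ∃ b, Ψ.ρ s = Matrix.diagonal b := ⟨_, (Matrix.IsDiag.diagonal_diag (hd s hs)).symm⟩
  have hxt := congrArg Ψ.ρ hx
  rw [map_mul, map_mul, ha] at hxt
  rw [map_mul, map_mul, hb]
  refine Matrix.ext fun i j => ?_
  have hij := congrArg (fun M => M i j) hxt
  simp only [Matrix.mul_diagonal, Matrix.diagonal_mul] at hij ⊢
  by_cases hmem : (i, j) ∈ I
  · have hne : a i ≠ a j := fun h => htI _ hmem (show ev _ (Ψ.ρ t) = 0 by simp [ev, ha, h])
    have h0 : Ψ.ρ x i j = 0 := by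
      by_contra h0
      rw [_root_.mul_comm] at hij
      exact hne (mul_right_cancel₀ h0 hij).symm
    rw [h0]; ring
  · have h1 : (T : Set Γ) ⊆ e (i, j) := by
      by_contra h; exact hmem (Finset.mem_filter.2 ⟨Finset.mem_univ _, h⟩)
    have h2 : b i = b j := by
      have := h1 hs
      simpa [e, ev, hb, sub_eq_zero] using this
    rw [h2]; ring

variable {k : Type u} [Field k] {N : ℕ} {Γ : Type v} [Group Γ] [TopologicalSpace Γ] {Φ : Rep k Γ N}

/-- Toral subgroups do not depend on the basis, conversely. -/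
lemma IsToral.to_conj {P Q : Matrix (Fin N) (Fin N) k} (hQP : Q * P = 1) {T : Subgroup Γ} (h : Φ.IsToral T) :
    (Φ.conj P Q hQP).IsToral T := by
  obtain ⟨P', Q', h', hd⟩ := h.diag
  refine ⟨h.closed, h.preconnected, P' * Q, P * Q', ?_, fun x hx => ?_⟩
  · rw [_root_.mul_assoc, ← _root_.mul_assoc Q', h', _root_.one_mul, mul_eq_one_comm.mp hQP]
  · have e : P' * Q * (Φ.conj P Q hQP).ρ x * (P * Q') = P' * Φ.ρ x * Q' := by
      show P' * Q * (P * Φ.ρ x * Q) * (P * Q') = _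
      simp only [_root_.mul_assoc]
      rw [← _root_.mul_assoc Q P, hQP, _root_.one_mul, ← _root_.mul_assoc Q P, hQP, _root_.one_mul]
    rw [e]
    exact hd x hx

/-- A toral subgroup of a closed subgroup. -/
lemma IsToral.subgroupOf {T H : Subgroup Γ} (hH : IsClosed (H : Set Γ)) (h : Φ.IsToral T) (hle : T ≤ H) :
    (Φ.restrict H hH).IsToral (T.subgroupOf H) := by
  refine ⟨h.closed.preimage continuous_subtype_val, ?_, ?_⟩
  · refine Topology.IsInducing.subtypeVal.isPreconnected_image.1 ?_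
    convert h.preconnected using 1
    ext x
    exact ⟨by rintro ⟨y, hy, rfl⟩; exact hy, fun hx => ⟨⟨x, hle hx⟩, hx, rfl⟩⟩
  · obtain ⟨P, Q, hQP, hd⟩ := h.diag
    exact ⟨P, Q, hQP, fun x hx => hd _ hx⟩

/-- An element of a toral subgroup with trivial diagonal is trivial. -/
lemma IsToral.eq_one_of_diag [IsAlgClosed k] (hup : ∀ x, Φ.ρ x ∈ fil k N 0) {T : Subgroup Γ} (hT : Φ.IsToral T)
    {x : Γ} (hx : x ∈ T) (h1 : Φ.diagHom hup x = 1) : x = 1 := by
  obtain ⟨P, Q, hQP, hd⟩ := hT.diag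
  have hnil : (Φ.ρ x - 1) ^ N = 0 :=
    eq_zero_of_fil (by omega) (pow_mem_fil (Φ.mem_unipotent.1 (Φ.mem_unipotent_of_diag h1)) N)
  have hdu : (P * (Φ.ρ x - 1) * Q).IsDiag := by
    rw [mul_sub, sub_mul, _root_.mul_one, mul_eq_one_comm.mp hQP]
    exact Matrix.IsDiag.sub (hd x hx) Matrix.isDiag_one
  have hpow : (P * (Φ.ρ x - 1) * Q) ^ N = 0 := by
    have : ∀ (M : Matrix (Fin N) (Fin N) k) (j : ℕ), (P * M * Q) ^ j = P * M ^ j * Q := by
      intro M j
      induction j with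
      | zero => simp [mul_eq_one_comm.mp hQP]
      | succ j ih =>
        rw [pow_succ, ih, pow_succ]
        simp only [_root_.mul_assoc]
        rw [← _root_.mul_assoc Q P, hQP, _root_.one_mul]
    rw [this, hnil, mul_zero, zero_mul]
  rw [← hdu.diagonal_diag, Matrix.diagonal_pow, Matrix.diagonal_eq_zero] at hpow
  have hzero : P * (Φ.ρ x - 1) * Q = 0 := by
    rw [← hdu.diagonal_diag, Matrix.diagonal_eq_zero]
    funext i
    exact eq_zero_of_pow_eq_zero (congrFun hpow i)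
  have h3 := congrArg (fun M => Q * M * P) hzero
  simp only [mul_zero, zero_mul, ← _root_.mul_assoc, hQP, _root_.one_mul] at h3
  simp only [_root_.mul_assoc, hQP, _root_.mul_one] at h3
  rw [sub_eq_zero, ← map_one Φ.ρ] at h3
  exact Φ.inj h3

lemma map_conj_map_conj (T : Subgroup Γ) (a b : Γ) :
    (T.map (MulAut.conj a).toMonoidHom).map (MulAut.conj b).toMonoidHom = T.map (MulAut.conj (b * a)).toMonoidHom := by
  rw [Subgroup.map_map]
  congr 1
  ext x
  simp [_root_.mul_assoc]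

/-- Every maximal torus of a connected triangular group is conjugate to a fixed lift of the diagonal. -/
theorem exists_conj_eq [IsAlgClosed k] (hup : ∀ x, Φ.ρ x ∈ fil k N 0) {T₁ T : Subgroup Γ} (h₁ : Φ.IsToral T₁)
    (hcov : ∀ x, ∃ t ∈ T₁, Φ.diagHom hup t = Φ.diagHom hup x) (hT : Φ.IsToral T)
    (hmax : ∀ T', Φ.IsToral T' → T ≤ T' → T' = T) : ∃ v, T.map (MulAut.conj v).toMonoidHom = T₁ := by
  obtain ⟨t, ht, ⟨n, hn, htn⟩, hgen⟩ := hT.exists_generic_torsion
  obtain ⟨t₁, ht₁, he⟩ := hcov t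
  have ht₁n : t₁ ^ n = 1 := h₁.eq_one_of_diag hup (T₁.pow_mem ht₁ n) (by rw [map_pow, he, ← map_pow, htn, map_one])
  obtain ⟨v, -, hv⟩ := exists_conj Φ hup hn htn ht₁n
    (Φ.mem_unipotent_of_diag (by rw [map_mul, he, ← map_mul, inv_mul_cancel, map_one]))
  set T₂ := T.map (MulAut.conj v).toMonoidHom with hT₂def
  have hT₂ : Φ.IsToral T₂ := hT.map_conj v
  have hmax₂ : ∀ T', Φ.IsToral T' → T₂ ≤ T' → T' = T₂ := fun T' hT' hle => by
    have h := hmax (T'.map (MulAut.conj v⁻¹).toMonoidHom) (hT'.map_conj v⁻¹)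
      fun r hr => ⟨v * r * v⁻¹, hle ⟨r, hr, rfl⟩, by simp [_root_.mul_assoc]⟩
    rw [hT₂def, ← h, map_conj_map_conj, mul_inv_cancel, map_one]
    exact (Subgroup.map_id T').symm
  have hcomm : ∀ y ∈ T₁, ∀ s ∈ T₂, y * s = s * y := by
    rintro y hy _ ⟨s, hs, rfl⟩
    have h0 : y * t₁ = t₁ * y := h₁.commute hy ht₁
    rw [← hv] at h0
    have h2 : (v⁻¹ * y * v) * t = t * (v⁻¹ * y * v) := by
      calc (v⁻¹ * y * v) * t = v⁻¹ * (y * (v * t * v⁻¹)) * v := by group
        _ = v⁻¹ * ((v * t * v⁻¹) * y) * v := by rw [h0]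
        _ = t * (v⁻¹ * y * v) := by group
    have h3 := hgen _ h2 s hs
    show y * (v * s * v⁻¹) = v * s * v⁻¹ * y
    calc y * (v * s * v⁻¹) = v * ((v⁻¹ * y * v) * s) * v⁻¹ := by group
      _ = v * (s * (v⁻¹ * y * v)) * v⁻¹ := by rw [h3]
      _ = v * s * v⁻¹ * y := by group
  obtain ⟨T₃, hT₃, hl₁, hl₂⟩ := h₁.exists_sup hT₂ hcomm
  have h12 : T₁ ≤ T₂ := hl₁.trans (hmax₂ T₃ hT₃ hl₂).le
  refine ⟨v, le_antisymm (fun x hx => ?_) h12⟩
  obtain ⟨s, hs, hes⟩ := hcov x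
  have h4 : s⁻¹ * x = 1 := hT₂.eq_one_of_diag hup (T₂.mul_mem (T₂.inv_mem (h12 hs)) hx)
    (by rw [map_mul, ← hes, ← map_mul, inv_mul_cancel, map_one])
  rw [← inv_mul_eq_one.1 h4]
  exact hs

/-- Maximal tori of a connected solvable linear group are conjugate. -/
theorem toral_conj_of_solvable [IsAlgClosed k] [PreconnectedSpace Γ] {n : ℕ} (hn : derivedSeries Γ n = ⊥)
    {T T' : Subgroup Γ} (hT : Φ.IsToral T) (hmax : ∀ S, Φ.IsToral S → T ≤ S → S = T) (hT' : Φ.IsToral T')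
    (hmax' : ∀ S, Φ.IsToral S → T' ≤ S → S = T') : ∃ g, T.map (MulAut.conj g).toMonoidHom = T' := by
  obtain ⟨P, Q, hQP, hup⟩ := Φ.exists_upper hn
  let Ψ := Φ.conj P Q hQP
  obtain ⟨T₁, h₁, hcov⟩ := Ψ.exists_toral_lift hup
  obtain ⟨v, hv⟩ := exists_conj_eq (Φ := Ψ) hup h₁ hcov (hT.to_conj hQP) fun S hS h => hmax S hS.of_conj h
  obtain ⟨v', hv'⟩ := exists_conj_eq (Φ := Ψ) hup h₁ hcov (hT'.to_conj hQP) fun S hS h => hmax' S hS.of_conj h
  refine ⟨v'⁻¹ * v, ?_⟩
  rw [← map_conj_map_conj, hv, ← hv', map_conj_map_conj, inv_mul_cancel, map_one]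
  exact Subgroup.map_id T'

end Lin.Rep

namespace ToralConj

open Groth.Agent.Borel50.Pts Groth.Agent.Borel50.Lin Groth.Agent.Borel50.Density

attribute [local instance] ptTop

variable {k : Type u} [Field k] {G : Over (Spec (CommRingCat.of k))} [GrpObj G]

lemma range_conjBy {H : Over (Spec (CommRingCat.of k))} [GrpObj H] (i : H ⟶ G) [IsMonHom i] (g : Pt G)
    [IsMonHom (AGF.conjBy g i)] :
    (ptHom (AGF.conjBy g i)).range = (ptHom i).range.map (MulAut.conj g).toMonoidHom := by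
  have key : ∀ h : Pt H, h ≫ AGF.conjBy g i = g * (h ≫ i) * g⁻¹ := fun h => by
    rw [Conj.comp_conjBy, AGF.conjBy, toUnit_unique (toUnit (𝟙_ _)) (𝟙 _), Category.id_comp]
  ext x
  constructor
  · rintro ⟨h, rfl⟩
    exact ⟨h ≫ i, ⟨h, rfl⟩, (key h).symm⟩
  · rintro ⟨_, ⟨h, rfl⟩, rfl⟩
    exact ⟨h, key h⟩

variable [IsAlgClosed k]

/-- Subgroups with the same rational points are isomorphic. -/
theorem exists_iso_of_range {H H' : Over (Spec (CommRingCat.of k))} [GrpObj H] [GrpObj H']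
    [LocallyOfFiniteType H.hom] [IsReduced H.left] [LocallyOfFiniteType H'.hom] [IsReduced H'.left]
    (i : H ⟶ G) [IsMonHom i] [IsClosedImmersion i.left] (i' : H' ⟶ G) [IsMonHom i'] [IsClosedImmersion i'.left]
    (h : (ptHom i).range = (ptHom i').range) : ∃ f : H ≅ H', f.hom ≫ i' = i := by
  obtain ⟨f, hf⟩ := Pts.factor_of_points i i' fun x => by
    obtain ⟨z, hz⟩ := (h ▸ ⟨x, rfl⟩ : x ≫ i ∈ (ptHom i').range)
    exact mem_range_of_factor hz
  obtain ⟨f', hf'⟩ := Pts.factor_of_points i' i fun x => by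
    obtain ⟨z, hz⟩ := (h.symm ▸ ⟨x, rfl⟩ : x ≫ i' ∈ (ptHom i).range)
    exact mem_range_of_factor hz
  have : Mono i := Over.mono_of_mono_left i
  have : Mono i' := Over.mono_of_mono_left i'
  exact ⟨⟨f, f', by rw [← cancel_mono i, Category.assoc, hf', hf, Category.id_comp],
    by rw [← cancel_mono i', Category.assoc, hf, hf', Category.id_comp]⟩, hf⟩

variable [IsAffine G.left] [Smooth G.hom] [ConnectedSpace G.left]

/-- A toral subgroup is conjugate into a Borel subgroup. -/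
theorem conj_into_borel {N : ℕ} {Φ : Rep k (Pt G) N} {B : Over (Spec (CommRingCat.of k))} [GrpObj B] (iB : B ⟶ G)
    [IsMonHom iB] (hB : Red.IsBorelOver k iB) {T : Subgroup (Pt G)} (hT : Φ.IsToral T) :
    ∃ g, T.map (MulAut.conj g).toMonoidHom ≤ (ptHom iB).range := by
  have := FixedPt.qc_G G
  have := hB.2.1
  have : Mono iB := Over.mono_of_mono_left iB
  have : LocallyOfFiniteType B.hom := by rw [← Over.w iB]; infer_instance
  have : QuasiCompact B.hom := by rw [← Over.w iB]; infer_instance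
  obtain ⟨K, _, iK, _, _, _, hK, hr⟩ := Torus.exists_torus hT
  obtain ⟨_, _, _, _, hcomm, -⟩ := TorusSch.torus_facts hK
  have : ConnectedSpace K.left := inferInstance
  have hsol : ∃ n, derivedSeries (Pt K) n = ⊥ := by
    refine ⟨1, ?_⟩
    rw [derivedSeries_one, commutator_def, eq_bot_iff, Subgroup.commutator_le]
    intro x _ y _
    rw [Subgroup.mem_bot, commutatorElement_eq_one_iff_mul_comm]
    exact hcomm x y
  obtain ⟨X, a, o, hl, -, hf, hs, hq⟩ := S3279.result k G B iB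
  have hX : AGF.IsQuotient iB X a o := ⟨hl, hf, hs, hq⟩
  have := Conj.isProper_quotient_borel iB hB hX
  obtain ⟨g, l, hgl⟩ := Conj.exists_conj_factor iK hsol hX
  have := Conj.isMonHom_conjBy g iK
  refine ⟨g, ?_⟩
  rw [← hr, ← range_conjBy iK g]
  rintro _ ⟨x, rfl⟩
  exact ⟨x ≫ l, show (x ≫ l) ≫ iB = x ≫ AGF.conjBy g iK by rw [Category.assoc, hgl]⟩

/-- Maximal toral subgroups are conjugate, inside a given Borel subgroup when both lie in it. -/
theorem toral_conj_of_le {N : ℕ} {Φ : Rep k (Pt G) N} {B : Over (Spec (CommRingCat.of k))} [GrpObj B] (iB : B ⟶ G)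
    [IsMonHom iB] (hB : Red.IsBorelOver k iB) {T T' : Subgroup (Pt G)} (hT : Φ.IsToral T)
    (hmax : ∀ S, Φ.IsToral S → T ≤ S → S = T) (hT' : Φ.IsToral T') (hmax' : ∀ S, Φ.IsToral S → T' ≤ S → S = T')
    (hle : T ≤ (ptHom iB).range) (hle' : T' ≤ (ptHom iB).range) :
    ∃ g ∈ (ptHom iB).range, T.map (MulAut.conj g).toMonoidHom = T' := by
  have := hB.2.1
  have := hB.2.2.1
  have := hB.2.2.2.1
  set BC := (ptHom iB).range with hBCdef
  have hBC : IsClosed (BC : Set (Pt G)) := Density.isClosed_range iB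
  have : PreconnectedSpace BC := Subtype.preconnectedSpace (Density.isPreconnected_range iB)
  obtain ⟨n, hn⟩ := Solvable.points_of_isSolvableGrp hB.2.2.2.2.1
  have hBsol : derivedSeries BC n = ⊥ := by
    rw [eq_bot_iff, ← map_derivedSeries_eq (MonoidHom.rangeRestrict_surjective (ptHom iB)) n, hn, Subgroup.map_bot]
  have hsub : ∀ {S : Subgroup (Pt G)}, Φ.IsToral S → S ≤ BC → (∀ S', Φ.IsToral S' → S ≤ S' → S' = S) →
      ∀ R, (Φ.restrict BC hBC).IsToral R → S.subgroupOf BC ≤ R → R = S.subgroupOf BC := by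
    intro S hS hSle hSmax R hR hSR
    have h := hSmax (R.map BC.subtype) hR.map_subtype fun x hx => ⟨⟨x, hSle hx⟩, hSR (show _ ∈ S from hx), rfl⟩
    rw [← h]
    exact (Subgroup.comap_map_eq_self_of_injective (Subgroup.subtype_injective BC) R).symm
  obtain ⟨g, hg⟩ := Lin.Rep.toral_conj_of_solvable hBsol (hT.subgroupOf hBC hle) (hsub hT hle hmax)
    (hT'.subgroupOf hBC hle') (hsub hT' hle' hmax')
  refine ⟨g, g.2, ?_⟩
  have := congrArg (Subgroup.map BC.subtype) hg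
  rw [Subgroup.map_subgroupOf_eq_of_le hle', Subgroup.map_map] at this
  rw [← this]
  conv_lhs => rw [← Subgroup.map_subgroupOf_eq_of_le hle, Subgroup.map_map]
  congr 1

/-- Maximal toral subgroups are conjugate. -/
theorem toral_conj {N : ℕ} {Φ : Rep k (Pt G) N} {T T' : Subgroup (Pt G)} (hT : Φ.IsToral T)
    (hmax : ∀ S, Φ.IsToral S → T ≤ S → S = T) (hT' : Φ.IsToral T') (hmax' : ∀ S, Φ.IsToral S → T' ≤ S → S = T') :
    ∃ g, T.map (MulAut.conj g).toMonoidHom = T' := by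
  obtain ⟨B, _, iB, hB⟩ := Conj.exists_borel G
  have := hB.1
  obtain ⟨a, ha⟩ := conj_into_borel iB hB hT
  obtain ⟨b, hb⟩ := conj_into_borel iB hB hT'
  have hm : ∀ {S : Subgroup (Pt G)} (c : Pt G), (∀ R, Φ.IsToral R → S ≤ R → R = S) →
      ∀ R, Φ.IsToral R → S.map (MulAut.conj c).toMonoidHom ≤ R → R = S.map (MulAut.conj c).toMonoidHom := by
    intro S c hS R hR hle
    have h := hS (R.map (MulAut.conj c⁻¹).toMonoidHom) (hR.map_conj c⁻¹)
      fun r hr => ⟨c * r * c⁻¹, hle ⟨r, hr, rfl⟩, by simp [_root_.mul_assoc]⟩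
    rw [← h, Lin.Rep.map_conj_map_conj, mul_inv_cancel, map_one]
    exact (Subgroup.map_id R).symm
  obtain ⟨g, -, hg⟩ := toral_conj_of_le iB hB (hT.map_conj a) (hm a hmax) (hT'.map_conj b) (hm b hmax') ha hb
  refine ⟨b⁻¹ * (g * a), ?_⟩
  rw [← Lin.Rep.map_conj_map_conj, ← Lin.Rep.map_conj_map_conj, hg, Lin.Rep.map_conj_map_conj, inv_mul_cancel,
    map_one]
  exact Subgroup.map_id T'

/-- A maximal torus conjugated is isomorphic to the other one. -/
theorem exists_iso_conjBy {T T' : Over (Spec (CommRingCat.of k))} [GrpObj T] [GrpObj T'] {iT : T ⟶ G} {iT' : T' ⟶ G}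
    [IsMonHom iT] [IsMonHom iT'] [Mono iT] [Mono iT'] (hT : Red.IsTorus T) (hT' : Red.IsTorus T') {g : Pt G}
    (h : (ptHom iT).range.map (MulAut.conj g).toMonoidHom = (ptHom iT').range) :
    ∃ f : T ≅ T', f.hom ≫ iT' = AGF.conjBy g iT := by
  obtain ⟨_, _, _, _, -⟩ := TorusSch.torus_facts hT
  obtain ⟨_, _, _, _, -⟩ := TorusSch.torus_facts hT'
  have := Torus.isClosedImmersion_of_torus iT hT
  have := Torus.isClosedImmersion_of_torus iT' hT'
  have := Conj.isClosedImmersion_conjBy g iT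
  have := Conj.isMonHom_conjBy g iT
  exact exists_iso_of_range (AGF.conjBy g iT) iT' (by rw [range_conjBy]; exact h)

end ToralConj

end Groth.Agent.Borel50
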