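import Groth.Agent.Borel50.ConjDense
import Groth.Agent.Borel50.ToralConj
import Groth.Agent.GrpGen19.Basic
import Groth.Agent.Borel50.StableProd
import Mathlib.RingTheory.Ideal.KrullsHeightTheorem

/-!
# The commutator subgroup of a connected affine group is closed
-/

set_option autoImplicit false
universe u

open CategoryTheory MonoidalCategory CartesianMonoidalCategory MonObj GrpObj AlgebraicGeometry Limits
open scoped commutatorElement

noncomputable section

namespace Groth.Agent.Borel50.Commutator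

open Groth.Agent.Borel50.Pts Groth.Agent.Borel50.Density

variable {k : Type u} [Field k]

/-- A locally closed nonempty set contains a rational point. -/
lemma exists_pt_mem [IsAlgClosed k] {X : Over (Spec (CommRingCat.of k))} [LocallyOfFiniteType X.hom] {U : Set X.left}
    (hU : IsOpen U) (hne : U.Nonempty) : ∃ x : Pt X, pt x ∈ U := by
  have : JacobsonSpace X.left := LocallyOfFiniteType.jacobsonSpace X.hom
  obtain ⟨z, hz, hzc⟩ := nonempty_inter_closedPoints (Z := U) hne hU.isLocallyClosed
  obtain ⟨x, rfl⟩ := exists_pt (Y := X) hzc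
  exact ⟨x, hz⟩

/-- A directed family of irreducible subsets of a Noetherian affine scheme has a member with maximal closure. -/
lemma exists_closure_max {X : Scheme.{u}} [IsAffine X] [IsLocallyNoetherian X] {J : Type*} [Nonempty J] (S : J → Set X)
    (hS : ∀ j, IsIrreducible (S j)) : ∃ j, ∀ i, closure (S j) ⊆ closure (S i) → closure (S i) = closure (S j) := by
  classical
  have : IsNoetherianRing Γ(X, ⊤) := IsLocallyNoetherian.component_noetherian ⟨⊤, isAffineOpen_top X⟩
  let gp : J → X := fun j => (hS j).genericPoint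
  let q : J → Ideal Γ(X, ⊤) := fun j => (X.isoSpec.hom (gp j)).asIdeal
  obtain ⟨n, ⟨j, rfl⟩, hj⟩ := exists_minimal_of_wellFoundedLT (fun n : ℕ∞ => ∃ i, (q i).height = n)
    ⟨_, Classical.arbitrary J, rfl⟩
  refine ⟨j, fun i hsub => ?_⟩
  have hgi := (hS i).isGenericPoint_genericPoint_closure
  have hgj := (hS j).isGenericPoint_genericPoint_closure
  have hsp : gp i ⤳ gp j := hgi.specializes (hsub hgj.mem)
  have hle : q i ≤ q j := (PrimeSpectrum.le_iff_specializes _ _).2 (hsp.map X.isoSpec.hom.continuous)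
  by_cases he : q i = q j
  · have h1 : X.isoSpec.hom (gp i) = X.isoSpec.hom (gp j) := PrimeSpectrum.ext he
    have h2 : gp i = gp j := X.isoSpec.hom.homeomorph.injective h1
    rw [← hgi.def, ← hgj.def]
    exact congrArg (fun x => closure ({x} : Set X)) h2
  · have hlt := Ideal.height_strict_mono_of_isPrime_of_isPrime (lt_of_le_of_ne hle he)
    exact absurd (hj ⟨i, rfl⟩ hlt.le) (not_le.2 hlt)

variable [IsAlgClosed k] {G : Over (Spec (CommRingCat.of k))} [GrpObj G] [IsAffine G.left] [Smooth G.hom]
  [ConnectedSpace G.left]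

variable (G) in
/-- The commutator map. -/
def comm : G ⊗ G ⟶ G := fst G G * snd G G * (fst G G)⁻¹ * (snd G G)⁻¹

lemma pt_comm (w : Pt (G ⊗ G)) : w ≫ comm G = ⁅w ≫ fst G G, w ≫ snd G G⁆ := by
  simp [comm, commutatorElement_def, MonObj.comp_mul, GrpObj.comp_inv]

lemma word_facts (l : List Bool) :
    IrreducibleSpace (GrpGen19.word (G ⊗ G) l).left ∧ LocallyOfFiniteType (GrpGen19.word (G ⊗ G) l).hom ∧
      QuasiCompact (GrpGen19.word (G ⊗ G) l).hom := by
  have := FixedPt.qc_G G
  have : IsSeparated G.hom := GrpScheme.IdComponent.isSeparated G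
  induction l with
  | nil =>
    exact ⟨inferInstanceAs (IrreducibleSpace ↥(Spec (CommRingCat.of k))),
      inferInstanceAs (LocallyOfFiniteType (𝟙 (Spec (CommRingCat.of k)))),
      inferInstanceAs (QuasiCompact (𝟙 (Spec (CommRingCat.of k))))⟩
  | cons b l ih =>
    obtain ⟨_, _, _⟩ := ih
    have := ConjDense.irreducibleSpace_prod (G := G) (H := G)
    have : LocallyOfFiniteType (G ⊗ G).hom := inferInstanceAs (LocallyOfFiniteType (pullback.fst G.hom G.hom ≫ G.hom))
    have : QuasiCompact (G ⊗ G).hom := inferInstanceAs (QuasiCompact (pullback.fst G.hom G.hom ≫ G.hom))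
    have : GeometricallyIrreducible (G ⊗ G).hom := FBase.BC.geometricallyIrreducible_of_isSepClosed (G ⊗ G).hom
    exact ⟨inferInstanceAs (IrreducibleSpace ↥(pullback (G ⊗ G).hom (GrpGen19.word (G ⊗ G) l).hom)),
      inferInstanceAs (LocallyOfFiniteType (pullback.fst (G ⊗ G).hom (GrpGen19.word (G ⊗ G) l).hom ≫ (G ⊗ G).hom)),
      inferInstanceAs (QuasiCompact (pullback.fst (G ⊗ G).hom (GrpGen19.word (G ⊗ G) l).hom ≫ (G ⊗ G).hom))⟩

lemma word_mem_commutator : ∀ (l : List Bool) (w : Pt (GrpGen19.word (G ⊗ G) l)),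
    w ≫ GrpGen19.wordMap (comm G) l ∈ _root_.commutator (Pt G)
  | [], w => by
    have e : w ≫ GrpGen19.wordMap (comm G) [] = 1 := MonObj.comp_one _
    rw [e]
    exact Subgroup.one_mem _
  | b :: l, w => by
    have e : w ≫ GrpGen19.wordMap (comm G) (b :: l) =
        (w ≫ fst (G ⊗ G) (GrpGen19.word (G ⊗ G) l) ≫ GrpGen19.letter (comm G) b) *
          (w ≫ snd (G ⊗ G) (GrpGen19.word (G ⊗ G) l) ≫ GrpGen19.wordMap (comm G) l) := MonObj.comp_mul w _ _
    rw [e]
    refine Subgroup.mul_mem _ ?_ ?_
    · have h : (w ≫ fst (G ⊗ G) (GrpGen19.word (G ⊗ G) l)) ≫ comm G ∈ _root_.commutator (Pt G) := by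
        rw [pt_comm, _root_.commutator_def]
        exact Subgroup.commutator_mem_commutator (Subgroup.mem_top _) (Subgroup.mem_top _)
      cases b
      · simpa [GrpGen19.letter, GrpObj.comp_inv, Category.assoc] using Subgroup.inv_mem _ h
      · simpa [GrpGen19.letter, Category.assoc] using h
    · rw [← Category.assoc]
      exact word_mem_commutator l _

variable (G) in
/-- The commutator subgroup is the group of points of a smooth closed subgroup. -/
theorem exists_derived :
    ∃ (D : Over (Spec (CommRingCat.of k))) (_ : GrpObj D) (i : D ⟶ G), IsMonHom i ∧ IsClosedImmersion i.left ∧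
      Smooth D.hom ∧ Set.range (fun d : Pt D => d ≫ i) = (_root_.commutator (Pt G) : Set (Pt G)) := by
  classical
  have := FixedPt.qc_G G
  have : IsSeparated G.hom := GrpScheme.IdComponent.isSeparated G
  have : IsLocallyNoetherian G.left := LocallyOfFiniteType.isLocallyNoetherian G.hom
  have : LocallyOfFiniteType (G ⊗ G).hom := inferInstanceAs (LocallyOfFiniteType (pullback.fst G.hom G.hom ≫ G.hom))
  have : Smooth (G ⊗ G).hom := inferInstanceAs (Smooth (pullback.fst G.hom G.hom ≫ G.hom))
  have : GeometricallyReduced (G ⊗ G).hom := AbVarLib.Basics.geometricallyReduced_of_smooth (G ⊗ G).hom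
  obtain ⟨D, _, i, _, _, ⟨f', hf'⟩, hgr, hr, -⟩ := GrpGen19.exists_generated (comm G)
  have : LocallyOfFiniteType D.hom := by rw [← Over.w i]; infer_instance
  have : QuasiCompact D.hom := by rw [← Over.w i]; infer_instance
  have hred : IsReduced D.left := by
    have : IsReduced (pullback D.hom (𝟙 (Spec (CommRingCat.of k)))) := FBase.BC.isReduced_pullback _ _
    exact isReduced_of_isOpenImmersion (inv (pullback.fst D.hom (𝟙 (Spec (CommRingCat.of k)))))
  have hsm : Smooth D.hom := GrpScheme.Smooth.smooth_of_perfectField D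
  refine ⟨D, ‹_›, i, ‹_›, ‹_›, hsm, ?_⟩
  -- the words, and one of them with maximal closure
  let S : List Bool → Set G.left := fun l => Set.range (GrpGen19.wordMap (comm G) l).left
  have hSirr : ∀ l, IsIrreducible (S l) := fun l => by
    have := (word_facts (G := G) l).1
    show IsIrreducible (Set.range _)
    rw [← Set.image_univ]
    exact (IrreducibleSpace.isIrreducible_univ _).image _ (GrpGen19.wordMap (comm G) l).left.continuous.continuousOn
  have hone : ∀ l : List Bool, ∃ p : Pt (GrpGen19.word (G ⊗ G) l), p ≫ GrpGen19.wordMap (comm G) l = 1 := by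
    intro l
    induction l with
    | nil => exact ⟨𝟙 _, by simp [GrpGen19.wordMap]⟩
    | cons b l ih =>
      obtain ⟨p, hp⟩ := ih
      have h1 : lift (1 : Pt G) (1 : Pt G) ≫ comm G = 1 := by
        rw [pt_comm, lift_fst, lift_snd, commutatorElement_self]
      refine ⟨lift (lift 1 1) p, ?_⟩
      show lift _ p ≫ ((fst (G ⊗ G) (GrpGen19.word (G ⊗ G) l) ≫ GrpGen19.letter (comm G) b) *
        (snd (G ⊗ G) (GrpGen19.word (G ⊗ G) l) ≫ GrpGen19.wordMap (comm G) l)) = 1
      rw [MonObj.comp_mul, lift_fst_assoc, lift_snd_assoc, hp, _root_.mul_one]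
      cases b <;> simp [GrpGen19.letter, GrpObj.comp_inv, h1]
  obtain ⟨l₀, hl₀⟩ := exists_closure_max S hSirr
  have hmono : ∀ l, closure (S l) ⊆ closure (S l₀) := by
    intro l
    obtain ⟨σ, hσ⟩ := GrpGen19.exists_append (comm G) l₀ l
    obtain ⟨p₀, hp₀⟩ := hone l₀
    obtain ⟨p, hp⟩ := hone l
    have h1 : S l ⊆ S (l₀ ++ l) := by
      rintro _ ⟨z, rfl⟩
      refine ⟨(lift (toUnit _ ≫ p₀) (𝟙 _) ≫ σ).left z, ?_⟩
      refine congrArg (fun g : GrpGen19.word (G ⊗ G) l ⟶ G => g.left z) (?_ : (lift (toUnit _ ≫ p₀) (𝟙 _) ≫ σ) ≫ _ = _)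
      rw [Category.assoc, hσ, MonObj.comp_mul, lift_fst_assoc, lift_snd_assoc, Category.assoc, hp₀, MonObj.comp_one,
        _root_.one_mul, Category.id_comp]
    have h2 : S l₀ ⊆ S (l₀ ++ l) := by
      rintro _ ⟨z, rfl⟩
      refine ⟨(lift (𝟙 _) (toUnit _ ≫ p) ≫ σ).left z, ?_⟩
      refine congrArg (fun g : GrpGen19.word (G ⊗ G) l₀ ⟶ G => g.left z) (?_ : (lift (𝟙 _) (toUnit _ ≫ p) ≫ σ) ≫ _ = _)
      rw [Category.assoc, hσ, MonObj.comp_mul, lift_fst_assoc, lift_snd_assoc, Category.assoc, hp, MonObj.comp_one,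
        _root_.mul_one, Category.id_comp]
    rw [← hl₀ (l₀ ++ l) (closure_mono h2)]
    exact closure_mono h1
  have hC : (GrpGen19.genSet (comm G) : Set G.left) = closure (S l₀) := by
    refine Set.Subset.antisymm (closure_minimal (Set.iUnion_subset fun l => subset_closure.trans (hmono l.down))
      isClosed_closure) (closure_mono ?_)
    exact Set.subset_iUnion (fun l : ULift.{u} (List Bool) => S l.down) ⟨l₀⟩
  obtain ⟨_, _, _⟩ := word_facts (G := G) l₀
  have : IsReduced (GrpGen19.word (G ⊗ G) l₀).left := by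
    have := GrpGen19.geometricallyReduced_word (X := G ⊗ G) l₀
    have : IsReduced (pullback (GrpGen19.word (G ⊗ G) l₀).hom (𝟙 (Spec (CommRingCat.of k)))) :=
      FBase.BC.isReduced_pullback _ _
    exact isReduced_of_isOpenImmersion (inv (pullback.fst (GrpGen19.word (G ⊗ G) l₀).hom (𝟙 (Spec (CommRingCat.of k)))))
  obtain ⟨v, hv⟩ := factor_of_points (GrpGen19.wordMap (comm G) l₀) i fun w => by
    rw [hr, hC, pt_comp]
    exact subset_closure ⟨pt w, rfl⟩
  have himg : i.left '' Set.range v.left = S l₀ := by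
    rw [← Set.range_comp]
    show _ = Set.range (GrpGen19.wordMap (comm G) l₀).left
    rw [← hv]
    rfl
  have hdense : Dense (Set.range v.left) := by
    intro y
    rw [i.left.isClosedEmbedding.isEmbedding.closure_eq_preimage_closure_image, Set.mem_preimage, himg, ← hC, ← hr]
    exact ⟨y, rfl⟩
  have : IsLocallyNoetherian D.left := LocallyOfFiniteType.isLocallyNoetherian D.hom
  have : CompactSpace D.left := QuasiCompact.compactSpace_of_compactSpace D.hom
  have : LocallyOfFiniteType (v.left ≫ D.hom) := by rw [Over.w]; infer_instance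
  have : LocallyOfFiniteType v.left := locallyOfFiniteType_of_comp v.left D.hom
  have : QuasiCompact (v.left ≫ D.hom) := by rw [Over.w]; infer_instance
  have : IsAffine D.left := isAffine_of_isAffineHom i.left
  have : QuasiCompact v.left := QuasiCompact.of_comp v.left D.hom
  have : LocallyOfFinitePresentation v.left := inferInstance
  have hDirr : IsIrreducible (Set.univ : Set D.left) := by
    rw [← hdense.closure_eq, ← Set.image_univ]
    exact ((IrreducibleSpace.isIrreducible_univ _).image _ v.left.continuous.continuousOn).closure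
  have hE := v.left.isConstructible_image Topology.IsConstructible.univ
  rw [Set.image_univ] at hE
  obtain ⟨U, hU, hne, hsub⟩ := ConstrLib.exists_open_subset_of_dense_constructible hDirr hE
    (by rw [Set.inter_univ, hdense.closure_eq])
  rw [Set.inter_univ] at hne hsub
  refine Set.Subset.antisymm ?_ ?_
  · rintro _ ⟨d, rfl⟩
    let τ : D ⟶ D := (toUnit D ≫ d⁻¹) * 𝟙 D
    let τ' : D ⟶ D := (toUnit D ≫ d) * (𝟙 D)⁻¹
    have hτ' : ∀ x : Pt D, x ≫ τ' = d * x⁻¹ := fun x => by
      rw [MonObj.comp_mul, GrpObj.comp_inv, Category.comp_id, const_comp]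
    have hne' : (τ'.left ⁻¹' U).Nonempty := by
      obtain ⟨u, hu⟩ := exists_pt_mem hU hne
      refine ⟨pt (u⁻¹ * d), ?_⟩
      show τ'.left (pt _) ∈ U
      rw [← pt_comp, hτ', _root_.mul_inv_rev, _root_.inv_inv, ← _root_.mul_assoc, mul_inv_cancel, _root_.one_mul]
      exact hu
    obtain ⟨x, hx1, hx2⟩ := exists_pt_mem (hU.inter (hU.preimage τ'.left.continuous)) (by
      obtain ⟨z, -, hz⟩ := hDirr.2 U (τ'.left ⁻¹' U) hU (hU.preimage τ'.left.continuous)
        (by simpa using hne) (by simpa using hne')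
      exact ⟨z, hz⟩)
    have key : ∀ y : Pt D, pt y ∈ U → y ≫ i ∈ _root_.commutator (Pt G) := fun y hy => by
      obtain ⟨w, hw⟩ := StableProd.exists_lift_range v y (hsub hy)
      rw [← hw, Category.assoc, hv]
      exact word_mem_commutator l₀ w
    have hx2' : pt (x ≫ τ') ∈ U := hx2
    rw [hτ'] at hx2'
    have h := Subgroup.mul_mem _ (key _ hx2') (key x hx1)
    rw [← MonObj.mul_comp, inv_mul_cancel_right] at h
    exact h
  · have hle : _root_.commutator (Pt G) ≤ (ptHom i).range := by
      rw [_root_.commutator_def, Subgroup.commutator_le]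
      intro a _ b _
      refine ⟨lift a b ≫ f', ?_⟩
      show (lift a b ≫ f') ≫ i = _
      rw [Category.assoc, hf', pt_comm, lift_fst, lift_snd]
    intro x hx
    exact hle hx

end Groth.Agent.Borel50.Commutator
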