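import Groth.Agent.Borel50.Conseq
import Groth.Agent.GrpScheme.OrbitDim
import Groth.Agent.ConstrLib.Basic
import Groth.Agent.AbVarLib.Basics
import Groth.Agent.S4643

/-!
# Density of the union of conjugates of a subgroup with an element fixing finitely many cosets
-/

set_option autoImplicit false
universe u

open CategoryTheory MonoidalCategory CartesianMonoidalCategory MonObj GrpObj AlgebraicGeometry Limits

noncomputable section

namespace Groth.Agent.Borel50.ConjDense

open Groth.Agent.Borel50.Pts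

variable {k : Type u} [Field k] [IsAlgClosed k] {G H : Over (Spec (CommRingCat.of k))} [GrpObj G] [GrpObj H]

lemma ext_pt {X : Over (Spec (CommRingCat.of k))} [LocallyOfFiniteType X.hom] {x y : Pt X} (h : pt x = pt y) :
    x = y :=
  Over.OverMorphism.ext (ext_of_apply_closedPoint_eq X.hom (Over.w x) (Over.w y) h)

lemma isClosed_singleton_pt {X : Over (Spec (CommRingCat.of k))} [IsSeparated X.hom] (x : Pt X) :
    IsClosed ({pt x} : Set X.left) := by
  have e : ({pt x} : Set X.left) = Set.range x.left := by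
    ext z
    refine ⟨fun hz => ⟨IsLocalRing.closedPoint k, (Set.mem_singleton_iff.1 hz).symm⟩, ?_⟩
    rintro ⟨t, rfl⟩
    rw [Set.mem_singleton_iff, Subsingleton.elim (α := Spec (CommRingCat.of k)) t (IsLocalRing.closedPoint k)]
  rw [e]
  exact (isClosedImmersion_pt x).base_closed.isClosed_range

variable [LocallyOfFiniteType G.hom] [QuasiCompact G.hom] [IsSeparated G.hom] [ConnectedSpace G.left]
  [LocallyOfFiniteType H.hom] [QuasiCompact H.hom] [IsSeparated H.hom] [ConnectedSpace H.left]

omit [IsSeparated G.hom] [IsSeparated H.hom] [QuasiCompact G.hom] [QuasiCompact H.hom]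
  [LocallyOfFiniteType G.hom] [LocallyOfFiniteType H.hom] in
lemma irreducibleSpace_prod : IrreducibleSpace (G ⊗ H).left := by
  have := AbVarLib.Basics.irreducibleSpace_of_connectedSpace G
  have := AbVarLib.Basics.irreducibleSpace_of_connectedSpace H
  have : GeometricallyIrreducible G.hom := FBase.BC.geometricallyIrreducible_of_isSepClosed G.hom
  exact inferInstanceAs (IrreducibleSpace ↥(pullback G.hom H.hom))

/-- If some point of a subgroup has only finitely many cosets sent into it by conjugation, the conjugates of the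
subgroup are dense. -/
theorem dense_conj (iH : H ⟶ G) [IsMonHom iH] [IsClosedImmersion iH.left] (h₀ : Pt H) (S : Finset (Pt G))
    (hS : ∀ x : Pt G, ∀ h : Pt H, x⁻¹ * (h₀ ≫ iH) * x = h ≫ iH → ∃ s ∈ S, ∃ h' : Pt H, x = s * (h' ≫ iH)) :
    DenseRange (fst G H * (snd G H ≫ iH) * (fst G H)⁻¹).left := by
  classical
  set c := fst G H * (snd G H ≫ iH) * (fst G H)⁻¹
  let : G.left.Over (Spec (CommRingCat.of k)) := ⟨G.hom⟩
  let : H.left.Over (Spec (CommRingCat.of k)) := ⟨H.hom⟩
  let : (G ⊗ H).left.Over (Spec (CommRingCat.of k)) := ⟨(G ⊗ H).hom⟩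
  have : LocallyOfFiniteType (G ⊗ H).hom :=
    inferInstanceAs (LocallyOfFiniteType (pullback.fst G.hom H.hom ≫ G.hom))
  have : IsSeparated (G ⊗ H).hom :=
    inferInstanceAs (IsSeparated (pullback.fst G.hom H.hom ≫ G.hom))
  have : IsSeparated (fst G H).left := inferInstanceAs (IsSeparated (pullback.fst G.hom H.hom))
  have : LocallyOfFiniteType (G.left ↘ Spec (CommRingCat.of k)) := ‹LocallyOfFiniteType G.hom›
  have : LocallyOfFiniteType (H.left ↘ Spec (CommRingCat.of k)) := ‹LocallyOfFiniteType H.hom›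
  have : LocallyOfFiniteType ((G ⊗ H).left ↘ Spec (CommRingCat.of k)) := ‹LocallyOfFiniteType (G ⊗ H).hom›
  have : LocallyOfFiniteType (c.left ≫ G.hom) := by rw [Over.w]; infer_instance
  have : LocallyOfFiniteType c.left := locallyOfFiniteType_of_comp c.left G.hom
  have := AbVarLib.Basics.irreducibleSpace_of_connectedSpace G
  have := AbVarLib.Basics.irreducibleSpace_of_connectedSpace H
  have := irreducibleSpace_prod (G := G) (H := H)
  -- the candidates for the fibre
  let S' := S.filter fun s => ∃ h : Pt H, s⁻¹ * (h₀ ≫ iH) * s = h ≫ iH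
  choose cs hcs using fun s : S' => (Finset.mem_filter.1 s.2).2
  let ψ : S' → (H ⟶ G ⊗ H) := fun s =>
    lift ((toUnit H ≫ (s : Pt G)) * iH) ((𝟙 H : H ⟶ H)⁻¹ * (toUnit H ≫ cs s) * 𝟙 H)
  have hψ : ∀ s, IsClosedImmersion (ψ s).left := by
    intro s
    have h1 : IsClosedImmersion ((toUnit H ≫ (s : Pt G)) * iH).left := by
      have e : (toUnit H ≫ (s : Pt G)) * iH = iH ≫ ((toUnit G ≫ (s : Pt G)) * 𝟙 G) := by
        rw [MonObj.comp_mul, Category.comp_id, ← Category.assoc, toUnit_unique (iH ≫ toUnit G) (toUnit H)]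
      rw [e]
      have : IsIso ((toUnit G ≫ (s : Pt G)) * 𝟙 G) :=
        ⟨(toUnit G ≫ (s : Pt G)⁻¹) * 𝟙 G, by
          rw [MonObj.comp_mul, Category.comp_id, ← Category.assoc, toUnit_unique (_ ≫ toUnit G) (toUnit G),
            ← _root_.mul_assoc, ← MonObj.comp_mul, inv_mul_cancel, MonObj.comp_one, _root_.one_mul], by
          rw [MonObj.comp_mul, Category.comp_id, ← Category.assoc, toUnit_unique (_ ≫ toUnit G) (toUnit G),
            ← _root_.mul_assoc, ← MonObj.comp_mul, mul_inv_cancel, MonObj.comp_one, _root_.one_mul]⟩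
      have : IsIso ((toUnit G ≫ (s : Pt G)) * 𝟙 G).left :=
        inferInstanceAs (IsIso ((Over.forget _).map ((toUnit G ≫ (s : Pt G)) * 𝟙 G)))
      show IsClosedImmersion (iH.left ≫ ((toUnit G ≫ (s : Pt G)) * 𝟙 G).left)
      infer_instance
    have h2 : (ψ s).left ≫ (fst G H).left = ((toUnit H ≫ (s : Pt G)) * iH).left := by
      rw [← Over.comp_left, lift_fst]
    have : IsClosedImmersion ((ψ s).left ≫ (fst G H).left) := h2 ▸ h1
    exact IsClosedImmersion.of_comp (ψ s).left (fst G H).left
  have hψc : ∀ (s : S') (h : Pt H), (h ≫ ψ s) = lift ((s : Pt G) * (h ≫ iH)) (h⁻¹ * cs s * h) := fun s h => by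
    refine CartesianMonoidalCategory.hom_ext _ _ ?_ ?_
    · rw [Category.assoc, lift_fst, lift_fst, MonObj.comp_mul, const_comp]
    · rw [Category.assoc, lift_snd, lift_snd, MonObj.comp_mul, MonObj.comp_mul, const_comp, GrpObj.comp_inv,
        Category.comp_id]
  let z₀ : Pt (G ⊗ H) := lift 1 h₀
  have hz₀ : z₀ ≫ c = h₀ ≫ iH := by
    simp [c, z₀, MonObj.comp_mul, GrpObj.comp_inv]
  -- the fibre over `h₀`
  let F : Set (G ⊗ H).left := c.left ⁻¹' {pt (h₀ ≫ iH)}
  have hF : IsClosed F := (isClosed_singleton_pt _).preimage c.left.continuous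
  have hFsub : F ⊆ ⋃ s : S', Set.range (ψ s).left := by
    have hjac : JacobsonSpace (G ⊗ H).left := LocallyOfFiniteType.jacobsonSpace (G ⊗ H).hom
    rw [← (JacobsonSpace.closure_inter_closedPoints hF)]
    refine closure_minimal ?_ (isClosed_iUnion_of_finite fun s => (hψ s).base_closed.isClosed_range)
    rintro p ⟨hpF, hp⟩
    let q := pointEquivClosedPoint (G ⊗ H).hom |>.symm ⟨p, hp⟩
    let w : Pt (G ⊗ H) := Over.homMk q.1 q.2
    have hwp : pt w = p := congrArg Subtype.val ((pointEquivClosedPoint (G ⊗ H).hom).apply_symm_apply ⟨p, hp⟩)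
    have hwc : w ≫ c = h₀ ≫ iH := ext_pt (by rw [pt_comp, hwp]; exact hpF)
    set x : Pt G := w ≫ fst G H with hx
    set h : Pt H := w ≫ snd G H with hh
    have hxh : x⁻¹ * (h₀ ≫ iH) * x = h ≫ iH := by
      rw [← hwc]
      simp only [c, MonObj.comp_mul, GrpObj.comp_inv, ← Category.assoc, ← hx, ← hh]
      group
    obtain ⟨s, hsS, h', hxs⟩ := hS x h hxh
    have hsh : s⁻¹ * (h₀ ≫ iH) * s = (h' * h * h'⁻¹) ≫ iH := by
      rw [MonObj.mul_comp, MonObj.mul_comp, GrpObj.inv_comp, ← hxh, hxs]
      group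
    have hsS' : s ∈ S' := Finset.mem_filter.2 ⟨hsS, _, hsh⟩
    have hcs' : cs ⟨s, hsS'⟩ = h' * h * h'⁻¹ := by
      have : Mono iH := Over.mono_of_mono_left iH
      rw [← cancel_mono iH, ← hcs ⟨s, hsS'⟩, hsh]
    refine Set.mem_iUnion.2 ⟨⟨s, hsS'⟩, pt h', ?_⟩
    rw [← hwp, ← pt_comp, hψc]
    congr 1
    refine CartesianMonoidalCategory.hom_ext _ _ (by rw [lift_fst, ← hx, hxs]) ?_
    rw [lift_snd, ← hh, hcs']
    group
  -- dimension count
  set ξ := genericPoint (G ⊗ H).left
  obtain ⟨e, he, hdim⟩ := FibBound.dimPt_eq_add c.left k (Over.w c) ξ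
  have hmax : ∀ z, z ⤳ ξ → z = ξ := fun z hz => (hz.antisymm (genericPoint_specializes z)).eq
  obtain ⟨n, m, hn, hm, hfd⟩ := FibSemi.fibreDimAt_eq_add c.left (pt z₀)
  have hle := FibBound.le_fibreDimAt_of_max c.left (genericPoint_specializes (pt z₀)) hmax
  rw [← FibBound.krullDim_specs_of_max c.left hmax, he, hfd] at hle
  have hle' : e ≤ n + m := by exact_mod_cast hle
  have hm0 : m = 0 := by
    have hsub : Subsingleton {z : (G ⊗ H).left | c.left z = c.left (pt z₀) ∧ pt z₀ ⤳ z} := by
      refine ⟨fun a b => Subtype.ext ?_⟩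
      have key : ∀ z, pt z₀ ⤳ z → z = pt z₀ := fun z hz => by
        have := (isClosed_singleton_pt z₀).closure_eq ▸ specializes_iff_mem_closure.1 hz
        exact this
      rw [key a a.2.2, key b b.2.2]
    have : Nonempty {z : (G ⊗ H).left | c.left z = c.left (pt z₀) ∧ pt z₀ ⤳ z} := ⟨⟨_, rfl, specializes_rfl⟩⟩
    rw [Order.krullDim_eq_zero] at hm
    exact_mod_cast hm.symm
  have hfib : ∀ z ∈ F, VarDim.dimPt k (G ⊗ H).left z ≤ VarDim.dimPt k H.left (genericPoint H.left) := by
    intro z hz
    obtain ⟨s, y, rfl⟩ := Set.mem_iUnion.1 (hFsub hz)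
    exact (GrpScheme.OrbitDim.dimPt_map_le (ψ s) y).trans
      (VarDim.exists_ltSeries_of_le k (genericPoint_specializes y : y ≤ genericPoint H.left)).1
  have hnH : (n : WithBot ℕ∞) ≤ (VarDim.dimPt k H.left (genericPoint H.left) : ℕ) := by
    rw [← hn, Order.krullDim]
    refine iSup_le fun l => ?_
    have h1 := VarDim.dimPt_add_length_le k (l.map Subtype.val (Subtype.strictMono_coe _))
    have hmem : (l.map Subtype.val (Subtype.strictMono_coe _)).last ∈ F := by
      show c.left _ = pt (h₀ ≫ iH)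
      rw [← hz₀, pt_comp]
      exact l.last.2.1
    have h2 := hfib _ hmem
    have h3 : (l.map Subtype.val (Subtype.strictMono_coe _)).length = l.length := rfl
    exact_mod_cast (by omega : l.length ≤ VarDim.dimPt k H.left (genericPoint H.left))
  have hnH' : n ≤ VarDim.dimPt k H.left (genericPoint H.left) := by exact_mod_cast hnH
  have hprod := S4643.result G.hom H.hom
  rw [VarDim.topologicalKrullDim_eq_of_irreducible k (X := G.left),
    VarDim.topologicalKrullDim_eq_of_irreducible k (X := H.left),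
    show topologicalKrullDim ↥(pullback G.hom H.hom) = topologicalKrullDim (G ⊗ H).left from rfl,
    VarDim.topologicalKrullDim_eq_of_irreducible k (X := (G ⊗ H).left), ← Nat.cast_add, Nat.cast_inj] at hprod
  have hgen : VarDim.dimPt k G.left (genericPoint G.left) ≤ VarDim.dimPt k G.left (c.left ξ) := by
    change VarDim.dimPt k (G ⊗ H).left ξ = _ at hprod
    omega
  have hξ : c.left ξ = genericPoint G.left := by
    by_contra hne
    have hlt : c.left ξ < genericPoint G.left :=
      lt_of_le_not_ge (genericPoint_specializes (c.left ξ))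
        fun h => hne ((Specializes.antisymm h (genericPoint_specializes (c.left ξ))).eq)
    have := VarDim.dimPt_lt_of_lt k hlt
    omega
  refine dense_iff_closure_eq.2 (Set.eq_univ_of_forall fun y => ?_)
  have hy : y ∈ closure ({c.left ξ} : Set G.left) := by
    rw [hξ]; exact specializes_iff_mem_closure.1 (genericPoint_specializes y)
  exact closure_mono (Set.singleton_subset_iff.2 (Set.mem_range_self ξ)) hy

/-- Under the same hypothesis the conjugates contain a nonempty open set. -/
theorem exists_open_subset_conj (iH : H ⟶ G) [IsMonHom iH] [IsClosedImmersion iH.left] (h₀ : Pt H)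
    (S : Finset (Pt G))
    (hS : ∀ x : Pt G, ∀ h : Pt H, x⁻¹ * (h₀ ≫ iH) * x = h ≫ iH → ∃ s ∈ S, ∃ h' : Pt H, x = s * (h' ≫ iH)) :
    ∃ U : G.left.Opens, (U : Set G.left).Nonempty ∧
      (U : Set G.left) ⊆ Set.range (fst G H * (snd G H ≫ iH) * (fst G H)⁻¹).left := by
  have hd := dense_conj iH h₀ S hS
  set c := fst G H * (snd G H ≫ iH) * (fst G H)⁻¹
  have := AbVarLib.Basics.irreducibleSpace_of_connectedSpace G
  have : LocallyOfFiniteType (G ⊗ H).hom :=
    inferInstanceAs (LocallyOfFiniteType (pullback.fst G.hom H.hom ≫ G.hom))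
  have : QuasiCompact (G ⊗ H).hom :=
    inferInstanceAs (QuasiCompact (pullback.fst G.hom H.hom ≫ G.hom))
  have : IsLocallyNoetherian G.left := LocallyOfFiniteType.isLocallyNoetherian G.hom
  have : CompactSpace G.left := QuasiCompact.compactSpace_of_compactSpace G.hom
  have : LocallyOfFiniteType (c.left ≫ G.hom) := by rw [Over.w]; infer_instance
  have : LocallyOfFiniteType c.left := locallyOfFiniteType_of_comp c.left G.hom
  have : QuasiCompact (c.left ≫ G.hom) := by rw [Over.w]; infer_instance
  have : QuasiCompact c.left := QuasiCompact.of_comp c.left G.hom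
  have : LocallyOfFinitePresentation c.left := inferInstance
  have hE := c.left.isConstructible_image Topology.IsConstructible.univ
  rw [Set.image_univ] at hE
  obtain ⟨U, hU, hne, hsub⟩ := ConstrLib.exists_open_subset_of_dense_constructible
    (IrreducibleSpace.isIrreducible_univ G.left) hE (by rw [Set.inter_univ, hd.closure_eq])
  exact ⟨⟨U, hU⟩, by simpa using hne, by simpa using hsub⟩

end Groth.Agent.Borel50.ConjDense
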