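import Groth.Agent.Borel50.Conj
import Groth.Agent.GrpScheme.ClosedImage
import Groth.Agent.S7997

/-!
# Consequences of conjugacy of Borel subgroups
-/

set_option autoImplicit false
universe u

open CategoryTheory MonoidalCategory CartesianMonoidalCategory MonObj GrpObj AlgebraicGeometry Limits

noncomputable section

namespace Groth.Agent.Borel50.Conseq

open Groth.Agent.Borel50.Pts
open Groth.Agent.GrpScheme.Basic (smul one_smul' mul_smul')
open Groth.Agent.AGFQuot.Basic (comp_eq_iff existsUnique_desc)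

variable {k : Type u} [Field k] {G H X : Over (Spec (CommRingCat.of k))} [GrpObj G] [GrpObj H]

/-- The union of the conjugates of a subgroup with proper quotient is closed. -/
theorem isClosed_range_conj [LocallyOfFiniteType G.hom] [QuasiCompact G.hom] (iH : H ⟶ G) [IsMonHom iH]
    [IsClosedImmersion iH.left] {a : AlgGrp.Action G X} {o : Pt X}
    (hX : AGF.IsQuotient iH X a o) [IsProper X.hom] :
    IsClosed (Set.range (fst G H * (snd G H ≫ iH) * (fst G H)⁻¹).left) := by
  have := hX.1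
  let p := a.orbitMap o
  have : Surjective p.left := hX.2.2.1
  let c := fst G H * (snd G H ≫ iH) * (fst G H)⁻¹
  let E := Limits.equalizer a.act (snd G X)
  let ι' : E ⟶ G ⊗ X := equalizer.ι a.act (snd G X)
  have : IsClosedImmersion ι'.left := isClosedImmersion_equalizer_ι_left a.act (snd G X)
  have hfst : UniversallyClosed (fst G X).left :=
    inferInstanceAs (UniversallyClosed (pullback.fst G.hom X.hom))
  have hcl : IsClosed (Set.range (ι' ≫ fst G X).left) :=
    have : UniversallyClosed (ι' ≫ fst G X).left :=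
      inferInstanceAs (UniversallyClosed (ι'.left ≫ (fst G X).left))
    (ι' ≫ fst G X).left.isClosedMap.isClosed_range
  suffices hr : Set.range c.left = Set.range (ι' ≫ fst G X).left by
    show IsClosed (Set.range c.left)
    rw [hr]; exact hcl
  have hfix : (c * fst G H) ≫ p = fst G H ≫ p := by
    refine ((comp_eq_iff hX.2.2.2 _ _).mpr ⟨snd G H, ?_⟩).symm
    simp [c]
  let t : G ⊗ H ⟶ E := equalizer.lift (lift c (fst G H ≫ p)) (by
    rw [lift_snd]
    show smul a c (fst G H ≫ p) = _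
    rw [GrpdLib.OrbitQuot.comp_orbitMap, ← mul_smul', ← GrpdLib.OrbitQuot.comp_orbitMap, hfix,
      GrpdLib.OrbitQuot.comp_orbitMap])
  have ht : t ≫ ι' ≫ fst G X = c := by
    rw [equalizer.lift_ι_assoc, lift_fst]
  refine Set.Subset.antisymm ?_ ?_
  · rintro _ ⟨z, rfl⟩
    exact ⟨t.left z, by rw [← ht]; rfl⟩
  · rintro _ ⟨z, rfl⟩
    -- lift the second coordinate along the orbit map
    let P := pullback (ι' ≫ snd G X) p
    have : Surjective (pullback.fst (ι' ≫ snd G X) p).left :=
      MorphismProperty.of_isPullback (P := @Surjective)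
        (GrpdLib.GrpOver.isPullback_left (IsPullback.of_hasPullback (ι' ≫ snd G X) p)).flip ‹Surjective p.left›
    obtain ⟨w, hw⟩ := (pullback.fst (ι' ≫ snd G X) p).left.surjective z
    let y : P ⟶ G := pullback.fst _ _ ≫ ι' ≫ fst G X
    let g : P ⟶ G := pullback.snd (ι' ≫ snd G X) p
    have e : (y * g) ≫ p = g ≫ p := by
      rw [GrpdLib.OrbitQuot.comp_orbitMap, mul_smul', ← GrpdLib.OrbitQuot.comp_orbitMap]
      show lift y (g ≫ p) ≫ a.act = _
      have e1 : lift y (g ≫ p) = pullback.fst _ _ ≫ ι' := CartesianMonoidalCategory.hom_ext _ _ (by simp [y])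
        (by rw [lift_snd, ← pullback.condition, Category.assoc])
      rw [e1, Category.assoc, equalizer.condition, ← pullback.condition]
    obtain ⟨h, hh⟩ := (comp_eq_iff hX.2.2.2 _ _).1 e.symm
    have ey : lift g h ≫ c = y := by
      simp only [c, MonObj.comp_mul, GrpObj.comp_inv, lift_fst, lift_snd_assoc, hh]
      simp [_root_.mul_assoc]
    refine ⟨(lift g h).left w, ?_⟩
    show (lift g h ≫ c).left w = _
    rw [ey, ← hw]
    rfl

variable [IsAlgClosed k] [IsAffine G.left] [Smooth G.hom] [ConnectedSpace G.left]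

/-- Homomorphisms, or any maps, agreeing on a Borel subgroup after division are equal. -/
theorem hom_eq_of_eq_on_borel {G' B : Over (Spec (CommRingCat.of k))} [GrpObj G'] [IsAffine G'.left]
    [LocallyOfFiniteType G'.hom] [GrpObj B] (iB : B ⟶ G) (hB : Red.IsBorelOver k iB) (φ₁ φ₂ : G ⟶ G')
    [IsMonHom φ₁] [IsMonHom φ₂] (h : iB ≫ φ₁ = iB ≫ φ₂) : φ₁ = φ₂ := by
  have := hB.1
  have := hB.2.1
  have : Mono iB := Over.mono_of_mono_left iB
  have := FixedPt.qc_G G
  have : LocallyOfFiniteType B.hom := by rw [← Over.w iB]; infer_instance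
  have : QuasiCompact B.hom := by rw [← Over.w iB]; infer_instance
  obtain ⟨X, a, o, hl, -, hf, hs, hq⟩ := S3279.result k G B iB
  have hX : AGF.IsQuotient iB X a o := ⟨hl, hf, hs, hq⟩
  have := Conj.isProper_quotient_borel iB hB hX
  have : Surjective (a.orbitMap o).left := hs
  have : ConnectedSpace X.left := (a.orbitMap o).left.surjective.connectedSpace (a.orbitMap o).left.continuous
  obtain ⟨ψ, hψ, -⟩ := existsUnique_desc (ProperQuot.isCover hX) hX.2.2.2 (φ₁ * φ₂⁻¹) fun T x t => by
    have e : (t ≫ iB) ≫ φ₂ = (t ≫ iB) ≫ φ₁ := by rw [Category.assoc, ← h, ← Category.assoc]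
    rw [MonObj.comp_mul, MonObj.comp_mul, GrpObj.comp_inv, GrpObj.comp_inv, MonObj.mul_comp, MonObj.mul_comp, e]
    group
  have := GrpScheme.HomFlat.isReduced_of_smooth G.hom
  have : IsAffineHom G'.hom := isAffineHom_of_isAffine _
  have := GrpdLib.SepDense.geometricallyReduced_of_smooth G.hom
  refine GrpdLib.SepExt.ext_of_points k k φ₁ φ₂ ?_
  intro x
  let ee : Over.mk (Spec.map (CommRingCat.ofHom (algebraMap k k))) ≅ 𝟙_ (Over (Spec (CommRingCat.of k))) :=
    Over.isoMk (Iso.refl _) (by simp)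
  suffices key : ∀ g : Pt G, g ≫ φ₁ = g ≫ φ₂ by
    rw [← cancel_epi ee.inv, ← Category.assoc, ← Category.assoc, key]
  intro g
  have e := FixedPt.const_of_proper_affine ψ (g ≫ a.orbitMap o) ((1 : Pt G) ≫ a.orbitMap o)
  rw [Category.assoc, hψ, Category.assoc, hψ, MonObj.comp_mul, MonObj.comp_mul, GrpObj.comp_inv,
    GrpObj.comp_inv, MonObj.one_comp, MonObj.one_comp, inv_one, _root_.mul_one, mul_inv_eq_one] at e
  exact e

/-- The image of a Borel subgroup is a Borel subgroup. -/
theorem isBorelOver_image {Q B B' : Over (Spec (CommRingCat.of k))} [GrpObj Q] [IsAffine Q.left]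
    [Smooth Q.hom] [GrpObj B] [GrpObj B'] (q : G ⟶ Q) [IsMonHom q] [Surjective q.left]
    (iB : B ⟶ G) (hB : Red.IsBorelOver k iB) (iB' : B' ⟶ Q) [IsMonHom iB'] [IsClosedImmersion iB'.left]
    [IsReduced B'.left] (p : B ⟶ B') [Surjective p.left] (hp : p ≫ iB' = iB ≫ q) :
    Red.IsBorelOver k iB' := by
  have := hB.1
  have := hB.2.1
  have := hB.2.2.1
  have := hB.2.2.2.1
  have : Mono iB := Over.mono_of_mono_left iB
  have : Mono iB' := Over.mono_of_mono_left iB'
  have := FixedPt.qc_G G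
  have := FixedPt.qc_G Q
  have : QuasiCompact B.hom := by rw [← Over.w iB]; infer_instance
  have : LocallyOfFiniteType B'.hom := by rw [← Over.w iB']; infer_instance
  have : QuasiCompact B'.hom := by rw [← Over.w iB']; infer_instance
  have : IsMonHom p :=
    { one_hom := by
        rw [← cancel_mono iB', Category.assoc, hp, IsMonHom.one_hom (iB ≫ q), IsMonHom.one_hom iB']
      mul_hom := by
        rw [← cancel_mono iB', Category.assoc, Category.assoc, hp, IsMonHom.mul_hom (iB ≫ q),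
          IsMonHom.mul_hom iB', MonoidalCategory.tensorHom_comp_tensorHom_assoc, hp] }
  have : Flat p.left := GrpScheme.HomFlat.flat_of_surjective p
  have : Smooth B'.hom := GrpScheme.Smooth.smooth_of_perfectField B'
  have : ConnectedSpace B'.left := p.left.surjective.connectedSpace p.left.continuous
  obtain ⟨X, a, o, hl, -, hf, hs, hq⟩ := S3279.result k G B iB
  have hX : AGF.IsQuotient iB X a o := ⟨hl, hf, hs, hq⟩
  have := Conj.isProper_quotient_borel iB hB hX
  obtain ⟨X', a', o', hl', -, hf', hs', hq'⟩ := S3279.result k Q B' iB'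
  have hX' : AGF.IsQuotient iB' X' a' o' := ⟨hl', hf', hs', hq'⟩
  obtain ⟨φ, hφ, -⟩ := existsUnique_desc (ProperQuot.isCover hX) hX.2.2.2 (q ≫ a'.orbitMap o') fun T x t => by
    rw [← Category.assoc, ← Category.assoc]
    refine ((comp_eq_iff hq' _ _).mpr ⟨t ≫ p, ?_⟩).symm
    rw [Category.assoc, hp, ← Category.assoc, MonObj.mul_comp]
  have : Surjective φ.left := by
    have : Surjective (a'.orbitMap o').left := hs'
    have h2 : Surjective (q.left ≫ (a'.orbitMap o').left) := inferInstance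
    rw [← Over.comp_left, ← hφ, Over.comp_left] at h2
    exact Surjective.of_comp (a.orbitMap o).left φ.left
  have : UniversallyClosed (φ.left ≫ X'.hom) := by rw [Over.w φ]; infer_instance
  have : UniversallyClosed X'.hom := UniversallyClosed.of_comp_surjective φ.left _
  have := hX'.1
  have := ProperQuot.isSeparated_quotient hX'
  have : IsProper X'.hom := {}
  exact Conj.isBorelOver_of_proper iB' (S7997.result k B B' p hB.2.2.2.2.1) hX'

/-- The image of a connected smooth subgroup under a homomorphism. -/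
theorem exists_image {Q : Over (Spec (CommRingCat.of k))} [GrpObj Q] [IsAffine Q.left] [Smooth Q.hom]
    (q : H ⟶ Q) [IsMonHom q] [LocallyOfFiniteType H.hom] [QuasiCompact H.hom] :
    ∃ (H' : Over (Spec (CommRingCat.of k))) (_ : GrpObj H') (i : H' ⟶ Q) (p : H ⟶ H'),
      IsMonHom i ∧ IsClosedImmersion i.left ∧ IsReduced H'.left ∧ (IsReduced H.left → Surjective p.left ∧ p ≫ i = q) := by
  have := FixedPt.qc_G Q
  let S : Subgroup (Pt Q) := (IsMonHom.monoidHom q (𝟙_ _)).range
  obtain ⟨H', _, i, _, _, _, _, hr, -⟩ := exists_closure S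
  have := GrpScheme.HomFlat.isReduced_of_smooth H'.hom
  have hcl : IsClosed (Set.range q.left) := by
    have : QuasiCompact (q.left ≫ Q.hom) := by rw [Over.w q]; infer_instance
    have : QuasiCompact q.left := QuasiCompact.of_comp q.left Q.hom
    exact GrpScheme.ClosedImage.isClosed_range q
  have : JacobsonSpace H.left := LocallyOfFiniteType.jacobsonSpace H.hom
  have heq : closure (pts S) = Set.range q.left := by
    refine Set.Subset.antisymm (closure_minimal ?_ hcl) ?_
    · rintro _ ⟨_, ⟨w, rfl⟩, rfl⟩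
      exact mem_range_of_factor rfl
    · rw [← Set.image_univ, ← closure_closedPoints (X := H.left)]
      refine (image_closure_subset_closure_image q.left.continuous).trans (closure_mono ?_)
      rintro _ ⟨z, hz, rfl⟩
      obtain ⟨w, rfl⟩ := exists_pt hz
      exact ⟨w ≫ q, ⟨w, rfl⟩, rfl⟩
  by_cases hH : IsReduced H.left
  · obtain ⟨p, hp⟩ := factor_of_points q i fun w => by
      rw [hr, heq]; exact mem_range_of_factor rfl
    refine ⟨H', ‹_›, i, p, inferInstance, inferInstance, inferInstance, fun _ => ⟨⟨fun z => ?_⟩, hp⟩⟩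
    obtain ⟨w, hw⟩ : i.left z ∈ Set.range q.left := heq ▸ hr ▸ ⟨z, rfl⟩
    exact ⟨w, i.left.isClosedEmbedding.injective (by rw [← hw, ← hp]; rfl)⟩
  · exact ⟨H', ‹_›, i, 1, inferInstance, inferInstance, inferInstance, fun h => absurd h hH⟩

/-- Every Borel subgroup of a quotient is the image of a Borel subgroup. -/
theorem exists_borel_mapping_onto {Q B' : Over (Spec (CommRingCat.of k))} [GrpObj Q] [IsAffine Q.left]
    [Smooth Q.hom] [ConnectedSpace Q.left] [GrpObj B'] (q : G ⟶ Q) [IsMonHom q] [Surjective q.left]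
    (iB' : B' ⟶ Q) (hB' : Red.IsBorelOver k iB') :
    ∃ (B : Over (Spec (CommRingCat.of k))) (_ : GrpObj B) (iB : B ⟶ G) (p : B ⟶ B'),
      Red.IsBorelOver k iB ∧ Surjective p.left ∧ p ≫ iB' = iB ≫ q := by
  have := FixedPt.qc_G G
  obtain ⟨B, _, iB, hB⟩ := Conj.exists_borel G
  have := hB.1
  have := hB.2.1
  have := hB.2.2.1
  have := GrpScheme.HomFlat.isReduced_of_smooth B.hom
  have : QuasiCompact B.hom := by rw [← Over.w iB]; infer_instance
  obtain ⟨H', _, i, p, _, _, _, hp⟩ := exists_image (iB ≫ q)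
  obtain ⟨_, hp⟩ := hp inferInstance
  have hi := isBorelOver_image q iB hB i p hp
  obtain ⟨g', e, he⟩ := Conj.borel_conj i iB' hi hB'
  have : LocallyOfFiniteType Q.hom := inferInstance
  obtain ⟨g, rfl⟩ := Conj.surjective_pts q g'
  refine ⟨B, ‹_›, AGF.conjBy g iB, p ≫ e.hom, Conj.isBorelOver_conjBy iB hB g, ?_, ?_⟩
  · have : IsIso e.hom.left := inferInstanceAs (IsIso ((Over.forget _).map e.hom))
    exact inferInstanceAs (Surjective (p.left ≫ e.hom.left))
  · rw [Category.assoc, he, Conj.comp_conjBy, hp]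
    simp only [AGF.conjBy, MonObj.mul_comp, GrpObj.inv_comp, Category.assoc]

/-- Borel subgroups with images in one Borel subgroup coincide if the kernel is in a Borel. -/
theorem borel_eq_of_image {Q B₀ B₁ B₂ B' : Over (Spec (CommRingCat.of k))} [GrpObj Q] [IsAffine Q.left]
    [Smooth Q.hom] [GrpObj B₀] [GrpObj B₁] [GrpObj B₂] [GrpObj B'] (φ : G ⟶ Q) [IsMonHom φ] [Surjective φ.left]
    (i₀ : B₀ ⟶ G) (h₀ : Red.IsBorelOver k i₀)
    (hker : ∀ (X : Over (Spec (CommRingCat.of k))) (g : X ⟶ G), g ≫ φ = 1 → ∃ b : X ⟶ B₀, b ≫ i₀ = g)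
    (i₁ : B₁ ⟶ G) (i₂ : B₂ ⟶ G) (i' : B' ⟶ Q) (h₁ : Red.IsBorelOver k i₁) (h₂ : Red.IsBorelOver k i₂)
    (h' : Red.IsBorelOver k i') (f₁ : B₁ ⟶ B') (f₂ : B₂ ⟶ B') (hf₁ : f₁ ≫ i' = i₁ ≫ φ) (hf₂ : f₂ ≫ i' = i₂ ≫ φ) :
    ∃ e : B₁ ≅ B₂, e.hom ≫ i₂ = i₁ := by
  have := FixedPt.qc_G G
  have := h₁.1; have := h₁.2.1; have := h₁.2.2.1
  have := h₂.1; have := h₂.2.1; have := h₂.2.2.1; have := h'.1; have := h'.2.1; have := h'.2.2.1
  have := h₁.2.2.2.1; have := h'.2.2.2.1
  have := GrpScheme.HomFlat.isReduced_of_smooth B₁.hom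
  have := GrpScheme.HomFlat.isReduced_of_smooth B₂.hom
  have := GrpScheme.HomFlat.isReduced_of_smooth B'.hom
  have : QuasiCompact B₁.hom := by rw [← Over.w i₁]; infer_instance
  -- the image of the first subgroup is everything
  obtain ⟨H', _, i, p, _, _, _, hp⟩ := exists_image (i₁ ≫ φ)
  obtain ⟨_, hp⟩ := hp inferInstance
  have hi := isBorelOver_image φ i₁ h₁ i p hp
  have : LocallyOfFiniteType H'.hom := by rw [← Over.w i]; infer_instance
  obtain ⟨m, hm⟩ := factor_of_points i i' fun w => by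
    obtain ⟨z, rfl⟩ := Conj.surjective_pts p w
    rw [Category.assoc, hp, ← hf₁, ← Category.assoc]
    exact mem_range_of_factor rfl
  have : IsIso m := hi.2.2.2.2.2 B' i' m inferInstance inferInstance inferInstance h'.2.2.2.2.1 hm
  obtain ⟨g, e, he⟩ := Conj.borel_conj i₁ i₀ h₁ h₀
  have : LocallyOfFiniteType B₁.hom := inferInstance
  obtain ⟨l, hl⟩ := factor_of_points i₂ i₁ fun w => by
    obtain ⟨z, hz⟩ : ∃ z : Pt B₁, (z ≫ i₁) ≫ φ = (w ≫ i₂) ≫ φ := by
      obtain ⟨z, hz⟩ := Conj.surjective_pts p ((w ≫ f₂) ≫ inv m)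
      refine ⟨z, ?_⟩
      rw [Category.assoc, ← hp, ← Category.assoc, hz, ← hm]
      simp [hf₂]
    let d := (z ≫ i₁)⁻¹ * (w ≫ i₂)
    have hd : (g * d * g⁻¹) ≫ φ = 1 := by
      simp only [d, MonObj.mul_comp, GrpObj.inv_comp, hz]
      group
    obtain ⟨b, hb⟩ := hker _ _ hd
    have hd' : (b ≫ e.inv) ≫ i₁ = d := by
      have he' : e.inv ≫ AGF.conjBy g i₁ = i₀ := by rw [← he, Iso.inv_hom_id_assoc]
      have e1 : b ≫ e.inv ≫ AGF.conjBy g i₁ = g * d * g⁻¹ := by rw [he', hb]
      rw [← Category.assoc, Conj.comp_conjBy, AGF.conjBy, toUnit_unique (toUnit (𝟙_ _)) (𝟙 _), Category.id_comp] at e1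
      simpa using e1
    refine mem_range_of_factor (z := z * (b ≫ e.inv)) ?_
    rw [MonObj.mul_comp, hd']
    simp [d]
  have : IsIso l := h₂.2.2.2.2.2 B₁ i₁ l inferInstance inferInstance inferInstance h₁.2.2.2.2.1 hl
  exact ⟨(asIso l).symm, by simp [← hl]⟩

end Groth.Agent.Borel50.Conseq
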