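import Groth.Agent.Borel50.Lin.Points
import Groth.Agent.Borel50.ConjDense
import Groth.Agent.Borel50.Nilp

/-!
# The conjugates of a Borel subgroup cover the group
-/

set_option autoImplicit false
universe u v

open CategoryTheory MonoidalCategory CartesianMonoidalCategory MonObj GrpObj AlgebraicGeometry Limits

noncomputable section

namespace Groth.Agent.Borel50

namespace Lin.Rep

variable {k : Type u} [Field k] {N : ℕ} {Γ : Type v} [Group Γ] [TopologicalSpace Γ] {Φ : Rep k Γ N}

/-- Toral subgroups do not depend on the basis. -/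
lemma IsToral.of_conj {P Q : Matrix (Fin N) (Fin N) k} {hQP : Q * P = 1} {T : Subgroup Γ}
    (h : (Φ.conj P Q hQP).IsToral T) : Φ.IsToral T := by
  obtain ⟨P', Q', h', hd⟩ := h.diag
  refine ⟨h.closed, h.preconnected, P' * P, Q * Q', ?_, fun x hx => ?_⟩
  · rw [_root_.mul_assoc, ← _root_.mul_assoc Q', h', _root_.one_mul, hQP]
  · have := hd x hx
    simpa [_root_.mul_assoc] using this

/-- Conjugates of toral subgroups are toral. -/
lemma IsToral.map_conj {T : Subgroup Γ} (h : Φ.IsToral T) (a : Γ) :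
    Φ.IsToral (T.map (MulAut.conj a).toMonoidHom) := by
  have hset : (T.map (MulAut.conj a).toMonoidHom : Set Γ) = (fun y => a⁻¹ * y * a) ⁻¹' (T : Set Γ) := by
    ext y
    constructor
    · rintro ⟨x, hx, rfl⟩
      simpa [_root_.mul_assoc] using hx
    · intro hy
      exact ⟨a⁻¹ * y * a, hy, by simp [_root_.mul_assoc]⟩
  have hcont : ∀ b : Γ, Continuous fun y : Γ => b⁻¹ * y * b := fun b =>
    (continuous_mul_right Φ b).comp (Φ.good.left b⁻¹)
  refine ⟨?_, ?_, ?_⟩
  · rw [hset]; exact h.closed.preimage (hcont a)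
  · rw [Subgroup.coe_map]
    refine h.preconnected.image _ (Continuous.continuousOn ?_)
    have e : ⇑(MulAut.conj a).toMonoidHom = fun y => a⁻¹⁻¹ * y * a⁻¹ := funext fun y => by simp
    rw [e]; exact hcont a⁻¹
  · obtain ⟨P, Q, hQP, hd⟩ := h.diag
    refine ⟨P * Φ.ρ a⁻¹, Φ.ρ a * Q, ?_, ?_⟩
    · rw [_root_.mul_assoc, ← _root_.mul_assoc Q, hQP, _root_.one_mul, ← map_mul, mul_inv_cancel, map_one]
    · rintro _ ⟨x, hx, rfl⟩
      have e : P * Φ.ρ a⁻¹ * Φ.ρ ((MulAut.conj a).toMonoidHom x) * (Φ.ρ a * Q) = P * Φ.ρ x * Q := by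
        simp only [_root_.mul_assoc]
        congr 1
        rw [← _root_.mul_assoc, ← map_mul, ← _root_.mul_assoc, ← map_mul]
        congr 2
        simp [_root_.mul_assoc]
      rw [e]
      exact hd x hx

end Lin.Rep

namespace Density

open Groth.Agent.Borel50.Pts Groth.Agent.Borel50.Lin

attribute [local instance] ptTop

variable {k : Type u} [Field k] {G : Over (Spec (CommRingCat.of k))} [GrpObj G]

/-- The homomorphism on rational points. -/
abbrev ptHom {K : Over (Spec (CommRingCat.of k))} [GrpObj K] (i : K ⟶ G) [IsMonHom i] : Pt K →* Pt G where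
  toFun b := b ≫ i
  map_one' := MonObj.one_comp _
  map_mul' x y := MonObj.mul_comp x y _

lemma ptHom_injective {K : Over (Spec (CommRingCat.of k))} [GrpObj K] (i : K ⟶ G) [IsMonHom i]
    [IsClosedImmersion i.left] : Function.Injective (ptHom i) := by
  have : Mono i := Over.mono_of_mono_left i
  exact fun x y h => (cancel_mono i).1 h

lemma isClosed_range {K : Over (Spec (CommRingCat.of k))} [GrpObj K] (i : K ⟶ G) [IsMonHom i]
    [IsClosedImmersion i.left] : IsClosed ((ptHom i).range : Set (Pt G)) := by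
  have e : ((ptHom i).range : Set (Pt G)) = pt ⁻¹' Set.range i.left := by
    ext x
    constructor
    · rintro ⟨h, rfl⟩; exact mem_range_of_factor rfl
    · intro hx; exact exists_lift_of_mem i hx
  rw [e]
  exact (i.left.isClosedEmbedding.isClosed_range).preimage continuous_induced_dom

variable [IsAlgClosed k]

lemma isPreconnected_range {K : Over (Spec (CommRingCat.of k))} [GrpObj K] [LocallyOfFiniteType K.hom]
    [ConnectedSpace K.left] (i : K ⟶ G) [IsMonHom i] : _root_.IsPreconnected ((ptHom i).range : Set (Pt G)) := by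
  have := preconnectedSpace_pt (G := K)
  rw [MonoidHom.coe_range]
  exact _root_.isPreconnected_range (continuous_comp i)

variable [IsAffine G.left] [Smooth G.hom] [ConnectedSpace G.left]

/-- The connected centraliser of a maximal torus is nilpotent, and its semisimple elements lie in the torus. -/
theorem cartan {N : ℕ} (Φ : Rep k (Pt G) N) {T : Subgroup (Pt G)} (hT : Φ.IsToral T)
    (hmax : ∀ T', Φ.IsToral T' → T ≤ T' → T' = T) :
    Group.IsNilpotent (Φ.centralizerComp T) ∧
      ∀ x ∈ Φ.centralizerComp T, (∃ P Q : Matrix (Fin N) (Fin N) k, Q * P = 1 ∧ (P * Φ.ρ x * Q).IsDiag) → x ∈ T := by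
  have := FixedPt.qc_G G
  set C := Φ.centralizerComp T with hC
  obtain ⟨K, _, iK, _, _, _, _, hmem, hconn⟩ := exists_sub C (Φ.isClosed_centralizerComp T)
  have := hconn (Φ.isPreconnected_centralizerComp T)
  have : IsAffine K.left := isAffine_of_isAffineHom iK.left
  obtain ⟨B, _, iB, hB⟩ := Conj.exists_borel K
  have := hB.1
  have := hB.2.1
  have := hB.2.2.1
  have := hB.2.2.2.1
  have : IsClosedImmersion (iB ≫ iK).left := inferInstanceAs (IsClosedImmersion (iB.left ≫ iK.left))
  let j := ptHom (iB ≫ iK)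
  let BC := j.range
  have hBC : BC ≤ C := by rintro _ ⟨b, rfl⟩; exact (hmem _).2 ⟨b ≫ iB, Category.assoc _ _ _⟩
  have hBcl : IsClosed (BC : Set (Pt G)) := isClosed_range _
  have : PreconnectedSpace BC := Subtype.preconnectedSpace (isPreconnected_range (iB ≫ iK))
  obtain ⟨n, hn⟩ := Solvable.points_of_isSolvableGrp hB.2.2.2.2.1
  have hBsol : derivedSeries BC n = ⊥ := by
    rw [eq_bot_iff, ← map_derivedSeries_eq (MonoidHom.rangeRestrict_surjective j) n, hn, Subgroup.map_bot]
  obtain ⟨P, Q, hQP, hup⟩ := (Φ.restrict BC hBcl).exists_upper hBsol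
  let Ψ := (Φ.restrict BC hBcl).conj P Q hQP
  obtain ⟨T₁, hT₁, hcov⟩ := Ψ.exists_toral_lift hup
  let T₁' := T₁.map BC.subtype
  have hT₁' : Φ.IsToral T₁' := hT₁.of_conj.map_subtype
  obtain ⟨T₂, hT₂, hle, hle'⟩ := hT.exists_sup hT₁' (fun s hs y hy => by
    obtain ⟨z, -, rfl⟩ := hy
    exact Subgroup.mem_centralizer_iff.1 (Φ.centralizerComp_le T (hBC z.2)) s hs)
  have hT₁T : T₁' ≤ T := hle'.trans (hmax T₂ hT₂ hle).le
  have hcentral : ∀ t ∈ T₁, ∀ x, t * x = x * t := fun t ht x => Subtype.ext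
    (Subgroup.mem_centralizer_iff.1 (Φ.centralizerComp_le T (hBC x.2)) (t : Pt G) (hT₁T ⟨t, ht, rfl⟩))
  have hnil := Ψ.upperCentralSeries_eq_top hup T₁ hcentral hcov
  have : Group.IsNilpotent BC := ⟨⟨N + 1, hnil⟩⟩
  let eB : Pt B ≃* BC := MonoidHom.ofInjective (ptHom_injective (iB ≫ iK))
  have : Group.IsNilpotent (Pt B) := Group.nilpotent_of_mulEquiv eB.symm
  have : IsIso iB := Nilp.isIso_of_nilpotent_borel _ K B iB hB Subgroup.upperCentralSeries_nilpotencyClass
  have hCB : C ≤ BC := fun x hx => by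
    obtain ⟨h, rfl⟩ := (hmem x).1 hx
    exact ⟨h ≫ inv iB, show (h ≫ inv iB) ≫ iB ≫ iK = h ≫ iK by simp⟩
  have heq : BC = C := le_antisymm hBC hCB
  refine ⟨?_, fun x hx ⟨P', Q', hQP', hd⟩ => ?_⟩
  · rw [← heq]; infer_instance
  · have hd' : ((P' * Q) * Ψ.ρ ⟨x, hCB hx⟩ * (P * Q')).IsDiag := by
      have e : (P' * Q) * Ψ.ρ ⟨x, hCB hx⟩ * (P * Q') = P' * Φ.ρ x * Q' := by
        show (P' * Q) * (P * Φ.ρ x * Q) * (P * Q') = _
        simp only [_root_.mul_assoc]
        rw [← _root_.mul_assoc Q P, hQP, _root_.one_mul, ← _root_.mul_assoc Q P, hQP, _root_.one_mul]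
      rwa [e]
    have hQP₂ : (P * Q') * (P' * Q) = 1 := by
      rw [_root_.mul_assoc, ← _root_.mul_assoc Q', hQP', _root_.one_mul, mul_eq_one_comm.mp hQP]
    exact hT₁T ⟨_, hT₁.mem_of_diag hup hcentral hcov hQP₂ hd', rfl⟩

/-- The conjugates of the connected centraliser of a maximal torus are dense; hence the conjugates of a Borel subgroup
are everything. -/
theorem surjective_conj_borel {B : Over (Spec (CommRingCat.of k))} [GrpObj B] (iB : B ⟶ G) (hB : Red.IsBorelOver k iB) :
    Function.Surjective (fst G B * (snd G B ≫ iB) * (fst G B)⁻¹).left := by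
  classical
  have := FixedPt.qc_G G
  have := hB.1
  have := hB.2.1
  have := hB.2.2.1
  have := hB.2.2.2.1
  have : IsSeparated G.hom := GrpScheme.IdComponent.isSeparated G
  have := GrpScheme.HomFlat.isReduced_of_smooth G.hom
  obtain ⟨N, ⟨Φ⟩⟩ := exists_rep (G := G)
  obtain ⟨T, hT, -, hmax⟩ := Φ.isToral_bot.exists_maximal
  obtain ⟨hnil, hss⟩ := cartan Φ hT hmax
  set C := Φ.centralizerComp T with hC
  obtain ⟨K, _, iK, _, _, _, _, hmem, hconn⟩ := exists_sub C (Φ.isClosed_centralizerComp T)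
  have := hconn (Φ.isPreconnected_centralizerComp T)
  have : IsAffine K.left := isAffine_of_isAffineHom iK.left
  have : IsSeparated K.hom := GrpScheme.IdComponent.isSeparated K
  obtain ⟨t, ht, hgen⟩ := hT.exists_generic
  obtain ⟨h₀, hh₀⟩ := (hmem t).1 (hT.le_centralizerComp_self ht)
  obtain ⟨S, hS⟩ := hT.exists_finite_normalizer
  obtain ⟨P, Q, hQP, hd⟩ := hT.diag
  have hdense := ConjDense.dense_conj iK h₀ S fun x h hxh => by
    rw [hh₀] at hxh
    have hc' : h ≫ iK ∈ C := (hmem _).2 ⟨h, rfl⟩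
    have hTconj : ∀ s ∈ T, x * s * x⁻¹ ∈ T := by
      have ht' : h ≫ iK ∈ T := by
        refine hss _ hc' ⟨P * Φ.ρ x, Φ.ρ x⁻¹ * Q, ?_, ?_⟩
        · rw [_root_.mul_assoc, ← _root_.mul_assoc Q, hQP, _root_.one_mul, ← map_mul, inv_mul_cancel, map_one]
        · have e : P * Φ.ρ x * Φ.ρ (h ≫ iK) * (Φ.ρ x⁻¹ * Q) = P * Φ.ρ t * Q := by
            rw [← hxh]
            simp only [map_mul, ← _root_.mul_assoc]
            simp only [_root_.mul_assoc, ← map_mul]
            rw [show x * (x⁻¹ * (t * (x * x⁻¹))) = t by group]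
          rw [e]
          exact hd t ht
      have hconjC : C.map (MulAut.conj x).toMonoidHom ≤ C := by
        refine Φ.le_centralizerComp ?_ ?_
        · rw [Subgroup.coe_map]
          refine (Φ.isPreconnected_centralizerComp T).image _ (Continuous.continuousOn ?_)
          exact (Rep.continuous_mul_right Φ x⁻¹).comp (Φ.good.left x)
        · rintro _ ⟨y, hy, rfl⟩
          refine Subgroup.mem_centralizer_iff.2 fun s hs => (hgen _ ?_ s hs).symm
          show x * y * x⁻¹ * t = t * (x * y * x⁻¹)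
          have h1 : (h ≫ iK) * y = y * (h ≫ iK) :=
            Subgroup.mem_centralizer_iff.1 (Φ.centralizerComp_le T hy) _ ht'
          have ht2 : t = x * (h ≫ iK) * x⁻¹ := by rw [← hxh]; group
          rw [ht2]
          calc x * y * x⁻¹ * (x * (h ≫ iK) * x⁻¹) = x * (y * (h ≫ iK)) * x⁻¹ := by group
            _ = x * ((h ≫ iK) * y) * x⁻¹ := by rw [h1]
            _ = x * (h ≫ iK) * x⁻¹ * (x * y * x⁻¹) := by group
      intro s hs
      refine hss _ (hconjC ⟨s, hT.le_centralizerComp_self hs, rfl⟩) ?_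
      obtain ⟨P', Q', hQP', hd'⟩ := (hT.map_conj x).diag
      exact ⟨P', Q', hQP', hd' _ ⟨s, hs, rfl⟩⟩
    have hTconj' : ∀ s ∈ T, x⁻¹ * s * x ∈ T := fun s hs => by
      have hle : T ≤ T.map (MulAut.conj x⁻¹).toMonoidHom := fun r hr =>
        ⟨x * r * x⁻¹, hTconj r hr, by simp [_root_.mul_assoc]⟩
      have e := hmax _ (hT.map_conj x⁻¹) hle
      rw [← e]
      exact ⟨s, hs, by simp⟩
    obtain ⟨y, hy, hyx⟩ := hS x fun s hs => ⟨hTconj s hs, hTconj' s hs⟩
    obtain ⟨h', hh'⟩ := (hmem _).1 hyx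
    exact ⟨y, hy, h', by rw [hh']; group⟩
  -- the Cartan subgroup is conjugate into the Borel subgroup
  have hKsol : ∃ n, derivedSeries (Pt K) n = ⊥ := by
    have hr : (ptHom iK).range = C := le_antisymm (by rintro _ ⟨h, rfl⟩; exact (hmem _).2 ⟨h, rfl⟩)
      fun x hx => (hmem x).1 hx
    have : Group.IsNilpotent C := hnil
    have : Group.IsSolvable C := inferInstance
    have : Group.IsSolvable (ptHom iK).range := hr.symm ▸ this
    have : Group.IsSolvable (Pt K) := Group.isSolvable_of_isSolvable_injective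
      (f := (MonoidHom.ofInjective (ptHom_injective iK)).toMonoidHom) (MonoidHom.ofInjective _).injective
    exact Group.IsSolvable.solvable
  have : Mono iB := Over.mono_of_mono_left iB
  have : LocallyOfFiniteType B.hom := by rw [← Over.w iB]; infer_instance
  have : QuasiCompact B.hom := by rw [← Over.w iB]; infer_instance
  obtain ⟨X, a, o, hl, -, hf, hs, hq⟩ := S3279.result k G B iB
  have hX : AGF.IsQuotient iB X a o := ⟨hl, hf, hs, hq⟩
  have := Conj.isProper_quotient_borel iB hB hX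
  obtain ⟨g, l, hgl⟩ := Conj.exists_conj_factor iK hKsol hX
  have hcl := Conseq.isClosed_range_conj iB hX
  let τ : G ⊗ K ⟶ G ⊗ B := lift (fst G K * (toUnit (G ⊗ K) ≫ g⁻¹)) (snd G K ≫ l)
  have hτ : τ ≫ (fst G B * (snd G B ≫ iB) * (fst G B)⁻¹) = fst G K * (snd G K ≫ iK) * (fst G K)⁻¹ := by
    simp only [τ, MonObj.comp_mul, GrpObj.comp_inv, lift_fst, lift_snd_assoc]
    rw [Category.assoc, hgl]
    simp only [AGF.conjBy]
    rw [MonObj.comp_mul, MonObj.comp_mul, GrpObj.comp_inv, ← Category.assoc (snd G K) (toUnit K),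
      toUnit_unique (snd G K ≫ toUnit K) (toUnit (G ⊗ K))]
    simp only [GrpObj.inv_comp, _root_.mul_inv_rev, _root_.inv_inv, GrpObj.comp_inv]
    group
  intro y
  have hy : y ∈ closure (Set.range (fst G K * (snd G K ≫ iK) * (fst G K)⁻¹).left) := hdense y
  refine closure_minimal ?_ hcl hy
  rintro _ ⟨z, rfl⟩
  exact ⟨τ.left z, by rw [← hτ]; rfl⟩

end Density

end Groth.Agent.Borel50
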