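import Groth.Agent.S15608
import Groth.Agent.S14586
import Groth.Agent.GrpdLib.PtsClosed
import Groth.Agent.AGFQuot.Basic
import Groth.Agent.GrpScheme.Basic

/-!
# Rational points of group schemes over an algebraically closed field
-/

set_option autoImplicit false
universe u

open CategoryTheory MonoidalCategory CartesianMonoidalCategory MonObj GrpObj AlgebraicGeometry Limits

noncomputable section

namespace Groth.Agent.Borel50.Pts

open Groth.Agent.GrpScheme.Basic (smul comp_smul one_smul' mul_smul')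

variable {k : Type u} [Field k]

/-- The rational points. -/
abbrev Pt (X : Over (Spec (CommRingCat.of k))) : Type u :=
  𝟙_ (Over (Spec (CommRingCat.of k))) ⟶ X

/-- The point underlying a rational point. -/
abbrev pt {X : Over (Spec (CommRingCat.of k))} (x : Pt X) : X.left :=
  x.left.base (IsLocalRing.closedPoint k)

lemma pt_comp {X Y : Over (Spec (CommRingCat.of k))} (x : Pt X) (f : X ⟶ Y) : pt (x ≫ f) = f.left (pt x) := rfl

lemma toUnit_comp {X : Over (Spec (CommRingCat.of k))} (x : Pt X) : x ≫ toUnit X = 𝟙 _ :=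
  toUnit_unique _ _

lemma const_comp {X Y : Over (Spec (CommRingCat.of k))} (x : Pt X) (y : Pt Y) :
    x ≫ toUnit X ≫ y = y := by
  rw [← Category.assoc, toUnit_comp, Category.id_comp]

lemma isReduced_unit : IsReduced (𝟙_ (Over (Spec (CommRingCat.of k)))).left :=
  inferInstanceAs (IsReduced (Spec (CommRingCat.of k)))

/-- A rational point lying in a closed subscheme factors through it. -/
lemma exists_lift_of_mem {Z X : Over (Spec (CommRingCat.of k))} (c : Z ⟶ X) [IsClosedImmersion c.left]
    {x : Pt X} (h : pt x ∈ Set.range c.left) : ∃ z : Pt Z, z ≫ c = x := by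
  have := isReduced_unit (k := k)
  obtain ⟨z, hz⟩ := RedSub.exists_lift_closed c.left x.left (by
    rintro _ ⟨t, rfl⟩
    rw [Subsingleton.elim (α := Spec (CommRingCat.of k)) t (IsLocalRing.closedPoint k)]
    exact h)
  exact ⟨Over.homMk z (by rw [← Over.w c, reassoc_of% hz, Over.w]), Over.OverMorphism.ext hz⟩

lemma mem_range_of_factor {Z X : Over (Spec (CommRingCat.of k))} {c : Z ⟶ X} {x : Pt X} {z : Pt Z}
    (h : z ≫ c = x) : pt x ∈ Set.range c.left := ⟨pt z, by rw [← h]; rfl⟩

lemma exists_pt [IsAlgClosed k] {Y : Over (Spec (CommRingCat.of k))} [LocallyOfFiniteType Y.hom] {y : Y.left}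
    (hy : IsClosed ({y} : Set Y.left)) : ∃ p : Pt Y, pt p = y :=
  S14586.exists_pt hy

lemma nonempty_pt [IsAlgClosed k] {Y : Over (Spec (CommRingCat.of k))} [LocallyOfFiniteType Y.hom]
    [Nonempty Y.left] : Nonempty (Pt Y) := by
  have : JacobsonSpace Y.left := LocallyOfFiniteType.jacobsonSpace Y.hom
  obtain ⟨y, -, hy⟩ := nonempty_inter_closedPoints (X := Y.left) Set.univ_nonempty isClosed_univ.isLocallyClosed
  obtain ⟨p, -⟩ := exists_pt hy
  exact ⟨p⟩

/-- A morphism from a reduced scheme factors through a closed subscheme if it does so on rational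
points. -/
lemma factor_of_points [IsAlgClosed k] {W Y Z : Over (Spec (CommRingCat.of k))} [LocallyOfFiniteType W.hom]
    [IsReduced W.left] (f : W ⟶ Y) (c : Z ⟶ Y) [IsClosedImmersion c.left]
    (h : ∀ w : Pt W, pt (w ≫ f) ∈ Set.range c.left) : ∃ l : W ⟶ Z, l ≫ c = f := by
  obtain ⟨l, hl⟩ := GrpdLib.PtsClosed.exists_factor_over (K := k) W.hom f.left c.left fun x hx => by
    obtain ⟨z, hz⟩ := exists_lift_of_mem c (h (Over.homMk x hx))
    exact ⟨z.left, congrArg Over.Hom.left hz⟩
  exact ⟨Over.homMk l (by rw [← Over.w c, reassoc_of% hl, Over.w]), Over.OverMorphism.ext hl⟩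

lemma isClosedImmersion_pt {X : Over (Spec (CommRingCat.of k))} [IsSeparated X.hom] (x : Pt X) :
    IsClosedImmersion x.left := by
  have : IsClosedImmersion (x.left ≫ X.hom) := by
    rw [Over.w x]; exact inferInstanceAs (IsClosedImmersion (𝟙 _))
  exact IsClosedImmersion.of_comp x.left X.hom

variable {G : Over (Spec (CommRingCat.of k))} [GrpObj G]

/-- The set underlying a group of rational points. -/
abbrev pts (S : Subgroup (Pt G)) : Set G.left := pt '' (S : Set (Pt G))

/-- The Zariski closure of a group of rational points as a smooth closed subgroup. -/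
lemma exists_closure [Smooth G.hom] [QuasiCompact G.hom] (S : Subgroup (Pt G)) :
    ∃ (H : Over (Spec (CommRingCat.of k))) (_ : GrpObj H) (i : H ⟶ G), IsMonHom i ∧
      IsClosedImmersion i.left ∧ Smooth H.hom ∧ QuasiCompact H.hom ∧
      Set.range i.left = closure (pts S) ∧ ∀ s ∈ S, ∃ h : Pt H, h ≫ i = s := by
  obtain ⟨H, _, i, hi, hci, hs, hr⟩ := S15608.result k G S
  refine ⟨H, ‹_›, i, hi, hci, hs, ?_, hr, fun s hs' => ?_⟩
  · rw [← Over.w i]; infer_instance
  · exact exists_lift_of_mem i (by rw [hr]; exact subset_closure ⟨s, hs', rfl⟩)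

/-- A point fixed by a group of rational points is fixed by its closure. -/
lemma fix_of_dense [IsAlgClosed k] {X : Over (Spec (CommRingCat.of k))} [IsSeparated X.hom] (a : AlgGrp.Action G X)
    (S : Subgroup (Pt G)) (x : Pt X) (hx : ∀ s ∈ S, smul a s x = x)
    {H : Over (Spec (CommRingCat.of k))} (i : H ⟶ G) [IsReduced H.left] [LocallyOfFiniteType H.hom]
    (hi : Set.range i.left ⊆ closure (pts S)) {T : Over (Spec (CommRingCat.of k))} (h : T ⟶ H) :
    smul a (h ≫ i) (toUnit T ≫ x) = toUnit T ≫ x := by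
  let c : pullback (a.orbitMap x) x ⟶ G := pullback.fst _ _
  have := isClosedImmersion_pt x
  have hc : IsClosedImmersion c.left :=
    MorphismProperty.of_isPullback
      (GrpdLib.GrpOver.isPullback_left (IsPullback.of_hasPullback (a.orbitMap x) x)).flip this
  have hsub : closure (pts S) ⊆ Set.range c.left := by
    refine closure_minimal ?_ c.left.isClosedEmbedding.isClosed_range
    rintro _ ⟨s, hs, rfl⟩
    refine mem_range_of_factor (z := pullback.lift s (𝟙 _) ?_) (pullback.lift_fst _ _ _)
    rw [Category.id_comp, GrpdLib.OrbitQuot.comp_orbitMap, toUnit_unique (toUnit (𝟙_ _)) (𝟙 _), Category.id_comp]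
    exact hx s hs
  obtain ⟨l, hl⟩ := factor_of_points i c fun w => hsub (hi ⟨pt w, rfl⟩)
  have e : i ≫ a.orbitMap x = toUnit H ≫ x := by
    rw [← hl, Category.assoc, pullback.condition, ← Category.assoc, toUnit_unique (l ≫ _) (toUnit H)]
  have e2 := congrArg (h ≫ ·) e
  simp only [← Category.assoc, toUnit_unique (h ≫ toUnit H) (toUnit T)] at e2
  exact (GrpdLib.OrbitQuot.comp_orbitMap a x (h ≫ i)).symm.trans e2

open scoped commutatorElement

/-- Commutators of the closure lie in the closure of the commutator subgroup. -/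
lemma commutator_mem_closure (S : Subgroup (Pt G)) {x y : Pt G}
    (hx : pt x ∈ closure (pts S)) (hy : pt y ∈ closure (pts S)) :
    pt ⁅x, y⁆ ∈ closure (pts ⁅S, S⁆) := by
  have step : ∀ {z : Pt G}, pt z ∈ closure (pts S) → ∀ s ∈ S, pt ⁅z, s⁆ ∈ closure (pts ⁅S, S⁆) := by
    intro z hz s hs
    let f : G ⟶ G := ⁅𝟙 G, toUnit G ≫ s⁆
    have hf : ∀ w : Pt G, w ≫ f = ⁅w, s⁆ := fun w => by
      simp only [f, commutatorElement_def, MonObj.comp_mul, GrpObj.comp_inv, Category.comp_id, const_comp]
    rw [← hf, pt_comp]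
    refine map_mem_closure f.left.continuous hz ?_
    rintro _ ⟨w, hw, rfl⟩
    exact ⟨⁅w, s⁆, Subgroup.commutator_mem_commutator hw hs, by rw [← hf]; rfl⟩
  let f : G ⟶ G := ⁅toUnit G ≫ x, 𝟙 G⁆
  have hf : ∀ w : Pt G, w ≫ f = ⁅x, w⁆ := fun w => by
    simp only [f, commutatorElement_def, MonObj.comp_mul, GrpObj.comp_inv, Category.comp_id, const_comp]
  rw [← hf, pt_comp, ← closure_closure (s := pts ⁅S, S⁆)]
  refine map_mem_closure f.left.continuous hy ?_
  rintro _ ⟨w, hw, rfl⟩
  rw [← pt_comp, hf]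
  exact step hx w hw

/-- The closure of the commutator subgroup of a connected group of points is connected. -/
lemma isPreconnected_commutator (S : Subgroup (Pt G)) (hS : _root_.IsPreconnected (closure (pts S))) :
    _root_.IsPreconnected (closure (pts ⁅S, S⁆)) := by
  let U := closure (pts ⁅S, S⁆)
  have h1U : pt (1 : Pt G) ∈ U := subset_closure ⟨1, one_mem _, rfl⟩
  let C := connectedComponentIn U (pt (1 : Pt G))
  have h1C : pt (1 : Pt G) ∈ C := mem_connectedComponentIn h1U
  -- left translation by a point of the commutator subgroup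
  have htr : ∀ d ∈ ⁅S, S⁆, ∃ τ : G ⟶ G, (∀ x : Pt G, pt (d * x) = τ.left (pt x)) ∧
      ∀ z ∈ U, τ.left z ∈ U := fun d hd => by
    refine ⟨(toUnit G ≫ d) * 𝟙 G, fun x => ?_, fun z hz => ?_⟩
    · rw [← pt_comp, MonObj.comp_mul, Category.comp_id, const_comp]
    · refine map_mem_closure ((toUnit G ≫ d) * 𝟙 G).left.continuous hz ?_
      rintro _ ⟨w, hw, rfl⟩
      refine ⟨d * w, mul_mem hd hw, ?_⟩
      rw [← pt_comp, MonObj.comp_mul, Category.comp_id, const_comp]
  have himg : ∀ d ∈ ⁅S, S⁆, ∀ x : Pt G, pt x ∈ C → pt (d * x) ∈ C →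
      ∀ y : Pt G, pt y ∈ C → pt (d * y) ∈ C := fun d hd x hx hdx y hy => by
    obtain ⟨τ, hτ, hτU⟩ := htr d hd
    rw [hτ] at hdx ⊢
    have hpre : _root_.IsPreconnected (τ.left '' C) :=
      isPreconnected_connectedComponentIn.image _ τ.left.continuous.continuousOn
    have hsub := hpre.subset_connectedComponentIn (x := τ.left (pt x)) ⟨_, hx, rfl⟩
      (by rintro _ ⟨z, hz, rfl⟩; exact hτU z (connectedComponentIn_subset _ _ hz))
    have e := connectedComponentIn_eq hdx
    rw [show connectedComponentIn U (pt (1 : Pt G)) = C from rfl] at e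
    rw [e]
    exact hsub ⟨_, hy, rfl⟩
  let A : Subgroup (Pt G) :=
  { carrier := {d | d ∈ ⁅S, S⁆ ∧ pt d ∈ C}
    one_mem' := ⟨one_mem _, h1C⟩
    mul_mem' := fun {d e} hd he => ⟨mul_mem hd.1 he.1,
      himg d hd.1 1 h1C (by rw [_root_.mul_one]; exact hd.2) e he.2⟩
    inv_mem' := fun {d} hd => ⟨inv_mem hd.1, by
      have := himg d⁻¹ (inv_mem hd.1) d hd.2 (by rw [inv_mul_cancel]; exact h1C) 1 h1C
      rwa [_root_.mul_one] at this⟩ }
  have hA : ⁅S, S⁆ ≤ A := by
    refine Subgroup.commutator_le.2 fun s hs t ht => ⟨Subgroup.commutator_mem_commutator hs ht, ?_⟩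
    let f : G ⟶ G := ⁅𝟙 G, toUnit G ≫ t⁆
    have hf : ∀ w : Pt G, w ≫ f = ⁅w, t⁆ := fun w => by
      simp only [f, commutatorElement_def, MonObj.comp_mul, GrpObj.comp_inv, Category.comp_id, const_comp]
    have hpre : _root_.IsPreconnected (f.left '' closure (pts S)) := hS.image _ f.left.continuous.continuousOn
    have hsub : f.left '' closure (pts S) ⊆ U := by
      rintro _ ⟨z, hz, rfl⟩
      refine map_mem_closure f.left.continuous hz ?_
      rintro _ ⟨w, hw, rfl⟩
      exact ⟨⁅w, t⁆, Subgroup.commutator_mem_commutator hw ht, by rw [← hf]; rfl⟩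
    refine hpre.subset_connectedComponentIn (x := pt (1 : Pt G)) ⟨pt (1 : Pt G), subset_closure ⟨1, one_mem _, rfl⟩, ?_⟩
      hsub ⟨pt s, subset_closure ⟨s, hs, rfl⟩, ?_⟩
    · rw [← pt_comp, hf, commutatorElement_one_left]
    · rw [← pt_comp, hf]
  have hCc : IsClosed C := by
    have hCU : C ⊆ U := connectedComponentIn_subset _ _
    have := isPreconnected_connectedComponentIn (F := U) (x := pt (1 : Pt G))
    exact isClosed_of_closure_subset (this.closure.subset_connectedComponentIn (subset_closure h1C)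
      (closure_minimal hCU isClosed_closure))
  have : U = C := Set.Subset.antisymm (closure_minimal (by rintro _ ⟨d, hd, rfl⟩; exact (hA hd).2) hCc)
    (connectedComponentIn_subset _ _)
  show _root_.IsPreconnected U
  rw [this]
  exact isPreconnected_connectedComponentIn

end Groth.Agent.Borel50.Pts
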