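import Groth.Agent.S8007
import Groth.Agent.S5369
import Groth.Agent.S3279
import Groth.Agent.Borel50.Pts
import Groth.Prelude.Def_AGF

/-!
# Properness of homogeneous spaces
-/

set_option autoImplicit false
universe u

open CategoryTheory MonoidalCategory CartesianMonoidalCategory MonObj GrpObj AlgebraicGeometry Limits

noncomputable section

namespace Groth.Agent.Borel50.ProperQuot

open Groth.Agent.Borel50.Pts
open Groth.Agent.AGFQuot.Basic

variable {k : Type u} [Field k]
variable {G H : Over (Spec (CommRingCat.of k))} [GrpObj G] [GrpObj H]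
  [LocallyOfFiniteType G.hom] [QuasiCompact G.hom] {i : H ⟶ G}
  {X : Over (Spec (CommRingCat.of k))} {a : AlgGrp.Action G X} {o : Pt X}

omit [QuasiCompact G.hom] in
lemma isCover (hX : AGF.IsQuotient i X a o) : IsCover (a.orbitMap o) :=
  have := hX.1
  ⟨hX.2.2.1, hX.2.1, GrpdLib.GrpOver.lfp_left _⟩

lemma quasiCompact_quotient (hX : AGF.IsQuotient i X a o) : QuasiCompact X.hom := by
  have := hX.1
  have := hX.2.2.1
  have : CompactSpace G.left := (quasiCompact_iff_compactSpace G.hom).1 inferInstance
  have : CompactSpace X.left :=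
    (a.orbitMap o).left.surjective.compactSpace (a.orbitMap o).left.continuous
  exact (quasiCompact_iff_compactSpace X.hom).2 inferInstance

lemma isSeparated_quotient [IsMonHom i] [IsClosedImmersion i.left] (hX : AGF.IsQuotient i X a o) :
    IsSeparated X.hom := by
  have := hX.1
  have := hX.2.1
  have := hX.2.2.1
  have := quasiCompact_quotient hX
  have : CompactSpace G.left := (quasiCompact_iff_compactSpace G.hom).1 inferInstance
  have := LocallyOfFiniteType.isLocallyNoetherian X.hom
  have : QuasiSeparated X.hom := inferInstance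
  have : QuasiCompact (a.orbitMap o).left := by
    have : QuasiCompact ((a.orbitMap o).left ≫ X.hom) := by rw [Over.w]; infer_instance
    exact QuasiCompact.of_comp (a.orbitMap o).left X.hom
  have : Mono i := Over.mono_of_mono_left i
  refine (S5369.result _ G H X i (a.orbitMap o) ⟨G.left, (a.orbitMap o).left, 𝟙 _, Category.id_comp _,
    inferInstance, inferInstance, fun V hV => ⟨(a.orbitMap o).left ⁻¹ᵁ V,
      (a.orbitMap o).left.isCompact_preimage hV.isCompact, ?_⟩⟩ hX.2.2.2.flip).2.2.1.mpr inferInstance
  exact Set.image_preimage_eq _ (a.orbitMap o).left.surjective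

/-- A quotient by an open subgroup is finite. -/
lemma finite_of_isOpen_range [IsAlgClosed k] (hX : AGF.IsQuotient i X a o) (hi : IsOpen (Set.range i.left)) :
    Finite X.left := by
  have := hX.1
  have := hX.2.1
  have := hX.2.2.1
  have hc := isCover hX
  have := hc.lfp
  have := quasiCompact_quotient hX
  have : JacobsonSpace X.left := LocallyOfFiniteType.jacobsonSpace X.hom
  have : JacobsonSpace G.left := LocallyOfFiniteType.jacobsonSpace G.hom
  have : CompactSpace X.left := (quasiCompact_iff_compactSpace X.hom).1 inferInstance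
  let p := a.orbitMap o
  have hop : IsOpenMap p.left := p.left.isOpenMap
  have hopen : ∀ x ∈ closedPoints X.left, IsOpen ({x} : Set X.left) := by
    intro x hx
    obtain ⟨y, hy⟩ := p.left.surjective x
    obtain ⟨y', hy', hy'c⟩ := nonempty_inter_closedPoints (Z := p.left ⁻¹' {x}) ⟨y, hy⟩
      ((IsClosed.preimage p.left.continuous hx).isLocallyClosed)
    obtain ⟨g, rfl⟩ := exists_pt hy'c
    let t := ((toUnit H ≫ g) * i)
    have e : t = i ≫ (GrpScheme.Basic.translate g).hom := by
      simp only [t, GrpScheme.Basic.translate, MonObj.comp_mul, Category.comp_id, ← Category.assoc,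
        toUnit_unique (i ≫ toUnit G) (toUnit H)]
    have ht : IsOpen (Set.range t.left) := by
      rw [e, Over.comp_left, Scheme.Hom.comp_base, TopCat.coe_comp, Set.range_comp]
      have : IsIso (GrpScheme.Basic.translate g).hom.left :=
        inferInstanceAs (IsIso ((Over.forget _).map (GrpScheme.Basic.translate g).hom))
      exact (GrpScheme.Basic.translate g).hom.left.isOpenEmbedding.isOpenMap _ hi
    have e2 : t ≫ p = (toUnit H ≫ g) ≫ p :=
      ((comp_eq_iff hX.2.2.2 _ _).mpr ⟨𝟙 H, by simp [t]⟩).symm
    have himg : p.left '' Set.range t.left = {x} := by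
      refine Set.Subset.antisymm ?_ ?_
      · rintro _ ⟨_, ⟨z, rfl⟩, rfl⟩
        show (t ≫ p).left z = x
        rw [e2]
        show p.left (g.left ((toUnit H).left z)) = x
        rw [Subsingleton.elim (α := Spec (CommRingCat.of k)) ((toUnit H).left z) (IsLocalRing.closedPoint k)]
        exact hy'
      · intro w hw
        rw [Set.mem_singleton_iff.mp hw]
        let z := η[H].left (IsLocalRing.closedPoint k)
        refine ⟨t.left z, ⟨z, rfl⟩, ?_⟩
        show (t ≫ p).left z = x
        rw [e2]
        show p.left (g.left ((toUnit H).left z)) = x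
        rw [Subsingleton.elim (α := Spec (CommRingCat.of k)) ((toUnit H).left z) (IsLocalRing.closedPoint k)]
        exact hy'
    rw [← himg]
    exact hop _ ht
  have hU : IsOpen (closedPoints X.left) := by
    rw [← Set.biUnion_of_singleton (closedPoints X.left)]
    exact isOpen_biUnion hopen
  have hall : closedPoints X.left = Set.univ := by
    by_contra hne
    obtain ⟨z, hz, hzc⟩ := nonempty_inter_closedPoints (Set.nonempty_compl.mpr hne)
      hU.isClosed_compl.isLocallyClosed
    exact hz hzc
  have : DiscreteTopology X.left :=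
    discreteTopology_iff_isOpen_singleton.mpr fun x => hopen x (hall ▸ Set.mem_univ x)
  exact finite_of_compact_of_discrete

lemma isProper_of_finite {Y : Over (Spec (CommRingCat.of k))} [LocallyOfFiniteType Y.hom] [QuasiCompact Y.hom]
    (hY : Finite Y.left) : IsProper Y.hom := by
  have : LocallyQuasiFinite Y.hom :=
    LocallyQuasiFinite.of_finite_preimage_singleton Y.hom fun _ => Set.toFinite _
  have : IsFinite Y.hom := IsFinite.of_locallyQuasiFinite Y.hom
  infer_instance

/-- Properness in towers of homogeneous spaces. -/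
theorem isProper_tower {H' X' Y : Over (Spec (CommRingCat.of k))} [GrpObj H'] [IsMonHom i]
    [IsClosedImmersion i.left] (i' : H' ⟶ G) [IsMonHom i'] [IsClosedImmersion i'.left]
    (l : H ⟶ H') (hl : l ≫ i' = i)
    {a' : AlgGrp.Action G X'} {o' : Pt X'} {b : AlgGrp.Action H' Y} {y : Pt Y}
    (hX : AGF.IsQuotient i X a o) (hX' : AGF.IsQuotient i' X' a' o') (hY : AGF.IsQuotient l Y b y)
    [IsProper X'.hom] [IsProper Y.hom] : IsProper X.hom := by
  have : Mono i' := Over.mono_of_mono_left i'
  have : LocallyOfFiniteType H'.hom := by rw [← Over.w i']; infer_instance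
  have : QuasiCompact H'.hom := by rw [← Over.w i']; infer_instance
  have := hX.1
  have := hX'.1
  have := hY.1
  have hp' := isCover hX'
  obtain ⟨qbar, hq, -⟩ := existsUnique_desc (isCover hX) hX.2.2.2 (a'.orbitMap o') fun T g t => by
    refine ((comp_eq_iff hX'.2.2.2 _ _).mpr ⟨t ≫ l, ?_⟩).symm
    rw [Category.assoc, hl]
  obtain ⟨φ, sq⟩ := S8007.exists_isPullback i i' l hl _ _ _ qbar (isCover hX) hp' (isCover hY)
    hX.2.2.2 hX'.2.2.2 hY.2.2.2 hq
  have sq' := GrpdLib.GrpOver.isPullback_left sq
  have := hp'.surj
  have := hp'.flat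
  have : QuasiCompact (a'.orbitMap o').left := by
    have : QuasiCompact ((a'.orbitMap o').left ≫ X'.hom) := by rw [Over.w]; infer_instance
    exact QuasiCompact.of_comp (a'.orbitMap o').left X'.hom
  have hfst : IsProper (fst G Y).left := inferInstanceAs (IsProper (pullback.fst G.hom Y.hom))
  have := FpqcDesc.descendsAlong_isProper.{u}
  have : IsProper qbar.left := MorphismProperty.of_isPullback_of_descendsAlong
    (Q := @Surjective ⊓ @Flat ⊓ @QuasiCompact) sq' ⟨⟨‹_›, ‹_›⟩, ‹_›⟩ hfst
  rw [← Over.w qbar]
  infer_instance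

end Groth.Agent.Borel50.ProperQuot
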