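import Groth.Agent.Borel50.NoFix
import Groth.Agent.Borel50.Solvable
import Groth.Agent.Borel50.ProperQuot
import Groth.Agent.GrpScheme.IdSubgroup
import Mathlib.AlgebraicGeometry.Morphisms.FlatMono

/-!
# Existence of a connected solvable subgroup with proper quotient
-/

set_option autoImplicit false
universe u

open CategoryTheory MonoidalCategory CartesianMonoidalCategory MonObj GrpObj AlgebraicGeometry Limits

noncomputable section

namespace Groth.Agent.Borel50.Exists

open Groth.Agent.Borel50.Pts
open Groth.Agent.GrpScheme.Basic (smul one_smul' mul_smul')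

variable {k : Type u} [Field k]

/-- The stabiliser of a rational point. -/
theorem exists_stabilizer {G X : Over (Spec (CommRingCat.of k))} [GrpObj G] [IsSeparated X.hom]
    (a : AlgGrp.Action G X) (x : Pt X) :
    ∃ (K : Over (Spec (CommRingCat.of k))) (_ : GrpObj K) (iK : K ⟶ G),
      IsMonHom iK ∧ IsClosedImmersion iK.left ∧ IsPullback iK (toUnit K) (a.orbitMap x) x ∧
      ∀ {T : Over (Spec (CommRingCat.of k))} (g : T ⟶ G),
        (∃ w : T ⟶ K, w ≫ iK = g) ↔ smul a g (toUnit T ≫ x) = toUnit T ≫ x := by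
  let K := pullback (a.orbitMap x) x
  let iK : K ⟶ G := pullback.fst _ _
  have := isClosedImmersion_pt x
  have hKc : IsClosedImmersion iK.left := MorphismProperty.of_isPullback
    (GrpdLib.GrpOver.isPullback_left (IsPullback.of_hasPullback (a.orbitMap x) x)).flip this
  have : Mono iK := Over.mono_of_mono_left iK
  have hK : ∀ {T : Over (Spec (CommRingCat.of k))} (g : T ⟶ G),
      (∃ w : T ⟶ K, w ≫ iK = g) ↔ smul a g (toUnit T ≫ x) = toUnit T ≫ x := fun {T} g => by
    rw [← GrpdLib.OrbitQuot.comp_orbitMap]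
    refine ⟨fun ⟨w, hw⟩ => ?_, fun e => ⟨pullback.lift g (toUnit T) e, pullback.lift_fst _ _ _⟩⟩
    rw [← hw, Category.assoc, pullback.condition, ← Category.assoc, toUnit_unique (w ≫ _) (toUnit T)]
  obtain ⟨_, hKh⟩ := GrpScheme.SubgroupObj.exists_grpObj iK
    (by
      obtain ⟨m, hm⟩ := (hK ((fst K K ≫ iK) * (snd K K ≫ iK))).2 (by
        rw [mul_smul', (hK _).1 ⟨snd K K, rfl⟩, (hK _).1 ⟨fst K K, rfl⟩])
      refine ⟨m, hm.trans ?_⟩
      rw [Hom.mul_def]
      congr 1)
    (by
      obtain ⟨o, ho⟩ := (hK (1 : 𝟙_ _ ⟶ G)).2 (one_smul' _ _)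
      exact ⟨o, ho.trans (by rw [Hom.one_def, toUnit_unique (toUnit _) (𝟙 _), Category.id_comp])⟩)
    (by
      obtain ⟨j, hj⟩ := (hK iK⁻¹).2 (by
        conv_lhs => rw [← (hK iK).1 ⟨𝟙 K, Category.id_comp _⟩]
        rw [← mul_smul', inv_mul_cancel, one_smul'])
      exact ⟨j, hj.trans (by rw [Hom.inv_def])⟩)
  refine ⟨K, ‹_›, iK, hKh, hKc, ?_, hK⟩
  have e := IsPullback.of_hasPullback (a.orbitMap x) x
  rwa [toUnit_unique (pullback.snd (a.orbitMap x) x) (toUnit K)] at e

variable [IsAlgClosed k]

/-- Closed immersions into reduced schemes hitting all closed points are isomorphisms. -/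
lemma isIso_of_range_eq {A B : Over (Spec (CommRingCat.of k))} (f : A ⟶ B) [IsClosedImmersion f.left]
    [IsReduced B.left] (h : Set.range f.left = Set.univ) : IsIso f := by
  have : Surjective f.left := ⟨Set.range_eq_univ.mp h⟩
  have : IsIso ((Over.forget _).map f) := isIso_of_isClosedImmersion_of_surjective f.left
  exact isIso_of_reflects_iso f (Over.forget _)

/-- The identity component of the reduced stabiliser. -/
theorem exists_component {G K : Over (Spec (CommRingCat.of k))} [GrpObj G] [GrpObj K] [Smooth G.hom]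
    [QuasiCompact G.hom] (iK : K ⟶ G) [IsMonHom iK] [IsClosedImmersion iK.left] :
    ∃ (P : Over (Spec (CommRingCat.of k))) (_ : GrpObj P) (iP : P ⟶ G) (l : P ⟶ K),
      IsMonHom iP ∧ IsMonHom l ∧ IsClosedImmersion iP.left ∧ IsClosedImmersion l.left ∧ l ≫ iK = iP ∧
      Smooth P.hom ∧ QuasiCompact P.hom ∧ ConnectedSpace P.left ∧ IsOpen (Set.range l.left) := by
  have : Mono iK := Over.mono_of_mono_left iK
  have : LocallyOfFiniteType K.hom := by rw [← Over.w iK]; infer_instance
  have : JacobsonSpace K.left := LocallyOfFiniteType.jacobsonSpace K.hom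
  let S : Subgroup (Pt G) := (IsMonHom.monoidHom iK (𝟙_ _)).range
  obtain ⟨R, _, iR, _, _, _, _, hR, -⟩ := exists_closure S
  have := GrpScheme.HomFlat.isReduced_of_smooth R.hom
  have : Mono iR := Over.mono_of_mono_left iR
  have hRK : closure (pts S) = Set.range iK.left := by
    refine Set.Subset.antisymm (closure_minimal ?_ iK.left.isClosedEmbedding.isClosed_range) ?_
    · rintro _ ⟨_, ⟨w, rfl⟩, rfl⟩
      exact mem_range_of_factor rfl
    · rw [← Set.image_univ, ← closure_closedPoints (X := K.left)]
      refine (image_closure_subset_closure_image iK.left.continuous).trans (closure_mono ?_)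
      rintro _ ⟨z, hz, rfl⟩
      obtain ⟨w, rfl⟩ := exists_pt hz
      exact ⟨w ≫ iK, ⟨w, rfl⟩, rfl⟩
  obtain ⟨m, hm⟩ := factor_of_points iR iK fun w => by
    rw [← hRK, ← hR]; exact mem_range_of_factor rfl
  let c := GrpScheme.IdSubgroup.incl R
  have : IsClosedImmersion c.left :=
    inferInstanceAs (IsClosedImmersion (GrpScheme.IdSubgroup.ideal R).subschemeι)
  have : LocallyOfFiniteType (GrpScheme.IdSubgroup.G₀ R).hom := by rw [← Over.w c]; infer_instance
  have : LocallyOfFinitePresentation c.left := GrpdLib.GrpOver.lfp_left c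
  have : IsOpenImmersion c.left := IsOpenImmersion.of_flat_of_mono c.left
  have : Smooth (GrpScheme.IdSubgroup.G₀ R).hom := by rw [← Over.w c]; infer_instance
  have hmc : IsClosedImmersion m.left := by
    have : IsClosedImmersion (m.left ≫ iK.left) := by rw [← Over.comp_left, hm]; infer_instance
    exact IsClosedImmersion.of_comp m.left iK.left
  have hmsurj : Function.Surjective m.left := fun z => by
    obtain ⟨r, hr⟩ : iK.left z ∈ Set.range iR.left := hR ▸ hRK ▸ ⟨z, rfl⟩
    refine ⟨r, iK.left.isClosedEmbedding.injective ?_⟩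
    rw [← hr, ← hm]; rfl
  have : IsMonHom m :=
    { one_hom := by rw [← cancel_mono iK, Category.assoc, hm, IsMonHom.one_hom, IsMonHom.one_hom]
      mul_hom := by
        rw [← cancel_mono iK, Category.assoc, Category.assoc, hm, IsMonHom.mul_hom, IsMonHom.mul_hom,
          MonoidalCategory.tensorHom_comp_tensorHom_assoc, hm] }
  have : CompactSpace (GrpScheme.IdSubgroup.G₀ R).left := GrpScheme.IdSubgroup.compactSpace_G₀ R
  refine ⟨_, inferInstance, c ≫ iR, c ≫ m, inferInstance, inferInstance, ?_, ?_,
    by rw [Category.assoc, hm], inferInstance, ?_, ?_, ?_⟩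
  · exact inferInstanceAs (IsClosedImmersion (c.left ≫ iR.left))
  · exact inferInstanceAs (IsClosedImmersion (c.left ≫ m.left))
  · exact (quasiCompact_iff_compactSpace _).2 inferInstance
  · have h := GrpScheme.IdSubgroup.range_incl R
    refine { toPreconnectedSpace := ⟨?_⟩, toNonempty := ⟨pt (1 : Pt (GrpScheme.IdSubgroup.G₀ R))⟩ }
    rw [← c.left.isClosedEmbedding.isInducing.isPreconnected_image, Set.image_univ, h]
    exact isPreconnected_connectedComponent
  · rw [Over.comp_left, Scheme.Hom.comp_base, TopCat.coe_comp, Set.range_comp]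
    exact (m.left.isClosedEmbedding.isEmbedding.toHomeomorphOfSurjective hmsurj).isOpenMap _
      c.left.isOpenEmbedding.isOpen_range

variable {G : Over (Spec (CommRingCat.of k))} [GrpObj G] [IsAffine G.left] [Smooth G.hom]

lemma exists_aux (Z : TopologicalSpace.Closeds G.left) :
    ∀ (P : Over (Spec (CommRingCat.of k))) [GrpObj P] (iP : P ⟶ G) [IsMonHom iP] [IsClosedImmersion iP.left]
      [Smooth P.hom] [ConnectedSpace P.left], Set.range iP.left = (Z : Set G.left) →
      ∃ (B : Over (Spec (CommRingCat.of k))) (_ : GrpObj B) (b : B ⟶ P), IsMonHom b ∧ IsClosedImmersion b.left ∧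
        Smooth B.hom ∧ ConnectedSpace B.left ∧ Red.IsSolvableGrp B ∧
        ∃ (X : Over (Spec (CommRingCat.of k))) (a : AlgGrp.Action P X) (o : Pt X),
          AGF.IsQuotient b X a o ∧ IsProper X.hom := by
  have := FixedPt.qc_G G
  have : IsLocallyNoetherian G.left := LocallyOfFiniteType.isLocallyNoetherian G.hom
  have : CompactSpace G.left := (quasiCompact_iff_compactSpace G.hom).1 inferInstance
  have : IsNoetherian G.left := {}
  induction Z using (wellFounded_lt (α := TopologicalSpace.Closeds G.left)).induction with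
  | h Z ih =>
    intro P _ iP _ _ _ _ hZ
    have : IsAffine P.left := isAffine_of_isAffineHom iP.left
    have := FixedPt.qc_G P
    by_cases hs : Group.IsSolvable (Pt P)
    · obtain ⟨X, a, o, hlft, hqc, hfl, hsu, hsq⟩ := S3279.result k P P (𝟙 P)
      have hX : AGF.IsQuotient (𝟙 P) X a o := ⟨hlft, hfl, hsu, hsq⟩
      refine ⟨P, inferInstance, 𝟙 P, inferInstance, inferInstanceAs (IsClosedImmersion (𝟙 P.left)),
        inferInstance, inferInstance, Solvable.isSolvableGrp_of_points hs.solvable, X, a, o, hX, ?_⟩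
      refine ProperQuot.isProper_of_finite (ProperQuot.finite_of_isOpen_range hX ?_)
      convert isOpen_univ using 1
      exact Set.range_eq_univ.mpr fun x => ⟨x, rfl⟩
    obtain ⟨X₁, _, _, c, hnofix⟩ := NoFix.exists_proper_noFixedPt P hs
    obtain ⟨x, hx⟩ := S14586.result k P X₁ c
    obtain ⟨K, _, iK, _, _, hKsq, hK⟩ := exists_stabilizer c x
    have : LocallyOfFiniteType K.hom := by rw [← Over.w iK]; infer_instance
    have : QuasiCompact K.hom := by rw [← Over.w iK]; infer_instance
    obtain ⟨Y, bY, y, f, hY, -, -, hyorb, hf⟩ := GrpQuot50.Orbit.exists_quotient_orbit c x iK hKsq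
    have := hY.1
    have : Surjective (bY.orbitMap y).left := hY.2.2.1
    have hrange : Set.range f.left = Set.range (c.orbitMap x).left := by
      rw [← hyorb, Over.comp_left, Scheme.Hom.comp_base, TopCat.coe_comp,
        (bY.orbitMap y).left.surjective.range_comp]
    have : IsClosedImmersion f.left :=
      have := hf
      IsClosedImmersion.of_isPreimmersion f.left (hrange ▸ hx)
    have : IsProper Y.hom := by rw [← Over.w f]; infer_instance
    obtain ⟨P', _, iP', l, _, _, _, _, hl, _, _, _, hopen⟩ := exists_component iK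
    have : LocallyOfFiniteType P'.hom := inferInstance
    have : Mono iP' := Over.mono_of_mono_left iP'
    have : Mono l := Over.mono_of_mono_left l
    let Z' : TopologicalSpace.Closeds G.left := ⟨Set.range (iP' ≫ iP).left,
      have : IsClosedImmersion (iP' ≫ iP).left := inferInstanceAs (IsClosedImmersion (iP'.left ≫ iP.left))
      (iP' ≫ iP).left.isClosedEmbedding.isClosed_range⟩
    have hlt : Z' < Z := by
      refine SetLike.lt_iff_le_and_exists.mpr ⟨?_, ?_⟩
      · rintro _ ⟨z, rfl⟩
        exact hZ.subset ⟨iP'.left z, rfl⟩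
      · by_contra hne
        push Not at hne
        have hall : Set.range iK.left = Set.univ := Set.eq_univ_of_forall fun z => by
          obtain ⟨w, hw⟩ := hne (iP.left z) (hZ.subset ⟨z, rfl⟩)
          refine ⟨l.left w, iP.left.isClosedEmbedding.injective ?_⟩
          rw [← hw, ← hl]; rfl
        have := GrpScheme.HomFlat.isReduced_of_smooth P.hom
        have := isIso_of_range_eq iK hall
        exact hnofix x fun T g => (hK g).1 ⟨g ≫ inv iK, by simp⟩
    have : IsClosedImmersion (iP' ≫ iP).left := inferInstanceAs (IsClosedImmersion (iP'.left ≫ iP.left))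
    obtain ⟨B, _, b, _, _, _, _, hBs, W, aW, oW, hW, _⟩ := ih Z' hlt P' (iP' ≫ iP) rfl
    have : IsAffine P'.left := isAffine_of_isAffineHom iP'.left
    have : IsAffine K.left := isAffine_of_isAffineHom iK.left
    -- `P/P'` is proper
    obtain ⟨V, aV, oV, hVl, -, hVf, hVs, hVq⟩ := S3279.result k P P' iP'
    have hV : AGF.IsQuotient iP' V aV oV := ⟨hVl, hVf, hVs, hVq⟩
    obtain ⟨U, aU, oU, hUl, hUc, hUf, hUs, hUq⟩ := S3279.result k K P' l
    have hU : AGF.IsQuotient l U aU oU := ⟨hUl, hUf, hUs, hUq⟩
    have : IsProper U.hom := ProperQuot.isProper_of_finite (ProperQuot.finite_of_isOpen_range hU hopen)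
    have : IsProper V.hom := ProperQuot.isProper_tower iK l hl hV hY hU
    -- `P/B` is proper
    have : IsClosedImmersion (b ≫ iP').left := inferInstanceAs (IsClosedImmersion (b.left ≫ iP'.left))
    have : Mono (b ≫ iP') := Over.mono_of_mono_left _
    have : LocallyOfFiniteType B.hom := inferInstance
    have : QuasiCompact B.hom := by rw [← Over.w (b ≫ iP')]; infer_instance
    obtain ⟨X, aX, oX, hXl, -, hXf, hXs, hXq⟩ := S3279.result k P B (b ≫ iP')
    have hX : AGF.IsQuotient (b ≫ iP') X aX oX := ⟨hXl, hXf, hXs, hXq⟩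
    exact ⟨B, ‹_›, b ≫ iP', inferInstance, inferInstance, inferInstance, inferInstance, hBs, X, aX, oX, hX,
      ProperQuot.isProper_tower iP' b rfl hX hV hW⟩

variable (G) in
/-- Every connected affine smooth group has a smooth connected solvable subgroup with proper quotient. -/
theorem exists_proper_quotient [ConnectedSpace G.left] :
    ∃ (B : Over (Spec (CommRingCat.of k))) (_ : GrpObj B) (b : B ⟶ G), IsMonHom b ∧ IsClosedImmersion b.left ∧
      Smooth B.hom ∧ ConnectedSpace B.left ∧ Red.IsSolvableGrp B ∧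
      ∃ (X : Over (Spec (CommRingCat.of k))) (a : AlgGrp.Action G X) (o : Pt X),
        AGF.IsQuotient b X a o ∧ IsProper X.hom :=
  have : IsClosedImmersion (𝟙 G : G ⟶ G).left := inferInstanceAs (IsClosedImmersion (𝟙 G.left))
  exists_aux ⊤ G (𝟙 G) (Set.range_eq_univ.mpr fun x => ⟨x, rfl⟩)

end Groth.Agent.Borel50.Exists
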