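import Groth.Agent.Borel50.Pts
import Groth.Agent.GrpQuot50.Orbit
import Groth.Agent.S7978
import Groth.Agent.S3278
import Mathlib.AlgebraicGeometry.Morphisms.Proper

/-!
# Borel's fixed point theorem
-/

set_option autoImplicit false
universe u

open CategoryTheory MonoidalCategory CartesianMonoidalCategory MonObj GrpObj AlgebraicGeometry Limits
open scoped commutatorElement

noncomputable section

namespace Groth.Agent.Borel50.FixedPt

open Groth.Agent.GrpScheme.Basic (smul comp_smul one_smul' mul_smul')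
open Groth.Agent.Borel50.Pts

/-- The restriction of an action along a homomorphism. -/
def restrict {S : Scheme.{u}} {G H X : Over S} [GrpObj G] [GrpObj H] (a : AlgGrp.Action G X) (f : H ⟶ G)
    [IsMonHom f] : AlgGrp.Action H X where
  act := (f ▷ X) ≫ a.act
  one_act := by rw [← comp_whiskerRight_assoc, IsMonHom.one_hom]; exact a.one_act
  mul_act := by
    rw [← comp_whiskerRight_assoc, IsMonHom.mul_hom, comp_whiskerRight_assoc, a.mul_act,
      ← MonoidalCategory.tensorHom_id, associator_naturality_assoc,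
      MonoidalCategory.tensorHom_id, ← MonoidalCategory.id_tensorHom,
      MonoidalCategory.tensorHom_comp_tensorHom_assoc, Category.comp_id,
      MonoidalCategory.tensorHom_def', Category.assoc]

lemma smul_restrict {S : Scheme.{u}} {G H X T : Over S} [GrpObj G] [GrpObj H] (a : AlgGrp.Action G X)
    (f : H ⟶ G) [IsMonHom f] (h : T ⟶ H) (x : T ⟶ X) : smul (restrict a f) h x = smul a (h ≫ f) x := by
  simp [smul, restrict]

/-- An action from its values on points, along a monomorphism into a space with an action. -/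
lemma exists_action_of_mono {S : Scheme.{u}} {G X Z : Over S} [GrpObj G] (a : AlgGrp.Action G X) (c : Z ⟶ X)
    [Mono c] (h : ∀ (T : Over S) (g : T ⟶ G) (z : T ⟶ Z), ∃ z' : T ⟶ Z, z' ≫ c = smul a g (z ≫ c)) :
    ∃ b : AlgGrp.Action G Z, ∀ (T : Over S) (g : T ⟶ G) (z : T ⟶ Z), smul b g z ≫ c = smul a g (z ≫ c) := by
  obtain ⟨act, hact⟩ := h (G ⊗ Z) (fst G Z) (snd G Z)
  have e : ∀ (T : Over S) (g : T ⟶ G) (z : T ⟶ Z), (lift g z ≫ act) ≫ c = smul a g (z ≫ c) := fun T g z => by
    rw [Category.assoc, hact, comp_smul, lift_fst, lift_snd_assoc]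
  have h1 : η[G] ▷ Z = lift (fst (𝟙_ (Over S)) Z ≫ η[G]) (snd _ Z) :=
    CartesianMonoidalCategory.hom_ext _ _ (by simp) (by simp)
  refine ⟨⟨act, ?_, ?_⟩, e⟩
  · rw [← cancel_mono c, h1, e, toUnit_unique (fst (𝟙_ (Over S)) Z) (toUnit _), ← Hom.one_def, one_smul']
    simp [CartesianMonoidalCategory.leftUnitor_hom]
  · rw [← cancel_mono c,
      show μ[G] ▷ Z = lift (fst (G ⊗ G) Z ≫ μ[G]) (snd (G ⊗ G) Z) from
        CartesianMonoidalCategory.hom_ext _ _ (by simp) (by simp), e]
    have h2 : (α_ G G Z).hom ≫ (G ◁ act) =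
        lift (fst (G ⊗ G) Z ≫ fst G G) (lift (fst (G ⊗ G) Z ≫ snd G G) (snd (G ⊗ G) Z) ≫ act) :=
      CartesianMonoidalCategory.hom_ext _ _ (by simp) (by
        rw [Category.assoc, whiskerLeft_snd, lift_snd, ← Category.assoc]
        congr 1
        exact CartesianMonoidalCategory.hom_ext _ _ (by simp) (by simp))
    rw [reassoc_of% h2, e, e, ← mul_smul', MonObj.mul_eq_mul, MonObj.comp_mul]

variable {k : Type u} [Field k] [IsAlgClosed k]

/-- A morphism from a connected proper reduced scheme to an affine scheme is constant. -/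
lemma const_of_proper_affine {Y Q : Over (Spec (CommRingCat.of k))} [IsProper Y.hom] [IsAffine Q.left]
    [LocallyOfFiniteType Q.hom] [ConnectedSpace Y.left] (f : Y ⟶ Q) (y z : Pt Y) :
    y ≫ f = z ≫ f := by
  have : IsAffineHom Q.hom := isAffineHom_of_isAffine _
  have : IsSeparated Q.hom := inferInstance
  have : IsProper (f.left ≫ Q.hom) := by rw [Over.w f]; infer_instance
  have : IsProper f.left := IsProper.of_comp f.left Q.hom
  have : Surjective f.left.toImage := by
    refine ⟨Set.range_eq_univ.mp ?_⟩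
    have hd : DenseRange f.left.toImage := f.left.toImage.denseRange
    have : UniversallyClosed f.left.toImage := by
      have : UniversallyClosed (f.left.toImage ≫ f.left.imageι) := by
        rw [Scheme.Hom.toImage_imageι]; infer_instance
      exact UniversallyClosed.of_comp_of_isSeparated f.left.toImage f.left.imageι
    exact (hd.closure_range ▸ (f.left.toImage.isClosedMap.isClosed_range.closure_eq).symm)
  have : UniversallyClosed (f.left.imageι ≫ Q.hom) := by
    have : UniversallyClosed (f.left.toImage ≫ f.left.imageι ≫ Q.hom) := by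
      rw [Scheme.Hom.toImage_imageι_assoc, Over.w f]; infer_instance
    exact UniversallyClosed.of_comp_surjective f.left.toImage _
  have : IsProper (f.left.imageι ≫ Q.hom) := {}
  have : IsFinite (f.left.imageι ≫ Q.hom) := IsFinite.iff_isProper_and_isAffineHom.mpr ⟨‹_›, inferInstance⟩
  have hfin : Finite f.left.image := by
    exact Set.finite_univ_iff.mp ((IsFinite.finite_preimage_singleton (f.left.imageι ≫ Q.hom)
      (IsLocalRing.closedPoint k)).subset fun x _ => Subsingleton.elim (α := Spec (CommRingCat.of k)) _ _)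
  have : DiscreteTopology f.left.image := by
    have : LocallyQuasiFinite (f.left.imageι ≫ Q.hom) := inferInstance
    have : JacobsonSpace f.left.image := LocallyOfFiniteType.jacobsonSpace (f.left.imageι ≫ Q.hom)
    infer_instance
  have hconn : PreconnectedSpace f.left.image := ⟨by
    rw [← f.left.toImage.surjective.range_eq]; exact isPreconnected_range f.left.toImage.continuous⟩
  have hss : Subsingleton f.left.image := PreconnectedSpace.trivial_of_discrete
  have hpt : pt (y ≫ f) = pt (z ≫ f) := by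
    show f.left (pt y) = f.left (pt z)
    rw [← Scheme.Hom.toImage_imageι f.left, Scheme.Hom.comp_apply, Scheme.Hom.comp_apply,
      Subsingleton.elim (f.left.toImage (pt y)) (f.left.toImage (pt z))]
  refine Over.OverMorphism.ext (ext_of_apply_closedPoint_eq Q.hom (Over.w (y ≫ f)) (Over.w (z ≫ f)) hpt)

variable {G : Over (Spec (CommRingCat.of k))} [GrpObj G] [IsAffine G.left] [Smooth G.hom]

omit [IsAlgClosed k] in
lemma qc_G (G : Over (Spec (CommRingCat.of k))) [IsAffine G.left] : QuasiCompact G.hom := by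
  have : IsAffineHom G.hom := isAffineHom_of_isAffine _
  infer_instance

/-- Borel's fixed point theorem, for a group of rational points. -/
theorem exists_fixed {X : Over (Spec (CommRingCat.of k))} [IsProper X.hom] [Nonempty X.left]
    (a : AlgGrp.Action G X) (n : ℕ) :
    ∀ (S : Subgroup (Pt G)), (fun T : Subgroup (Pt G) => ⁅T, T⁆)^[n] S = ⊥ →
      _root_.IsPreconnected (closure (pts S)) → ∃ x : Pt X, ∀ s ∈ S, smul a s x = x := by
  have := qc_G G
  induction n with
  | zero =>
    intro S hS _
    obtain ⟨x⟩ := nonempty_pt (Y := X)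
    refine ⟨x, fun s hs => ?_⟩
    have : s ∈ (⊥ : Subgroup (Pt G)) := by rw [← hS]; exact hs
    rw [Subgroup.mem_bot.mp this, one_smul']
  | succ n ih =>
    intro S hS hconn
    obtain ⟨x₀, hx₀⟩ := ih ⁅S, S⁆ (by rw [← hS, Function.iterate_succ_apply]) (isPreconnected_commutator S hconn)
    obtain ⟨H, _, iH, _, _, _, _, hH, hHS⟩ := exists_closure S
    obtain ⟨N, _, iN, _, _, _, _, hN, -⟩ := exists_closure ⁅S, S⁆
    have : IsReduced H.left := GrpScheme.HomFlat.isReduced_of_smooth H.hom
    have : IsReduced N.left := GrpScheme.HomFlat.isReduced_of_smooth N.hom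
    have : Smooth (H ⊗ H).hom := inferInstanceAs (Smooth (pullback.fst H.hom H.hom ≫ H.hom))
    have : IsReduced (H ⊗ H).left := GrpScheme.HomFlat.isReduced_of_smooth (H ⊗ H).hom
    have : Mono iN := Over.mono_of_mono_left iN
    have : Mono iH := Over.mono_of_mono_left iH
    -- `N ≤ H`
    obtain ⟨l, hl⟩ := factor_of_points iN iH fun w => by
      rw [hH]
      refine closure_mono ?_ (hN ▸ mem_range_of_factor rfl)
      rintro _ ⟨d, hd, rfl⟩
      exact ⟨d, Subgroup.commutator_le.2 (fun a ha b hb => by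
        simp only [commutatorElement_def]
        exact mul_mem (mul_mem (mul_mem ha hb) (inv_mem ha)) (inv_mem hb)) hd, rfl⟩
    -- commutators in `H` lie in `N`
    obtain ⟨c, hc⟩ := factor_of_points ⁅fst H H ≫ iH, snd H H ≫ iH⁆ iN fun w => by
      have e : w ≫ ⁅fst H H ≫ iH, snd H H ≫ iH⁆ = ⁅(w ≫ fst H H) ≫ iH, (w ≫ snd H H) ≫ iH⁆ := by
        simp only [commutatorElement_def, MonObj.comp_mul, GrpObj.comp_inv, Category.assoc]
      rw [hN, e]
      exact commutator_mem_closure S (hH ▸ mem_range_of_factor rfl) (hH ▸ mem_range_of_factor rfl)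
    have hcomm : ∀ {T : Over (Spec (CommRingCat.of k))} (h h' : T ⟶ H),
        ∃ z : T ⟶ N, z ≫ iN = ⁅h ≫ iH, h' ≫ iH⁆ := fun h h' => ⟨lift h h' ≫ c, by
      rw [Category.assoc, hc]
      simp only [commutatorElement_def, MonObj.comp_mul, GrpObj.comp_inv, lift_fst_assoc, lift_snd_assoc]⟩
    -- the fixed scheme of `N`
    have : QuasiCompact X.hom := inferInstance
    obtain ⟨Z, incl, hincl, hZ⟩ := S7978.result k N X (restrict a iN)
    have := hincl
    have : Mono incl := Over.mono_of_mono_left incl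
    have hZ' : ∀ {T : Over (Spec (CommRingCat.of k))} (f : T ⟶ X),
        (∀ (T' : Over (Spec (CommRingCat.of k))) (t : T' ⟶ T) (g : T' ⟶ N),
          smul a (g ≫ iN) (t ≫ f) = t ≫ f) ↔ ∃ f' : T ⟶ Z, f' ≫ incl = f := fun {T} f => by
      rw [← hZ T f]
      refine forall₃_congr fun T' t g => ?_
      rw [← smul_restrict]
      rfl
    obtain ⟨z₀, -⟩ := (hZ' x₀).1 fun T' t g => by
      rw [toUnit_unique t (toUnit T')]
      exact fix_of_dense a ⁅S, S⁆ x₀ hx₀ iN hN.le g
    have : Nonempty Z.left := ⟨pt z₀⟩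
    have : IsProper Z.hom := by rw [← Over.w incl]; infer_instance
    -- `H` acts on it
    obtain ⟨b, hb⟩ := exists_action_of_mono (restrict a iH) incl fun T h z => by
      refine (hZ' _).1 fun T' t g => ?_
      rw [smul_restrict, comp_smul, ← mul_smul', ← Category.assoc t h]
      obtain ⟨g', hg'⟩ := hcomm (t ≫ h)⁻¹ (g ≫ l)
      have key : (g ≫ iN) * ((t ≫ h) ≫ iH) = ((t ≫ h) ≫ iH) * ((g' * g) ≫ iN) := by
        rw [MonObj.mul_comp, hg', GrpObj.inv_comp, Category.assoc g l iH, hl, commutatorElement_def,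
          _root_.inv_inv]
        group
      have e := (hZ' ((t ≫ z) ≫ incl)).2 ⟨_, rfl⟩ T' (𝟙 T') (g' * g)
      rw [Category.id_comp] at e
      rw [key, mul_smul', ← Category.assoc t z, e]
    obtain ⟨z, hzc⟩ := S14586.result k H Z b
    -- the stabiliser of `z` is normal
    let K := pullback (b.orbitMap z) z
    let iK : K ⟶ H := pullback.fst _ _
    have := isClosedImmersion_pt z
    have hKc : IsClosedImmersion iK.left :=
      MorphismProperty.of_isPullback
        (GrpdLib.GrpOver.isPullback_left (IsPullback.of_hasPullback (b.orbitMap z) z)).flip this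
    have : Mono iK := Over.mono_of_mono_left iK
    have hK : ∀ {T : Over (Spec (CommRingCat.of k))} (h : T ⟶ H),
        (∃ w : T ⟶ K, w ≫ iK = h) ↔ smul b h (toUnit T ≫ z) = toUnit T ≫ z := fun {T} h => by
      rw [← GrpdLib.OrbitQuot.comp_orbitMap]
      refine ⟨fun ⟨w, hw⟩ => ?_, fun e => ⟨pullback.lift h (toUnit T) e, pullback.lift_fst _ _ _⟩⟩
      rw [← hw, Category.assoc, pullback.condition, ← Category.assoc]
      rw [toUnit_unique (w ≫ _) (toUnit T)]
    have hNK : ∀ {T : Over (Spec (CommRingCat.of k))} (g : T ⟶ N),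
        smul b (g ≫ l) (toUnit T ≫ z) = toUnit T ≫ z := fun {T} g => by
      rw [← cancel_mono incl, hb, smul_restrict, Category.assoc g, hl, Category.assoc (toUnit T)]
      exact (hZ' (z ≫ incl)).2 ⟨_, rfl⟩ T (toUnit T) g
    obtain ⟨_, hKh⟩ := GrpScheme.SubgroupObj.exists_grpObj iK
      (by
        obtain ⟨m, hm⟩ := (hK ((fst K K ≫ iK) * (snd K K ≫ iK))).2 (by
          rw [mul_smul', (hK _).1 ⟨snd K K, rfl⟩, (hK _).1 ⟨fst K K, rfl⟩])
        refine ⟨m, hm.trans ?_⟩
        rw [Hom.mul_def]
        congr 1)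
      (by
        obtain ⟨o, ho⟩ := (hK (1 : 𝟙_ _ ⟶ H)).2 (one_smul' _ _)
        exact ⟨o, ho.trans (by rw [Hom.one_def, toUnit_unique (toUnit _) (𝟙 _), Category.id_comp])⟩)
      (by
        obtain ⟨j, hj⟩ := (hK iK⁻¹).2 (by
          conv_lhs => rw [← (hK iK).1 ⟨𝟙 K, Category.id_comp _⟩]
          rw [← mul_smul', inv_mul_cancel, one_smul'])
        exact ⟨j, hj.trans (by rw [Hom.inv_def])⟩)
    have hnorm : AlgGrp.IsNormalHom iK := fun T h κ => by
      obtain ⟨g', hg'⟩ := hcomm h (κ ≫ iK)
      have e : h * (κ ≫ iK) * h⁻¹ = (g' ≫ l) * (κ ≫ iK) := by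
        rw [← cancel_mono iH]
        simp only [MonObj.mul_comp, GrpObj.inv_comp, Category.assoc, hl, hg', commutatorElement_def,
          inv_mul_cancel_right]
      obtain ⟨w, hw⟩ := (hK (h * (κ ≫ iK) * h⁻¹)).2 (by
        rw [e, mul_smul', (hK _).1 ⟨κ, rfl⟩, hNK])
      exact ⟨w, hw.symm⟩
    have : IsAffine H.left := isAffine_of_isAffineHom iH.left
    obtain ⟨Q, _, q, _, _, _, -, -, hq⟩ := S3278.result k H K iK hnorm
    -- the orbit is a point
    obtain ⟨Y, bY, y, f, hY, -, hyf, hyorb, hf⟩ :=
      GrpQuot50.Orbit.exists_quotient_orbit b z iK (by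
        have e := IsPullback.of_hasPullback (b.orbitMap z) z
        rwa [toUnit_unique (pullback.snd (b.orbitMap z) z) (toUnit K)] at e)
    have := hY.1
    have : Surjective (bY.orbitMap y).left := hY.2.2.1
    have hYc : AGFQuot.Basic.IsCover (bY.orbitMap y) :=
      ⟨hY.2.2.1, hY.2.1, GrpdLib.GrpOver.lfp_left _⟩
    have hrange : Set.range f.left = Set.range (b.orbitMap z).left := by
      rw [← hyorb, Over.comp_left, Scheme.Hom.comp_base, TopCat.coe_comp,
        (bY.orbitMap y).left.surjective.range_comp]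
    have : IsClosedImmersion f.left :=
      have := hf
      IsClosedImmersion.of_isPreimmersion f.left (hrange ▸ hzc)
    have : IsProper Y.hom := by rw [← Over.w f]; infer_instance
    have : ConnectedSpace H.left := by
      have : Nonempty H.left := ⟨pt (1 : Pt H)⟩
      refine { toPreconnectedSpace := ⟨?_⟩, toNonempty := this }
      rw [iH.left.isClosedEmbedding.isInducing.isPreconnected_image.symm, Set.image_univ, hH]
      exact hconn
    have : ConnectedSpace Y.left :=
      (bY.orbitMap y).left.surjective.connectedSpace (bY.orbitMap y).left.continuous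
    obtain ⟨φ, hφ, -⟩ := AGFQuot.Basic.existsUnique_desc hYc hY.2.2.2 q fun T g t => by
      have e2 : (t ≫ iK) ≫ q = 1 := by
        rw [Category.assoc, hq.w, Hom.one_def, ← Category.assoc, toUnit_unique (t ≫ toUnit K) (toUnit T)]
      rw [MonObj.mul_comp, e2, _root_.mul_one]
    refine ⟨z ≫ incl, fun s hs => ?_⟩
    obtain ⟨h, rfl⟩ := hHS s hs
    have e := const_of_proper_affine φ (h ≫ bY.orbitMap y) ((1 : Pt H) ≫ bY.orbitMap y)
    rw [Category.assoc, hφ, Category.assoc, hφ, MonObj.one_comp, Hom.one_def] at e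
    obtain ⟨w, hw⟩ : ∃ w : 𝟙_ _ ⟶ K, w ≫ iK = h :=
      ⟨hq.lift h (toUnit _) e, hq.lift_fst _ _ _⟩
    have e' := (hK h).1 ⟨w, hw⟩
    rw [toUnit_unique (toUnit (𝟙_ _)) (𝟙 _), Category.id_comp] at e'
    rw [← smul_restrict, ← hb, e']

end Groth.Agent.Borel50.FixedPt

namespace Groth.Agent.Borel50.FixedPt

open Groth.Agent.GrpScheme.Basic (smul comp_smul one_smul' mul_smul')
open Groth.Agent.Borel50.Pts

variable {k : Type u} [Field k]

lemma iterate_commutator {Γ : Type*} [Group Γ] (n : ℕ) :
    (fun T : Subgroup Γ => ⁅T, T⁆)^[n] ⊤ = derivedSeries Γ n := by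
  induction n with
  | zero => rfl
  | succ n ih => rw [Function.iterate_succ_apply', ih, derivedSeries_succ]

/-- The rational points of a connected group are dense. -/
lemma closure_pts_top [IsAlgClosed k] (G : Over (Spec (CommRingCat.of k))) [GrpObj G]
    [LocallyOfFiniteType G.hom] : closure (pts (⊤ : Subgroup (Pt G))) = Set.univ := by
  have : JacobsonSpace G.left := LocallyOfFiniteType.jacobsonSpace G.hom
  refine Set.univ_subset_iff.mp ?_
  rw [← closure_closedPoints]
  refine closure_mono fun x hx => ?_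
  obtain ⟨p, hp⟩ := exists_pt hx
  exact ⟨p, trivial, hp⟩

/-- Borel's fixed point theorem. -/
theorem exists_fixedPt [IsAlgClosed k] (G X : Over (Spec (CommRingCat.of k))) [GrpObj G] [IsAffine G.left]
    [Smooth G.hom] [ConnectedSpace G.left] (hsolv : ∃ n, derivedSeries (Pt G) n = ⊥)
    [IsProper X.hom] [Nonempty X.left] (a : AlgGrp.Action G X) : ∃ x : Pt X, a.IsFixedPt x := by
  obtain ⟨n, hn⟩ := hsolv
  obtain ⟨x, hx⟩ := exists_fixed a n ⊤ (by rw [iterate_commutator, hn])
    (by rw [closure_pts_top]; exact isPreconnected_univ)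
  have := GrpScheme.HomFlat.isReduced_of_smooth G.hom
  refine ⟨x, fun T g => ?_⟩
  have e := fix_of_dense a ⊤ x hx (𝟙 G) (by rw [closure_pts_top]; exact Set.subset_univ _) g
  rwa [Category.comp_id] at e

end Groth.Agent.Borel50.FixedPt
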