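import Groth.Agent.Borel50.OverField
import Groth.Agent.Borel50.Cartan

/-!
# Maximal tori over an arbitrary field
-/

set_option autoImplicit false
universe u

open CategoryTheory MonoidalCategory CartesianMonoidalCategory MonObj GrpObj AlgebraicGeometry Limits

noncomputable section

namespace Groth.Agent.Borel50.GeomTorus

open Groth.Agent.Borel50.Pts Groth.Agent.Borel50.Lin Groth.Agent.Borel50.Density

attribute [local instance] ptTop

variable {k : Type u} [Field k]

/-- The closed point of the spectrum of a field. -/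
abbrev cp (k : Type u) [Field k] : Spec (CommRingCat.of k) := IsLocalRing.closedPoint k

/-- The geometric point. -/
abbrev gp (k : Type u) [Field k] := Red.geomPt (cp k)

/-- A maximal torus gives a maximal torus over the algebraic closure. -/
theorem isMaxTorus_bc {G T : Over (Spec (CommRingCat.of k))} [GrpObj G] [GrpObj T] (iT : T ⟶ G)
    (hT : Red.IsMaximalTorus iT) : AGF.IsMaxTorus ((Over.pullback (gp k)).map iT) := by
  have := hT.1
  have := hT.2.1
  exact ⟨DiagRig.isMonHom_bcMap (gp k) iT, inferInstance,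
    AbSch51.TorusToProper.isTorus_bc (gp k) hT.2.2.1, fun T' _ j _ _ f h1 h2 => hT.2.2.2 (cp k) T' j f h1 h2⟩

section Closed

variable {K : Type u} [Field K] [IsAlgClosed K] {G C : Over (Spec (CommRingCat.of K))} [GrpObj G] [GrpObj C]

/-- A closed subgroup with preconnected rational points is connected. -/
theorem connectedSpace_of_range [IsAffine G.left] [Smooth G.hom] (c : C ⟶ G) [IsMonHom c] [IsClosedImmersion c.left]
    (h : _root_.IsPreconnected ((ptHom c).range : Set (Pt G))) : ConnectedSpace C.left := by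
  have := FixedPt.qc_G G
  have : LocallyOfFiniteType C.hom := by rw [← Over.w c]; infer_instance
  have : JacobsonSpace C.left := LocallyOfFiniteType.jacobsonSpace C.hom
  have e : Set.range c.left = closure (pt '' ((ptHom c).range : Set (Pt G))) := by
    refine Set.Subset.antisymm ?_ (closure_minimal ?_ c.left.isClosedEmbedding.isClosed_range)
    · rintro _ ⟨z, rfl⟩
      have hz : z ∈ closure (closedPoints C.left) := by rw [closure_closedPoints]; trivial
      refine map_mem_closure c.left.continuous hz fun y hy => ?_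
      obtain ⟨w, rfl⟩ := exists_pt hy
      exact ⟨w ≫ c, ⟨w, rfl⟩, rfl⟩
    · rintro _ ⟨_, ⟨w, rfl⟩, rfl⟩
      exact mem_range_of_factor rfl
  exact { toPreconnectedSpace := ⟨by
            refine c.left.isClosedEmbedding.isInducing.isPreconnected_image.1 ?_
            rw [Set.image_univ, e]
            exact (h.image _ continuous_induced_dom.continuousOn).closure⟩
          toNonempty := ⟨pt (1 : Pt C)⟩ }

end Closed

variable {G T C : Over (Spec (CommRingCat.of k))} [GrpObj G] [GrpObj T] [GrpObj C] [IsAffine G.left] [Smooth G.hom]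
  [ConnectedSpace G.left]

/-- The geometric points of the centraliser of a torus. -/
theorem centralizer_facts (iT : T ⟶ G) [IsMonHom iT] (hT : Red.IsTorus T) (c : C ⟶ G)
    (hc : Red.IsCentralizerOf iT c) :
    ∃ (_ : IsMonHom ((Over.pullback (gp k)).map c)) (_ : IsMonHom ((Over.pullback (gp k)).map iT)),
      IsClosedImmersion ((Over.pullback (gp k)).map c).left ∧ Smooth (Red.bc (gp k) C).hom ∧
      Red.IsTorus (Red.bc (gp k) T) ∧
      (ptHom ((Over.pullback (gp k)).map c)).range =
        Subgroup.centralizer ((ptHom ((Over.pullback (gp k)).map iT)).range : Set (Pt (Red.bc (gp k) G))) := by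
  have := hc.1
  obtain ⟨hs, hcl⟩ := OverField.smooth_centralizer iT hT c hc
  obtain ⟨_, _, _⟩ := OverField.facts_bc (gp k) G
  have hm := DiagRig.isMonHom_bcMap (gp k) c
  have hm' := DiagRig.isMonHom_bcMap (gp k) iT
  refine ⟨hm, hm', LimGrp.property_map @IsClosedImmersion (gp k) c hcl, ?_,
    AbSch51.TorusToProper.isTorus_bc (gp k) hT, ?_⟩
  · have := hs
    exact inferInstanceAs (Smooth (pullback.snd C.hom (gp k)))
  · exact Centralizer.range_eq_centralizer _ (AbSch51.TorusToProper.isTorus_bc (gp k) hT) _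
      (OverField.isCentralizerOf_bc (gp k) iT c hc)

/-- The centraliser of a torus is connected. -/
theorem connectedSpace_centralizer (iT : T ⟶ G) [IsMonHom iT] [Mono iT] (hT : Red.IsTorus T) (c : C ⟶ G)
    (hc : Red.IsCentralizerOf iT c) :
    ConnectedSpace C.left ∧ ConnectedSpace (Red.bc (gp k) C).left := by
  obtain ⟨_, _, _, _, hT', hr⟩ := centralizer_facts iT hT c hc
  obtain ⟨_, _, _⟩ := OverField.facts_bc (gp k) G
  have := FixedPt.qc_G (Red.bc (gp k) G)
  have := GrpScheme.HomFlat.isReduced_of_smooth (Red.bc (gp k) G).hom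
  obtain ⟨N, ⟨Φ⟩⟩ := exists_rep (G := Red.bc (gp k) G)
  have h1 := Torus.isToral_range Φ ((Over.pullback (gp k)).map iT) hT'
  have h : ConnectedSpace (Red.bc (gp k) C).left :=
    connectedSpace_of_range ((Over.pullback (gp k)).map c) (by
      rw [hr, Centralizer.centralizer_eq Φ h1]; exact Φ.isPreconnected_centralizerComp _)
  have := BaseChange.surjective_g (gp k)
  exact ⟨FlatMor.GeomDescent.connectedSpace_of_surjective (pullback.fst C.hom (gp k)) h, h⟩

/-- Cartan subgroups are nilpotent. -/
theorem isNilpotentGrp_centralizer (iT : T ⟶ G) (hT : Red.IsMaximalTorus iT) (c : C ⟶ G)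
    (hc : Red.IsCentralizerOf iT c) : AGF.IsNilpotentGrp C := by
  have := hT.1
  have := hT.2.1
  obtain ⟨_, hm', hcl, hsm, hT', hr⟩ := centralizer_facts iT hT.2.2.1 c hc
  obtain ⟨_, _, _⟩ := OverField.facts_bc (gp k) G
  obtain ⟨-, hconn⟩ := connectedSpace_centralizer iT hT.2.2.1 c hc
  have := FixedPt.qc_G (Red.bc (gp k) G)
  have := GrpScheme.HomFlat.isReduced_of_smooth (Red.bc (gp k) G).hom
  obtain ⟨N, ⟨Φ⟩⟩ := exists_rep (G := Red.bc (gp k) G)
  obtain ⟨h1, h2⟩ := Torus.maximal_range Φ (isMaxTorus_bc iT hT)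
  have : IsAffine (Red.bc (gp k) C).left := isAffine_of_isAffineHom ((Over.pullback (gp k)).map c).left
  have hnil : Group.IsNilpotent (Pt (Red.bc (gp k) C)) := by
    have : Group.IsNilpotent (ptHom ((Over.pullback (gp k)).map c)).range := by
      rw [hr, Centralizer.centralizer_eq Φ h1]
      exact (cartan Φ h1 h2).1
    exact Group.nilpotent_of_mulEquiv
      (MonoidHom.ofInjective (ptHom_injective ((Over.pullback (gp k)).map c))).symm
  obtain ⟨n, hn⟩ := Cartan.isNilpotentGrp_of_points hnil
  refine ⟨n, fun X => ?_⟩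
  let f : (X ⟶ C) →* (Red.bc (gp k) X ⟶ Red.bc (gp k) C) :=
    MonoidHom.mk' (fun a => (Over.pullback (gp k)).map a) fun a b => Functor.map_mul _ a b
  rw [← Subgroup.lowerCentralSeries_eq_bot_iff_upperCentralSeries_eq_top, eq_bot_iff]
  intro a ha
  have h : f a ∈ (⊤ : Subgroup (Red.bc (gp k) X ⟶ Red.bc (gp k) C)).lowerCentralSeries n := by
    have := Subgroup.mem_map_of_mem f ha
    rw [Subgroup.map_lowerCentralSeries] at this
    exact Subgroup.lowerCentralSeries_mono n le_top this
  rw [Subgroup.lowerCentralSeries_eq_bot_iff_upperCentralSeries_eq_top.2 (hn _), Subgroup.mem_bot] at h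
  exact Subgroup.mem_bot.2 (OverField.map_injective (gp k) (h.trans (map_one f).symm))

/-- The centraliser of a maximal torus lies in the Borel subgroups containing the torus. -/
theorem centralizer_le_borel {B : Over (Spec (CommRingCat.of k))} [GrpObj B] (iT : T ⟶ G)
    (hT : Red.IsMaximalTorus iT) (c : C ⟶ G) (hc : Red.IsCentralizerOf iT c) (iB : B ⟶ G)
    (hB : Red.IsBorel iB) (t : T ⟶ B) (ht : t ≫ iB = iT) : ∃ f : C ⟶ B, f ≫ iB = c := by
  have := hT.1
  have := hT.2.1
  have := hB.1
  have := hB.2.1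
  have : Mono iB := Over.mono_of_mono_left iB
  obtain ⟨_, _, hcl, hsm, hT', hr⟩ := centralizer_facts iT hT.2.2.1 c hc
  obtain ⟨_, _, _⟩ := OverField.facts_bc (gp k) G
  have hB' := hB.2.2.2 (cp k)
  have := hB'.1
  have := hB'.2.1
  have := FixedPt.qc_G (Red.bc (gp k) G)
  have := GrpScheme.HomFlat.isReduced_of_smooth (Red.bc (gp k) G).hom
  have := GrpScheme.HomFlat.isReduced_of_smooth (Red.bc (gp k) C).hom
  have : LocallyOfFiniteType (Red.bc (gp k) C).hom := inferInstance
  obtain ⟨N, ⟨Φ⟩⟩ := exists_rep (G := Red.bc (gp k) G)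
  obtain ⟨h1, h2⟩ := Torus.maximal_range Φ (isMaxTorus_bc iT hT)
  have hle := TorusBorel.centralizer_le ((Over.pullback (gp k)).map iB) hB' h1 h2 (by
    rintro _ ⟨z, rfl⟩
    exact ⟨z ≫ (Over.pullback (gp k)).map t, show (z ≫ (Over.pullback (gp k)).map t) ≫ (Over.pullback (gp k)).map iB =
      z ≫ (Over.pullback (gp k)).map iT by rw [Category.assoc, ← Functor.map_comp, ht]⟩)
  refine OverField.exists_factor (gp k) c iB ?_
  exact Pts.factor_of_points ((Over.pullback (gp k)).map c) ((Over.pullback (gp k)).map iB) fun w => by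
    obtain ⟨b, hb⟩ := hle (x := w ≫ (Over.pullback (gp k)).map c) (by rw [← hr]; exact ⟨w, rfl⟩)
    exact mem_range_of_factor hb

end Groth.Agent.Borel50.GeomTorus
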