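import Groth.Agent.Borel50.UnipBorel

/-!
# The normal subgroup generated by a normal solvable subgroup of a normal subgroup
-/

set_option autoImplicit false
universe u

open CategoryTheory MonoidalCategory CartesianMonoidalCategory MonObj GrpObj AlgebraicGeometry Limits

noncomputable section

namespace Groth.Agent.Borel50.NormalClosure

open Groth.Agent.Borel50.Pts Groth.Agent.Borel50.Lin Groth.Agent.Borel50.Density Groth.Agent.Borel50.Lin.Rep

attribute [local instance] ptTop

variable {k : Type u} [Field k] [IsAlgClosed k] {G : Over (Spec (CommRingCat.of k))} [GrpObj G] [IsAffine G.left]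
  [Smooth G.hom]

/-- A subgroup stable under conjugation by rational points is normal. -/
theorem isNormalHom_of_points {K : Over (Spec (CommRingCat.of k))} [GrpObj K] [Smooth K.hom] (i : K ⟶ G)
    [IsMonHom i] [IsClosedImmersion i.left]
    (h : ∀ g : Pt G, ∀ x ∈ (ptHom i).range, g * x * g⁻¹ ∈ (ptHom i).range) : AlgGrp.IsNormalHom i := by
  have := FixedPt.qc_G G
  have : IsSeparated G.hom := GrpScheme.IdComponent.isSeparated G
  have : Smooth (G ⊗ K).hom := inferInstanceAs (Smooth (pullback.fst G.hom K.hom ≫ G.hom))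
  have : IsReduced (G ⊗ K).left := GrpScheme.HomFlat.isReduced_of_smooth (G ⊗ K).hom
  obtain ⟨l, hl⟩ := factor_of_points (fst G K * (snd G K ≫ i) * (fst G K)⁻¹) i fun w => by
    obtain ⟨y, hy⟩ := h (w ≫ fst G K) _ ⟨w ≫ snd G K, rfl⟩
    refine mem_range_of_factor (z := y) ?_
    rw [MonObj.comp_mul, MonObj.comp_mul, GrpObj.comp_inv, ← Category.assoc]
    exact hy
  intro T g n
  refine ⟨lift g n ≫ l, ?_⟩
  rw [Category.assoc, hl, MonObj.comp_mul, MonObj.comp_mul, GrpObj.comp_inv, lift_fst, ← Category.assoc, lift_snd]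

/-- A subgroup scheme with trivial rational points is trivial. -/
theorem isTrivialGrp_of_pts {U : Over (Spec (CommRingCat.of k))} [GrpObj U] [Smooth U.hom]
    (i : U ⟶ G) [IsMonHom i] [IsClosedImmersion i.left] (h : ∀ w : Pt U, w ≫ i = 1) : Red.IsTrivialGrp U := by
  have := FixedPt.qc_G G
  have : IsAffine U.left := isAffine_of_isAffineHom i.left
  have := FixedPt.qc_G U
  have := GrpScheme.HomFlat.isReduced_of_smooth U.hom
  have : IsSeparated U.hom := GrpScheme.IdComponent.isSeparated U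
  have hone : ∀ w : Pt U, w = 1 := fun w => ptHom_injective i (by rw [map_one]; exact h w)
  have e : 𝟙 U = (1 : U ⟶ U) := Centralizer.hom_ext _ _ fun w => by
    rw [Category.comp_id, MonObj.comp_one, hone w]
  have e1 : toUnit U ≫ η[U] = 𝟙 U := by rw [e, Hom.one_def]
  exact ⟨(η[U] : 𝟙_ (Over (Spec (CommRingCat.of k))) ⟶ U).left, by
    have := congrArg CommaMorphism.left e1
    simpa using this, Over.w _⟩

/-- The image of a normal subgroup of a subgroup is stable under conjugation by that subgroup. -/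
theorem range_normalized {U N : Over (Spec (CommRingCat.of k))} [GrpObj U] [GrpObj N] (i : U ⟶ N) [IsMonHom i]
    (j : N ⟶ G) [IsMonHom j] (h : AlgGrp.IsNormalHom i) :
    ∀ g ∈ (ptHom j).range, ∀ x ∈ (ptHom (i ≫ j)).range, g * x * g⁻¹ ∈ (ptHom (i ≫ j)).range := by
  rintro _ ⟨g, rfl⟩ _ ⟨w, rfl⟩
  obtain ⟨w', hw'⟩ := h _ g w
  refine ⟨w', ?_⟩
  show w' ≫ i ≫ j = (g ≫ j) * (w ≫ i ≫ j) * (g ≫ j)⁻¹
  rw [← Category.assoc w' i j, ← hw', MonObj.mul_comp, MonObj.mul_comp, GrpObj.inv_comp, Category.assoc]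

/-- A connected solvable subgroup stable under the rational points lies in every Borel subgroup. -/
theorem solvable_le_borel [ConnectedSpace G.left] {L : Over (Spec (CommRingCat.of k))} [GrpObj L] [Smooth L.hom]
    [ConnectedSpace L.left] (iL : L ⟶ G) [IsMonHom iL] [IsClosedImmersion iL.left]
    (hsol : ∃ n, derivedSeries (Pt L) n = ⊥) (hN : ∀ g : Pt G, ∀ x ∈ (ptHom iL).range, g * x * g⁻¹ ∈ (ptHom iL).range)
    {B : Over (Spec (CommRingCat.of k))} [GrpObj B] (iB : B ⟶ G) [IsMonHom iB] (hB : Red.IsBorelOver k iB) :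
    (ptHom iL).range ≤ (ptHom iB).range := by
  have := FixedPt.qc_G G
  have := hB.2.1
  have : Mono iB := Over.mono_of_mono_left iB
  have : LocallyOfFiniteType B.hom := by rw [← Over.w iB]; infer_instance
  have : QuasiCompact B.hom := by rw [← Over.w iB]; infer_instance
  obtain ⟨X, a, o, hl, -, hf, hs, hq⟩ := S3279.result k G B iB
  have hX : AGF.IsQuotient iB X a o := ⟨hl, hf, hs, hq⟩
  have := Conj.isProper_quotient_borel iB hB hX
  obtain ⟨g, l, hl'⟩ := Conj.exists_conj_factor iL hsol hX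
  intro x hx
  obtain ⟨w, hw⟩ := hN g⁻¹ x hx
  refine ⟨w ≫ l, ?_⟩
  show (w ≫ l) ≫ iB = x
  rw [Category.assoc, hl', Conj.comp_conjBy, AGF.conjBy, toUnit_unique (toUnit (𝟙_ _)) (𝟙 _), Category.id_comp]
  change w ≫ iL = _ at hw
  rw [hw, _root_.inv_inv]
  group

omit [IsAffine G.left] [Smooth G.hom] in
/-- The unipotent elements of a connected solvable closed subgroup form a subgroup. -/
theorem exists_unipotent_subgroup {N : ℕ} (Φ : Rep k (Pt G) N) (R : Subgroup (Pt G)) (hR : IsClosed (R : Set (Pt G)))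
    (hRc : _root_.IsPreconnected (R : Set (Pt G))) {n : ℕ} (hsol : derivedSeries R n = ⊥) :
    ∃ U : Subgroup (Pt G), ∀ x, x ∈ U ↔ x ∈ R ∧ IsNilpotent (Φ.ρ x - 1) := by
  classical
  have : PreconnectedSpace R := Subtype.preconnectedSpace hRc
  obtain ⟨P, Q, hQP, hup⟩ := (Φ.restrict R hR).exists_upper hsol
  let Ψ := (Φ.restrict R hR).conj P Q hQP
  have hnil : ∀ x : R, IsNilpotent (Ψ.ρ x - 1) ↔ IsNilpotent (Φ.ρ (x : Pt G) - 1) := by
    intro x
    have hp : ∀ (A : Matrix (Fin N) (Fin N) k) (j : ℕ), (P * A * Q) ^ j = P * A ^ j * Q := fun A j => by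
      induction j with
      | zero => rw [pow_zero, pow_zero, _root_.mul_one, mul_eq_one_comm.mp hQP]
      | succ j ih =>
        rw [pow_succ, ih, pow_succ]
        simp only [_root_.mul_assoc]
        rw [← _root_.mul_assoc Q P, hQP, _root_.one_mul]
    have e : Ψ.ρ x - 1 = P * (Φ.ρ (x : Pt G) - 1) * Q := by
      rw [mul_sub, sub_mul, _root_.mul_one, mul_eq_one_comm.mp hQP]
      rfl
    rw [e]
    constructor
    · rintro ⟨m, hm⟩
      refine ⟨m, ?_⟩
      rw [hp] at hm
      calc (Φ.ρ (x : Pt G) - 1) ^ m = (Q * P) * (Φ.ρ (x : Pt G) - 1) ^ m * (Q * P) := by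
            rw [hQP, _root_.one_mul, _root_.mul_one]
        _ = Q * (P * (Φ.ρ (x : Pt G) - 1) ^ m * Q) * P := by simp only [_root_.mul_assoc]
        _ = 0 := by rw [hm, mul_zero, zero_mul]
    · rintro ⟨m, hm⟩
      exact ⟨m, by rw [hp, hm, mul_zero, zero_mul]⟩
  refine ⟨(Ψ.unipotent hup 1).map R.subtype, fun x => ⟨?_, fun ⟨hx, hxn⟩ =>
    ⟨⟨x, hx⟩, (Ψ.mem_unipotent_iff_isNilpotent hup).2 ((hnil ⟨x, hx⟩).2 hxn), rfl⟩⟩⟩
  rintro ⟨y, hy, rfl⟩
  exact ⟨y.2, (hnil y).1 ((Ψ.mem_unipotent_iff_isNilpotent hup).1 hy)⟩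

/-- Solvability passes to subgroups. -/
theorem derivedSeries_eq_bot_of_le {Γ : Type*} [Group Γ] {W R : Subgroup Γ} (h : W ≤ R) {m : ℕ}
    (hR : derivedSeries R m = ⊥) : derivedSeries W m = ⊥ := by
  have h1 := map_derivedSeries_le_derivedSeries (Subgroup.inclusion h) m
  rw [hR] at h1
  exact (Subgroup.map_eq_bot_iff_of_injective _ (Subgroup.inclusion_injective h)).1 (le_bot_iff.1 h1)

/-- The normal subgroup generated by a connected solvable normal subgroup of a normal subgroup. -/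
theorem exists_normal {N : ℕ} (Φ : Rep k (Pt G) N) (M : Subgroup (Pt G)) (hM : IsClosed (M : Set (Pt G)))
    (hMN : ∀ g : Pt G, ∀ x ∈ M, g * x * g⁻¹ ∈ M) (U : Subgroup (Pt G)) (hU : IsClosed (U : Set (Pt G)))
    (hUc : _root_.IsPreconnected (U : Set (Pt G))) (hUM : U ≤ M) (hUN : ∀ g ∈ M, ∀ x ∈ U, g * x * g⁻¹ ∈ U)
    {n : ℕ} (hsol : derivedSeries U n = ⊥) :
    ∃ (W : Subgroup (Pt G)) (m : ℕ), IsClosed (W : Set (Pt G)) ∧ _root_.IsPreconnected (W : Set (Pt G)) ∧ U ≤ W ∧
      (∀ g : Pt G, ∀ x ∈ W, g * x * g⁻¹ ∈ W) ∧ derivedSeries W m = ⊥ ∧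
      ((∀ x ∈ U, IsNilpotent (Φ.ρ x - 1)) → ∀ x ∈ W, IsNilpotent (Φ.ρ x - 1)) := by
  classical
  have := FixedPt.qc_G G
  let ΦM := Φ.restrict M hM
  let M₀ : Subgroup (Pt G) := ΦM.identityComponent.map M.subtype
  have hM₀M : M₀ ≤ M := Subgroup.map_subtype_le _
  obtain ⟨K, _, iK, _, _, _, _, hmem, hconn⟩ := exists_sub M₀ (isClosed_map_subtype hM ΦM.isClosed_identityComponent)
  have := hconn (isPreconnected_map_subtype isPreconnected_connectedComponent)
  have : IsAffine K.left := isAffine_of_isAffineHom iK.left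
  have : Mono iK := Over.mono_of_mono_left iK
  obtain ⟨B, _, iB, hB⟩ := Conj.exists_borel K
  have := hB.1
  have := hB.2.1
  have := hB.2.2.2.1
  have : LocallyOfFiniteType B.hom := by rw [← Over.w iB]; infer_instance
  obtain ⟨m, hm⟩ := Solvable.points_of_isSolvableGrp hB.2.2.2.2.1
  have : IsClosedImmersion (iB ≫ iK).left := by rw [Over.comp_left]; infer_instance
  set R := (ptHom (iB ≫ iK)).range with hRdef
  have hR : IsClosed (R : Set (Pt G)) := Density.isClosed_range (iB ≫ iK)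
  have hRc : _root_.IsPreconnected (R : Set (Pt G)) := Density.isPreconnected_range (iB ≫ iK)
  have hRsol : derivedSeries R m = ⊥ := by
    rw [eq_bot_iff, ← map_derivedSeries_eq (MonoidHom.rangeRestrict_surjective (ptHom (iB ≫ iK))) m, hm,
      Subgroup.map_bot]
  have key : ∀ g : Pt G, U.map (MulAut.conj g).toMonoidHom ≤ R := fun g => by
    set V := U.map (MulAut.conj g).toMonoidHom
    have hVeq : (V : Set (Pt G)) = (fun x => g⁻¹ * x * g) ⁻¹' (U : Set (Pt G)) := by
      ext x
      constructor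
      · rintro ⟨w, hw, rfl⟩
        simpa [_root_.mul_assoc] using hw
      · intro hx
        exact ⟨_, hx, by simp [_root_.mul_assoc]⟩
    have hV : IsClosed (V : Set (Pt G)) := by
      rw [hVeq]
      exact hU.preimage ((Φ.continuous_mul_right g).comp (Φ.good.left g⁻¹))
    have hVc : _root_.IsPreconnected (V : Set (Pt G)) :=
      hUc.image _ ((Φ.continuous_mul_right g⁻¹).comp (Φ.good.left g)).continuousOn
    have hVM : V ≤ M := by rintro _ ⟨w, hw, rfl⟩; exact hMN g w (hUM hw)
    have hVM₀ : V ≤ M₀ := by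
      have hpre : _root_.IsPreconnected ((Subtype.val : M → Pt G) ⁻¹' (V : Set (Pt G))) := by
        refine Topology.IsInducing.subtypeVal.isPreconnected_image.1 ?_
        convert hVc using 1
        exact Set.Subset.antisymm (by rintro _ ⟨z, hz, rfl⟩; exact hz) fun z hz => ⟨⟨z, hVM hz⟩, hz, rfl⟩
      intro x hx
      exact ⟨⟨x, hVM hx⟩, hpre.subset_connectedComponent (x := 1) V.one_mem hx, rfl⟩
    obtain ⟨L, _, iL₀, _, _, _, _, hmemL, hconnL⟩ := exists_sub V hV
    have := hconnL hVc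
    have : IsAffine L.left := isAffine_of_isAffineHom iL₀.left
    have := GrpScheme.HomFlat.isReduced_of_smooth L.hom
    obtain ⟨l, hl⟩ := factor_of_points iL₀ iK fun w => by
      obtain ⟨z, hz⟩ := (hmem (w ≫ iL₀)).1 (hVM₀ ((hmemL _).2 ⟨w, rfl⟩))
      exact mem_range_of_factor hz
    have : IsMonHom l :=
      { one_hom := by rw [← cancel_mono iK, Category.assoc, hl, IsMonHom.one_hom iK, IsMonHom.one_hom iL₀]
        mul_hom := by
          rw [← cancel_mono iK, Category.assoc, hl, IsMonHom.mul_hom iL₀, Category.assoc, IsMonHom.mul_hom iK,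
            tensorHom_comp_tensorHom_assoc, hl] }
    have : IsClosedImmersion l.left := by
      have h : IsClosedImmersion (l.left ≫ iK.left) := by rw [← Over.comp_left, hl]; infer_instance
      exact IsClosedImmersion.of_comp l.left iK.left
    have : Mono iL₀ := Over.mono_of_mono_left iL₀
    have hLsol : derivedSeries (Pt L) n = ⊥ := by
      let f : Pt L →* U :=
        { toFun := fun w => ⟨g⁻¹ * (w ≫ iL₀) * g, by
            have h : w ≫ iL₀ ∈ (V : Set (Pt G)) := (hmemL _).2 ⟨w, rfl⟩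
            rw [hVeq] at h
            exact h⟩
          map_one' := Subtype.ext (by simp)
          map_mul' := fun a b => Subtype.ext (by simp [MonObj.mul_comp, _root_.mul_assoc]) }
      have hf : Function.Injective f := fun a b h => by
        have h' := congrArg Subtype.val h
        exact (cancel_mono iL₀).1 (mul_left_cancel (mul_right_cancel h'))
      exact (Subgroup.map_eq_bot_iff_of_injective _ hf).1
        (le_bot_iff.1 ((map_derivedSeries_le_derivedSeries f n).trans hsol.le))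
    have hle := solvable_le_borel l ⟨n, hLsol⟩ (fun a x hx => by
      obtain ⟨w, rfl⟩ := hx
      obtain ⟨u, hu, hu'⟩ := (hmemL _).2 ⟨w, rfl⟩
      have ha : g⁻¹ * (a ≫ iK) * g ∈ M := by
        simpa using hMN g⁻¹ (a ≫ iK) (hM₀M ((hmem _).2 ⟨a, rfl⟩))
      have hin : (a ≫ iK) * (w ≫ iL₀) * (a ≫ iK)⁻¹ ∈ V := by
        refine ⟨_, hUN _ ha u hu, ?_⟩
        rw [← hu']
        simp [_root_.mul_assoc]
      obtain ⟨z, hz⟩ := (hmemL _).1 hin
      refine ⟨z, (cancel_mono iK).1 ?_⟩
      show (z ≫ l) ≫ iK = (a * (w ≫ l) * a⁻¹) ≫ iK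
      rw [Category.assoc, hl, hz, MonObj.mul_comp, MonObj.mul_comp, GrpObj.inv_comp, Category.assoc, hl]) iB hB
    intro x hx
    obtain ⟨w, rfl⟩ := (hmemL x).1 hx
    obtain ⟨b, hb⟩ := hle ⟨w, rfl⟩
    refine ⟨b, ?_⟩
    show b ≫ iB ≫ iK = w ≫ iL₀
    rw [← hl, ← Category.assoc, ← Category.assoc]
    exact congrArg (· ≫ iK) hb
  let X : Set (Pt G) := ⋃ g : Pt G, (U.map (MulAut.conj g).toMonoidHom : Set (Pt G))
  obtain ⟨W, hW⟩ := Φ.exists_closure_subgroup (Subgroup.closure X)
  have hXR : Subgroup.closure X ≤ R := (Subgroup.closure_le R).2 (Set.iUnion_subset fun g => key g)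
  have hWR : W ≤ R := fun x hx => by
    rw [← SetLike.mem_coe, hW] at hx
    exact closure_minimal (show (Subgroup.closure X : Set (Pt G)) ⊆ R from hXR) hR hx
  have hsub : (Subgroup.closure X : Set (Pt G)) ⊆ W := hW ▸ subset_closure
  refine ⟨W, m, hW ▸ isClosed_closure, ?_, fun x hx => hsub (Subgroup.subset_closure ?_), ?_, ?_, fun hn x hx => ?_⟩
  · rw [hW]
    have h1 : (1 : Pt G) ∈ X := Set.mem_iUnion.2 ⟨1, Subgroup.one_mem _⟩
    refine (LieKolchin.preconnected_closure Φ.good X ?_ h1).closure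
    exact isPreconnected_iUnion ⟨1, Set.mem_iInter.2 fun g => Subgroup.one_mem _⟩ fun g =>
      hUc.image _ ((Φ.continuous_mul_right g⁻¹).comp (Φ.good.left g)).continuousOn
  · exact Set.mem_iUnion.2 ⟨1, x, hx, by simp⟩
  · intro g x hx
    have hX : ∀ y ∈ Subgroup.closure X, g * y * g⁻¹ ∈ Subgroup.closure X := by
      have hle : (Subgroup.closure X).map (MulAut.conj g).toMonoidHom ≤ Subgroup.closure X := by
        rw [MonoidHom.map_closure, Subgroup.closure_le]
        rintro _ ⟨z, hz, rfl⟩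
        obtain ⟨g', u, hu, rfl⟩ := Set.mem_iUnion.1 hz
        exact Subgroup.subset_closure (Set.mem_iUnion.2 ⟨g * g', u, hu, by simp [_root_.mul_assoc]⟩)
      exact fun y hy => hle ⟨y, hy, rfl⟩
    rw [← SetLike.mem_coe, hW] at hx ⊢
    have hc : Continuous fun y : Pt G => g * y * g⁻¹ := (Φ.continuous_mul_right g⁻¹).comp (Φ.good.left g)
    have hst : Set.MapsTo (fun y : Pt G => g * y * g⁻¹) (Subgroup.closure X : Set (Pt G))
        (Subgroup.closure X : Set (Pt G)) := fun y hy => hX y hy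
    exact map_mem_closure (f := fun y : Pt G => g * y * g⁻¹) hc hx hst
  · exact derivedSeries_eq_bot_of_le hWR hRsol
  · obtain ⟨Uall, hUall⟩ := exists_unipotent_subgroup Φ R hR hRc hRsol
    have h1 : Subgroup.closure X ≤ Uall := (Subgroup.closure_le Uall).2 (Set.iUnion_subset fun g => by
      intro y hy
      refine (hUall y).2 ⟨key g hy, ?_⟩
      obtain ⟨u, hu, rfl⟩ := hy
      exact Φ.isNilpotent_conj (hn u hu) g)
    rw [← SetLike.mem_coe, hW] at hx
    exact closure_minimal (fun y hy => ((hUall y).1 (h1 hy)).2) Φ.isClosed_isNilpotent hx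

end Groth.Agent.Borel50.NormalClosure
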