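import Groth.Agent.Borel50.UnipRadical

/-!
# Maximal connected unipotent subgroups are unipotent radicals of Borel subgroups
-/

set_option autoImplicit false
universe u

open CategoryTheory MonoidalCategory CartesianMonoidalCategory MonObj GrpObj AlgebraicGeometry Limits

noncomputable section

namespace Groth.Agent.Borel50.UnipBorel

open Groth.Agent.Borel50.Pts Groth.Agent.Borel50.Lin Groth.Agent.Borel50.Density Groth.Agent.Borel50.UnipRadical

attribute [local instance] ptTop

variable {k : Type u} [Field k] [IsAlgClosed k]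

/-- A scheme over a field with connected geometric fibre is connected. -/
theorem connected_of_geom (s : Spec (CommRingCat.of k)) (U : Over (Spec (CommRingCat.of k)))
    (h : ConnectedSpace (Red.geomFibre s U).left) : ConnectedSpace U.left := by
  have : ConnectedSpace ↥(pullback U.hom (Red.geomPt s)) := h
  have : Surjective (Red.geomPt s) := ⟨fun y => ⟨default, Subsingleton.elim (α := PrimeSpectrum k) _ _⟩⟩
  have hp : Surjective (pullback.fst U.hom (Red.geomPt s)) :=
    MorphismProperty.pullback_fst (P := @Surjective) _ _ ‹_›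
  exact hp.surj.connectedSpace (pullback.fst U.hom (Red.geomPt s)).continuous

variable {G U : Over (Spec (CommRingCat.of k))} [GrpObj G] [GrpObj U]
  [IsAffine G.left] [Smooth G.hom] [ConnectedSpace G.left]

/-- A connected normal subgroup without subtori lies in every Borel subgroup. -/
theorem normal_le_borel [Smooth U.hom] [ConnectedSpace U.left] (iU : U ⟶ G) [IsMonHom iU] [IsClosedImmersion iU.left]
    (hU : Red.HasNoSubtorus k U) (hN : AlgGrp.IsNormalHom iU) {B : Over (Spec (CommRingCat.of k))} [GrpObj B]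
    (iB : B ⟶ G) [IsMonHom iB] (hB : Red.IsBorelOver k iB) : (ptHom iU).range ≤ (ptHom iB).range := by
  obtain ⟨g, hg⟩ := exists_conj_le_borel iU hU iB hB
  rintro _ ⟨w, rfl⟩
  obtain ⟨w', hw'⟩ := hN (𝟙_ _) g⁻¹ w
  rw [_root_.inv_inv] at hw'
  obtain ⟨z, hz⟩ := hg ⟨w' ≫ iU, ⟨w', rfl⟩, show g * (w' ≫ iU) * g⁻¹ = w ≫ iU by rw [← hw']; group⟩
  exact ⟨z, hz⟩

/-- Normality of a subgroup passes to intermediate subgroups. -/
theorem isNormalHom_of_factor {B : Over (Spec (CommRingCat.of k))} [GrpObj B] {iU : U ⟶ G} (hN : AlgGrp.IsNormalHom iU)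
    (iB : B ⟶ G) [IsMonHom iB] [Mono iB] (f : U ⟶ B) (hf : f ≫ iB = iU) : AlgGrp.IsNormalHom f := by
  intro T g n
  obtain ⟨n', hn'⟩ := hN T (g ≫ iB) n
  refine ⟨n', (cancel_mono iB).1 ?_⟩
  rw [MonObj.mul_comp, MonObj.mul_comp, GrpObj.inv_comp, Category.assoc, Category.assoc, hf]
  exact hn'

omit [ConnectedSpace G.left] in
/-- The conjugate of a subgroup is a subgroup without subtori. -/
theorem pts_borel {B : Over (Spec (CommRingCat.of k))} [GrpObj B] (iB : B ⟶ G) [IsMonHom iB]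
    (hB : Red.IsBorelOver k iB) :
    IsClosed ((ptHom iB).range : Set (Pt G)) ∧ _root_.IsPreconnected ((ptHom iB).range : Set (Pt G)) ∧
      ∃ n, derivedSeries (ptHom iB).range n = ⊥ := by
  have := FixedPt.qc_G G
  have := hB.2.1
  have := hB.2.2.2.1
  have : LocallyOfFiniteType B.hom := by rw [← Over.w iB]; infer_instance
  obtain ⟨n, hn⟩ := Solvable.points_of_isSolvableGrp hB.2.2.2.2.1
  exact ⟨Density.isClosed_range iB, Density.isPreconnected_range iB, n, by
    rw [eq_bot_iff, ← map_derivedSeries_eq (MonoidHom.rangeRestrict_surjective (ptHom iB)) n, hn, Subgroup.map_bot]⟩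

variable [Smooth U.hom] [ConnectedSpace U.left]

/-- A conjugate of a connected subgroup without subtori lying in a Borel subgroup containing a maximal such `U` lies in `U`. -/
theorem conj_le_of_maximal (iU : U ⟶ G) [IsMonHom iU] [IsClosedImmersion iU.left] (hU : Red.HasNoSubtorus k U)
    (maxU : ∀ (V : Over (Spec (CommRingCat.of k))) [GrpObj V] (j : V ⟶ G) [IsMonHom j] (f : U ⟶ V),
      IsClosedImmersion j.left → Smooth V.hom → ConnectedSpace V.left → Red.HasNoSubtorus k V → f ≫ j = iU → IsIso f)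
    {B : Over (Spec (CommRingCat.of k))} [GrpObj B] (iB : B ⟶ G) [IsMonHom iB] (hB : Red.IsBorelOver k iB)
    (hle : (ptHom iU).range ≤ (ptHom iB).range) {V : Over (Spec (CommRingCat.of k))} [GrpObj V] [Smooth V.hom]
    [ConnectedSpace V.left] (iV : V ⟶ G) [IsMonHom iV] [IsClosedImmersion iV.left] (hV : Red.HasNoSubtorus k V)
    (g : Pt G) (hVB : (ptHom iV).range.map (MulAut.conj g).toMonoidHom ≤ (ptHom iB).range) :
    (ptHom iV).range.map (MulAut.conj g).toMonoidHom ≤ (ptHom iU).range := by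
  have := FixedPt.qc_G G
  have := GrpScheme.HomFlat.isReduced_of_smooth G.hom
  have := Conj.isMonHom_conjBy g iV
  have := Conj.isClosedImmersion_conjBy g iV
  obtain ⟨N, ⟨Φ⟩⟩ := exists_rep (G := G)
  obtain ⟨h1, h2, n, hn⟩ := pts_borel iB hB
  rw [← ToralConj.range_conjBy iV g] at hVB ⊢
  have : LocallyOfFiniteType V.hom := inferInstance
  exact le_of_maximal iU hU maxU Φ _ h1 h2 hn hle _ (Density.isPreconnected_range _) hVB
    ((pts_facts (AGF.conjBy g iV) hV).2 Φ)

/-- A maximal connected subgroup without subtori is the unipotent radical of a Borel subgroup containing it. -/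
theorem exists_borel_radical (iU : U ⟶ G) [IsMonHom iU] [IsClosedImmersion iU.left] (hU : Red.HasNoSubtorus k U)
    (maxU : ∀ (V : Over (Spec (CommRingCat.of k))) [GrpObj V] (j : V ⟶ G) [IsMonHom j] (f : U ⟶ V),
      IsClosedImmersion j.left → Smooth V.hom → ConnectedSpace V.left → Red.HasNoSubtorus k V → f ≫ j = iU → IsIso f) :
    ∃ (B : Over (Spec (CommRingCat.of k))) (_ : GrpObj B) (iB : B ⟶ G) (_ : Red.IsBorelOver k iB) (u : U ⟶ B),
      u ≫ iB = iU ∧ Par.IsUnipotentRadical u := by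
  have := FixedPt.qc_G G
  have : IsAffine U.left := isAffine_of_isAffineHom iU.left
  have := GrpScheme.HomFlat.isReduced_of_smooth U.hom
  obtain ⟨B, _, iB₀, hB₀⟩ := Conj.exists_borel G
  have := hB₀.1
  obtain ⟨g, hg⟩ := exists_conj_le_borel iU hU iB₀ hB₀
  have hB := Conj.isBorelOver_conjBy iB₀ hB₀ g⁻¹
  have := hB.1
  have := hB.2.1
  have := hB.2.2.1
  have := hB.2.2.2.1
  set iB := AGF.conjBy g⁻¹ iB₀ with hiB
  have hle : (ptHom iU).range ≤ (ptHom iB).range := fun x hx => by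
    have e : (ptHom iB).range = _ := ToralConj.range_conjBy iB₀ g⁻¹
    rw [e]
    exact ⟨_, hg ⟨x, hx, rfl⟩, by simp [_root_.mul_assoc]⟩
  have : Mono iB := Over.mono_of_mono_left iB
  obtain ⟨u, hu⟩ := factor_of_points iU iB fun w => by
    obtain ⟨z, hz⟩ := hle ⟨w, rfl⟩
    exact mem_range_of_factor hz
  have : IsMonHom (u ≫ iB) := hu ▸ ‹IsMonHom iU›
  have : IsMonHom u :=
    { one_hom := by rw [← cancel_mono iB, Category.assoc, hu, IsMonHom.one_hom iB, IsMonHom.one_hom iU]
      mul_hom := by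
        rw [← cancel_mono iB, Category.assoc, hu, IsMonHom.mul_hom iU, Category.assoc, IsMonHom.mul_hom iB,
          tensorHom_comp_tensorHom_assoc, hu] }
  have : IsClosedImmersion u.left := by
    have h : IsClosedImmersion (u.left ≫ iB.left) := by rw [← Over.comp_left, hu]; infer_instance
    exact IsClosedImmersion.of_comp u.left iB.left
  refine ⟨B, inferInstance, iB, hB, u, hu, ‹_›, ‹_›, ?_, ‹_›, FixedPt.qc_G U, geom_of_noSubtorus hU, ?_⟩
  · have : IsAffine B.left := isAffine_of_isAffineHom iB.left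
    refine RadicalScheme.isNormalHom_of_points u fun b x hx => ?_
    obtain ⟨w, rfl⟩ := hx
    obtain ⟨w', hw'⟩ := conj_le_of_maximal iU hU maxU iB hB hle iU hU (b ≫ iB) (by
      rintro _ ⟨y, hy, rfl⟩
      exact (ptHom iB).range.mul_mem ((ptHom iB).range.mul_mem ⟨b, rfl⟩ (hle hy))
        ((ptHom iB).range.inv_mem ⟨b, rfl⟩)) ⟨w ≫ iU, ⟨w, rfl⟩, rfl⟩
    refine ⟨w', (cancel_mono iB).1 ?_⟩
    show (w' ≫ u) ≫ iB = (b * (w ≫ u) * b⁻¹) ≫ iB
    rw [Category.assoc, hu, MonObj.mul_comp, MonObj.mul_comp, GrpObj.inv_comp, Category.assoc, hu]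
    exact hw'
  · intro U' _ u' _ hcl hN hsm hqc hgeo
    obtain ⟨s⟩ : Nonempty ↥(Spec (CommRingCat.of k)) := inferInstanceAs (Nonempty (PrimeSpectrum k))
    have := connected_of_geom s U' (hgeo s).1
    have hU' : Red.HasNoSubtorus k U' := hasNoSubtorus_of_bc _ (hgeo s).2
    have := hcl
    have : IsClosedImmersion (u' ≫ iB).left := by rw [Over.comp_left]; infer_instance
    have : IsAffine U'.left := isAffine_of_isAffineHom (u' ≫ iB).left
    have := GrpScheme.HomFlat.isReduced_of_smooth U'.hom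
    have hle' := conj_le_of_maximal iU hU maxU iB hB hle (u' ≫ iB) hU' 1 (by
      rintro _ ⟨_, ⟨w, rfl⟩, rfl⟩
      exact ⟨w ≫ u', show (w ≫ u') ≫ iB = 1 * (w ≫ u' ≫ iB) * 1⁻¹ by simp⟩)
    obtain ⟨f, hf⟩ := factor_of_points (u' ≫ iB) iU fun w => by
      obtain ⟨z, hz⟩ := hle' ⟨w ≫ u' ≫ iB, ⟨w, rfl⟩, show 1 * _ * (1 : Pt G)⁻¹ = _ by simp; rfl⟩
      exact mem_range_of_factor hz
    exact ⟨f, (cancel_mono iB).1 (by rw [Category.assoc, hu, hf])⟩

/-- Maximal connected subgroups without subtori are conjugate. -/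
theorem maximal_conj {U' : Over (Spec (CommRingCat.of k))} [GrpObj U'] [Smooth U'.hom] [ConnectedSpace U'.left]
    (iU : U ⟶ G) [IsMonHom iU] [IsClosedImmersion iU.left] (hU : Red.HasNoSubtorus k U)
    (maxU : ∀ (V : Over (Spec (CommRingCat.of k))) [GrpObj V] (j : V ⟶ G) [IsMonHom j] (f : U ⟶ V),
      IsClosedImmersion j.left → Smooth V.hom → ConnectedSpace V.left → Red.HasNoSubtorus k V → f ≫ j = iU → IsIso f)
    (iU' : U' ⟶ G) [IsMonHom iU'] [IsClosedImmersion iU'.left] (hU' : Red.HasNoSubtorus k U')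
    (maxU' : ∀ (V : Over (Spec (CommRingCat.of k))) [GrpObj V] (j : V ⟶ G) [IsMonHom j] (f : U' ⟶ V),
      IsClosedImmersion j.left → Smooth V.hom → ConnectedSpace V.left → Red.HasNoSubtorus k V → f ≫ j = iU' → IsIso f) :
    ∃ (g : Pt G) (e : U ≅ U'), e.hom ≫ iU' = AGF.conjBy g iU := by
  have := FixedPt.qc_G G
  have := GrpScheme.HomFlat.isReduced_of_smooth G.hom
  have := GrpScheme.HomFlat.isReduced_of_smooth U.hom
  have := GrpScheme.HomFlat.isReduced_of_smooth U'.hom
  obtain ⟨N, ⟨Φ⟩⟩ := exists_rep (G := G)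
  obtain ⟨B, _, iB, hB, u, hu, -⟩ := exists_borel_radical iU hU maxU
  obtain ⟨B', _, iB', hB', u', hu', -⟩ := exists_borel_radical iU' hU' maxU'
  have := hB.1
  have := hB'.1
  have hle : (ptHom iU).range ≤ (ptHom iB).range := by
    rintro _ ⟨w, rfl⟩
    exact ⟨w ≫ u, show (w ≫ u) ≫ iB = w ≫ iU by rw [Category.assoc, hu]⟩
  have hle' : (ptHom iU').range ≤ (ptHom iB').range := by
    rintro _ ⟨w, rfl⟩
    exact ⟨w ≫ u', show (w ≫ u') ≫ iB' = w ≫ iU' by rw [Category.assoc, hu']⟩
  obtain ⟨g, hg⟩ := exists_conj_le_borel iU' hU' iB hB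
  obtain ⟨h, hh⟩ := exists_conj_le_borel iU hU iB' hB'
  have h1 := conj_le_of_maximal iU hU maxU iB hB hle iU' hU' g hg
  have h2 := conj_le_of_maximal iU' hU' maxU' iB' hB' hle' iU hU h hh
  have h3 : (ptHom iU).range.map (MulAut.conj (g * h)).toMonoidHom ≤ (ptHom iU).range := by
    rw [← Lin.Rep.map_conj_map_conj]
    exact (Subgroup.map_mono h2).trans h1
  have h4 := Φ.map_conj_eq_of_le _ (Density.isClosed_range iU) _ h3
  have h5 : (ptHom iU).range.map (MulAut.conj h).toMonoidHom = (ptHom iU').range := by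
    refine le_antisymm h2 fun x hx => ?_
    have h6 : g * x * g⁻¹ ∈ (ptHom iU).range.map (MulAut.conj (g * h)).toMonoidHom := h4.symm ▸ h1 ⟨x, hx, rfl⟩
    obtain ⟨y, hy, hyx⟩ := h6
    refine ⟨y, hy, ?_⟩
    have h7 : g * (h * y * h⁻¹) * g⁻¹ = g * x * g⁻¹ := by
      rw [← hyx]
      simp [_root_.mul_assoc]
    exact mul_left_cancel (mul_right_cancel h7)
  have := Conj.isMonHom_conjBy h iU
  have := Conj.isClosedImmersion_conjBy h iU
  obtain ⟨e, he⟩ := ToralConj.exists_iso_of_range (AGF.conjBy h iU) iU' (by rw [ToralConj.range_conjBy iU h, h5])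
  exact ⟨h, e, he⟩

end Groth.Agent.Borel50.UnipBorel
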