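import Groth.Agent.Borel50.TorusBorel
import Groth.Agent.Borel50.BaseChange
import Groth.Agent.DiagRig.BCPts
import Groth.Agent.DiagRig.CentralLift
import Groth.Agent.DiagRig.Agree
import Groth.Agent.DiagRig.TorusBasic
import Groth.Agent.AbSch51.TorusToProper
import Groth.Agent.S5247

/-!
# Passing to an algebraic closure
-/

set_option autoImplicit false
universe u

open CategoryTheory MonoidalCategory CartesianMonoidalCategory MonObj GrpObj AlgebraicGeometry Limits

noncomputable section

namespace Groth.Agent.Borel50.OverField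

open Groth.Agent.DiagRig (bcTr bcUn bcTr_bcUn bcTr_map bcTr_mul bcTr_injective bcTr_comp)

section General

variable {S S' : Scheme.{u}} (q : S' ⟶ S) {H G Z : Over S} [GrpObj H] [GrpObj G] [GrpObj Z]

/-- Centralisers are stable under base change. -/
theorem isCentralizerOf_bc (i : H ⟶ G) (j : Z ⟶ G) (hj : Red.IsCentralizerOf i j) :
    Red.IsCentralizerOf ((Over.pullback q).map i) ((Over.pullback q).map j) := by
  have := hj.1
  have := hj.2.1
  refine ⟨DiagRig.isMonHom_bcMap q j, inferInstance, fun X g => ?_⟩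
  constructor
  · rintro ⟨z, rfl⟩ X' x h
    refine bcTr_injective q ?_
    rw [bcTr_mul, bcTr_mul, ← Category.assoc, bcTr_map, bcTr_map]
    have := (hj.2.2 _ (bcTr q (x ≫ z) ≫ j)).1 ⟨bcTr q (x ≫ z), rfl⟩ _ (𝟙 _) (bcTr q h)
    rwa [Category.id_comp] at this
  · intro hg
    obtain ⟨z, hz⟩ := (hj.2.2 _ (bcTr q g)).2 fun Y y h => by
      let X' : Over S' := Over.mk (y.left ≫ X.hom)
      let x : X' ⟶ X := Over.homMk y.left rfl
      let e : Y ≅ (Over.map q).obj X' := Over.isoMk (Iso.refl _) (by
        show 𝟙 _ ≫ (y.left ≫ X.hom) ≫ q = Y.hom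
        rw [Category.id_comp, Category.assoc]
        exact Over.w y)
      have hxy : y = e.hom ≫ (Over.map q).map x := by
        ext1
        exact (Category.id_comp _).symm
      have h1 := congrArg (bcTr q) (hg X' x (bcUn q (e.inv ≫ h)))
      rw [bcTr_mul, bcTr_mul, bcTr_map, bcTr_bcUn, bcTr_comp] at h1
      have h2 := congrArg (fun m => e.hom ≫ m) h1
      simp only [MonObj.comp_mul, ← Category.assoc, Iso.hom_inv_id, Category.id_comp, ← hxy] at h2
      exact h2
    exact ⟨bcUn q z, bcTr_injective q (by rw [bcTr_map, bcTr_bcUn, hz])⟩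

end General

section Field

variable {k : Type u} [Field k] {K : Type u} [Field K] (g : Spec (CommRingCat.of K) ⟶ Spec (CommRingCat.of k))

lemma canK_fpqc (X : Over (Spec (CommRingCat.of k))) :
    Flat (DiagRig.canK g X).left ∧ Surjective (DiagRig.canK g X).left ∧ QuasiCompact (DiagRig.canK g X).left := by
  have := BaseChange.flat_g g
  have := BaseChange.surjective_g g
  rw [DiagRig.canK_left]
  exact ⟨inferInstance, inferInstance, inferInstance⟩

/-- Factorisations through subobjects descend. -/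
theorem exists_factor {Y Z G : Over (Spec (CommRingCat.of k))} [GrpObj G] (a : Y ⟶ G) (i : Z ⟶ G) [Mono i]
    (h : ∃ y : Red.bc g Y ⟶ Red.bc g Z, y ≫ (Over.pullback g).map i = (Over.pullback g).map a) :
    ∃ y : Y ⟶ Z, y ≫ i = a := by
  obtain ⟨hf, hs, hq⟩ := canK_fpqc g Y
  obtain ⟨y, hy⟩ := h
  exact DiagRig.exists_lift_of_fpqc i a (DiagRig.canK g Y)
    ⟨bcTr g y, by rw [← bcTr_map, hy, DiagRig.canK_comp]⟩

/-- Base change is faithful. -/
theorem map_injective {Y G : Over (Spec (CommRingCat.of k))} [GrpObj G] {a b : Y ⟶ G}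
    (h : (Over.pullback g).map a = (Over.pullback g).map b) : a = b := by
  obtain ⟨hf, hs, hq⟩ := canK_fpqc g Y
  have : EffectiveEpi (DiagRig.canK g Y).left := inferInstance
  have e : DiagRig.canK g Y ≫ a = DiagRig.canK g Y ≫ b := by rw [DiagRig.canK_comp, DiagRig.canK_comp, h]
  exact Over.OverMorphism.ext ((cancel_epi (DiagRig.canK g Y).left).1 (congrArg CommaMorphism.left e))

lemma facts_bc (G : Over (Spec (CommRingCat.of k))) [GrpObj G] [IsAffine G.left] [Smooth G.hom]
    [ConnectedSpace G.left] :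
    IsAffine (Red.bc g G).left ∧ Smooth (Red.bc g G).hom ∧ ConnectedSpace (Red.bc g G).left :=
  ⟨BaseChange.isAffine_bc g G, inferInstanceAs (Smooth (pullback.snd G.hom g)), BaseChange.connectedSpace_bc g G⟩

end Field

section Centralizer

variable {k : Type u} [Field k] {G T C : Over (Spec (CommRingCat.of k))} [GrpObj G] [GrpObj T] [GrpObj C]
  [IsAffine G.left] [Smooth G.hom]

/-- The centraliser of a torus is a smooth closed subgroup. -/
theorem smooth_centralizer (iT : T ⟶ G) [IsMonHom iT] (hT : Red.IsTorus T) (c : C ⟶ G)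
    (hc : Red.IsCentralizerOf iT c) : Smooth C.hom ∧ IsClosedImmersion c.left := by
  have : IsAffineHom G.hom := isAffineHom_of_isAffine _
  obtain ⟨Z, _, j, hj, hjc, hjs⟩ := S5247.result T G (DiagRig.multTypeFT_of_torus hT) ‹_› ‹_› iT
  have := hc.2.1
  have := hj.2.1
  obtain ⟨f, hf⟩ := (hj.2.2 C c).2 ((hc.2.2 C c).1 ⟨𝟙 C, Category.id_comp _⟩)
  obtain ⟨f', hf'⟩ := (hc.2.2 Z j).2 ((hj.2.2 Z j).1 ⟨𝟙 Z, Category.id_comp _⟩)
  have : IsIso f := ⟨f', by rw [← cancel_mono c, Category.assoc, hf', hf, Category.id_comp],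
    by rw [← cancel_mono j, Category.assoc, hf, hf', Category.id_comp]⟩
  have : IsIso f.left := inferInstanceAs (IsIso ((Over.forget _).map f))
  refine ⟨?_, ?_⟩
  · rw [← Over.w f]; infer_instance
  · rw [← hf, Over.comp_left]; infer_instance

end Centralizer

end Groth.Agent.Borel50.OverField
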