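import Groth.Agent.Borel50.UnipMap

/-!
# Connected groups without subtori consist of unipotent points
-/

set_option autoImplicit false
universe u

open CategoryTheory MonoidalCategory CartesianMonoidalCategory MonObj GrpObj AlgebraicGeometry Limits

noncomputable section

namespace Groth.Agent.Borel50.UnipGroup

open Groth.Agent.Borel50.Pts Groth.Agent.Borel50.Lin Groth.Agent.Borel50.Density

attribute [local instance] ptTop

variable {k : Type u} [Field k] [IsAlgClosed k]

/-- A toral subgroup mapping injectively into a group without subtori is trivial. -/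
theorem toral_eq_one {B U : Over (Spec (CommRingCat.of k))} [GrpObj B] [GrpObj U] [IsAffine B.left] [Smooth B.hom]
    [ConnectedSpace B.left] (i : B ⟶ U) [IsMonHom i] [Mono i] (h : Red.HasNoSubtorus k U) {N : ℕ}
    {Φ : Rep k (Pt B) N} {T : Subgroup (Pt B)} (hT : Φ.IsToral T) : ∀ t ∈ T, t = 1 := by
  obtain ⟨K, _, j, _, _, _, hK, hr⟩ := Lin.Torus.exists_torus hT
  have : IsIso K.hom := h K (j ≫ i) hK
  intro t ht
  rw [← hr] at ht
  obtain ⟨w, rfl⟩ := ht
  have hw : w = 1 := Over.OverMorphism.ext ((cancel_mono K.hom).1 (by rw [Over.w, Over.w]))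
  rw [hw, map_one]

/-- A connected group without subtori has solvable, unipotent rational points. -/
theorem unipotent_of_noSubtorus {U : Over (Spec (CommRingCat.of k))} [GrpObj U] [IsAffine U.left] [Smooth U.hom]
    [ConnectedSpace U.left] (h : Red.HasNoSubtorus k U) {N : ℕ} (Φ : Rep k (Pt U) N) :
    ∃ P Q : Matrix (Fin N) (Fin N) k, ∃ hQP : Q * P = 1, ∃ hup : ∀ x, (Φ.conj P Q hQP).ρ x ∈ fil k N 0,
      ∀ x, x ∈ (Φ.conj P Q hQP).unipotent hup 1 := by
  classical
  have := FixedPt.qc_G U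
  obtain ⟨B, _, iB, hB⟩ := Conj.exists_borel U
  have := hB.1
  have := hB.2.1
  have := hB.2.2.1
  have := hB.2.2.2.1
  have : Mono iB := Over.mono_of_mono_left iB
  have : IsAffine B.left := isAffine_of_isAffineHom iB.left
  have := FixedPt.qc_G B
  have := GrpScheme.HomFlat.isReduced_of_smooth B.hom
  have := preconnectedSpace_pt (G := B)
  have := preconnectedSpace_pt (G := U)
  obtain ⟨M, ⟨Φ₀⟩⟩ := exists_rep (G := B)
  obtain ⟨d, hd⟩ := Solvable.points_of_isSolvableGrp hB.2.2.2.2.1
  obtain ⟨P, Q, hQP, hup⟩ := Φ₀.exists_upper hd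
  obtain ⟨T, hT, hcov⟩ := (Φ₀.conj P Q hQP).exists_toral_lift hup
  have h1 := toral_eq_one iB h hT
  have hnil : Subgroup.upperCentralSeries (Pt B) (M + 1) = ⊤ :=
    (Φ₀.conj P Q hQP).upperCentralSeries_eq_top hup T (fun t ht x => by rw [h1 t ht, _root_.one_mul, _root_.mul_one]) hcov
  have : IsIso iB := Nilp.isIso_of_nilpotent_borel (M + 1) U B iB hB hnil
  have hsurj : Function.Surjective (ptHom iB) := fun x =>
    ⟨x ≫ inv iB, show (x ≫ inv iB) ≫ iB = x by rw [Category.assoc, IsIso.inv_hom_id, Category.comp_id]⟩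
  have hdU : derivedSeries (Pt U) d = ⊥ := by
    rw [eq_bot_iff, ← map_derivedSeries_eq hsurj d, hd, Subgroup.map_bot]
  obtain ⟨P', Q', hQP', hup'⟩ := Φ.exists_upper hdU
  refine ⟨P', Q', hQP', hup', fun x => ?_⟩
  obtain ⟨T', hT', hcov'⟩ := (Φ.conj P' Q' hQP').exists_toral_lift hup'
  obtain ⟨t, ht, he⟩ := hcov' x
  refine (Φ.conj P' Q' hQP').mem_unipotent_of_diag ?_
  rw [← he, toral_eq_one (𝟙 U) h hT' t ht, map_one]

end Groth.Agent.Borel50.UnipGroup
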