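import Groth.Agent.Borel50.NormalizerScheme

/-!
# Parabolic subgroups are connected and self-normalising
-/

set_option autoImplicit false
universe u

open CategoryTheory MonoidalCategory CartesianMonoidalCategory MonObj GrpObj AlgebraicGeometry Limits

noncomputable section

namespace Groth.Agent.Borel50.Parabolic

open Groth.Agent.Borel50.Pts Groth.Agent.Borel50.Lin Groth.Agent.Borel50.Density

attribute [local instance] ptTop

variable {k : Type u} [Field k] [IsAlgClosed k] {G : Over (Spec (CommRingCat.of k))} [GrpObj G]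

/-- A Borel subgroup lying in a subgroup is a Borel subgroup of it. -/
lemma isBorelOver_factor {B P : Over (Spec (CommRingCat.of k))} [GrpObj B] [GrpObj P] (iB : B ⟶ G)
    (hB : Red.IsBorelOver k iB) (iP : P ⟶ G) [IsMonHom iP] [IsClosedImmersion iP.left] (f : B ⟶ P)
    (hf : f ≫ iP = iB) : Red.IsBorelOver k f := by
  have := hB.1
  have := hB.2.1
  have : Mono iP := Over.mono_of_mono_left iP
  have hm : IsMonHom f :=
    { one_hom := by rw [← cancel_mono iP, Category.assoc, hf, IsMonHom.one_hom, IsMonHom.one_hom]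
      mul_hom := by
        rw [← cancel_mono iP, Category.assoc, Category.assoc, hf, IsMonHom.mul_hom, IsMonHom.mul_hom,
          MonoidalCategory.tensorHom_comp_tensorHom_assoc, hf] }
  have hc : IsClosedImmersion f.left := by
    have : IsClosedImmersion (f.left ≫ iP.left) := by rw [← Over.comp_left, hf]; infer_instance
    exact IsClosedImmersion.of_comp f.left iP.left
  refine ⟨hm, hc, hB.2.2.1, hB.2.2.2.1, hB.2.2.2.2.1, fun B' _ i' _ f' h1 h2 h3 h4 h5 => ?_⟩
  exact hB.2.2.2.2.2 B' (i' ≫ iP) f' (by rw [Over.comp_left]; infer_instance) h2 h3 h4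
    (by rw [← Category.assoc, h5, hf])

variable [IsAffine G.left] [Smooth G.hom] [ConnectedSpace G.left]

/-- A point normalising a connected subgroup containing a Borel subgroup lies in it. -/
theorem mem_of_normalizes (H : Subgroup (Pt G)) (hH : IsClosed (H : Set (Pt G)))
    (hHc : _root_.IsPreconnected (H : Set (Pt G))) {B : Over (Spec (CommRingCat.of k))} [GrpObj B] (iB : B ⟶ G)
    [IsMonHom iB] (hB : Red.IsBorelOver k iB) (hle : (ptHom iB).range ≤ H) {x : Pt G}
    (hx : ∀ y ∈ H, x * y * x⁻¹ ∈ H) : x ∈ H := by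
  have := FixedPt.qc_G G
  have := hB.2.1
  have := hB.2.2.1
  have := GrpScheme.HomFlat.isReduced_of_smooth B.hom
  obtain ⟨P, _, iP, _, _, _, _, hmem, hconn⟩ := exists_sub H hH
  have := hconn hHc
  have : IsAffine P.left := isAffine_of_isAffineHom iP.left
  have : Mono iP := Over.mono_of_mono_left iP
  have hB' := Conj.isBorelOver_conjBy iB hB x
  have := hB'.1
  obtain ⟨f₁, hf₁⟩ := factor_of_points iB iP fun w => by
    obtain ⟨z, hz⟩ := (hmem _).1 (hle ⟨w, rfl⟩)
    exact mem_range_of_factor hz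
  obtain ⟨f₂, hf₂⟩ := factor_of_points (AGF.conjBy x iB) iP fun w => by
    have h : w ≫ AGF.conjBy x iB ∈ (ptHom iB).range.map (MulAut.conj x).toMonoidHom := by
      rw [← ToralConj.range_conjBy iB x]; exact ⟨w, rfl⟩
    obtain ⟨y, hy, hye⟩ := h
    obtain ⟨z, hz⟩ := (hmem (w ≫ AGF.conjBy x iB)).1 (by rw [← hye]; exact hx y (hle hy))
    exact mem_range_of_factor hz
  have h₁ := isBorelOver_factor iB hB iP f₁ hf₁
  have h₂ := isBorelOver_factor _ hB' iP f₂ hf₂
  obtain ⟨p, e, he⟩ := Conj.borel_conj f₁ f₂ h₁ h₂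
  have hpH : p ≫ iP ∈ H := (hmem _).2 ⟨p, rfl⟩
  have hkey : AGF.conjBy (p ≫ iP) iB = e.hom ≫ AGF.conjBy x iB := by
    rw [← hf₂, ← Category.assoc, he]
    simp only [AGF.conjBy, MonObj.mul_comp, GrpObj.inv_comp, Category.assoc, hf₁]
  have hr : (ptHom iB).range.map (MulAut.conj (p ≫ iP)).toMonoidHom =
      (ptHom iB).range.map (MulAut.conj x).toMonoidHom := by
    have := Conj.isMonHom_conjBy (p ≫ iP) iB
    rw [← ToralConj.range_conjBy iB (p ≫ iP), ← ToralConj.range_conjBy iB x]
    ext y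
    constructor
    · rintro ⟨w, rfl⟩
      exact ⟨w ≫ e.hom, show (w ≫ e.hom) ≫ AGF.conjBy x iB = w ≫ AGF.conjBy (p ≫ iP) iB by
        rw [Category.assoc, hkey]⟩
    · rintro ⟨w, rfl⟩
      exact ⟨w ≫ e.inv, show (w ≫ e.inv) ≫ AGF.conjBy (p ≫ iP) iB = w ≫ AGF.conjBy x iB by
        rw [hkey, Category.assoc, Iso.inv_hom_id_assoc]⟩
  have hn : (p ≫ iP)⁻¹ * x ∈ Subgroup.normalizer ((ptHom iB).range : Set (Pt G)) := by
    have hm := congrArg (Subgroup.map (MulAut.conj (p ≫ iP)⁻¹).toMonoidHom) hr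
    rw [Lin.Rep.map_conj_map_conj, Lin.Rep.map_conj_map_conj, inv_mul_cancel, map_one] at hm
    have hm' : (ptHom iB).range = (ptHom iB).range.map (MulAut.conj ((p ≫ iP)⁻¹ * x)).toMonoidHom :=
      (Subgroup.map_id _).symm.trans hm
    refine Subgroup.mem_normalizer_iff.2 fun y => ⟨fun hy => ?_, fun hy => ?_⟩
    · rw [hm']; exact ⟨y, hy, rfl⟩
    · rw [hm'] at hy
      obtain ⟨z, hz, hzy⟩ := hy
      have hzy' : (p ≫ iP)⁻¹ * x * z * ((p ≫ iP)⁻¹ * x)⁻¹ = (p ≫ iP)⁻¹ * x * y * ((p ≫ iP)⁻¹ * x)⁻¹ := hzy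
      have e : z = y := mul_left_cancel (mul_right_cancel hzy')
      exact e ▸ hz
  have hn' : (p ≫ iP)⁻¹ * x ∈ (ptHom iB).range := (Normalizer.mem_of_normalizes iB hB).le hn
  have hfin := H.mul_mem hpH (hle hn')
  rwa [mul_inv_cancel_left] at hfin

/-- A smooth subgroup containing a Borel subgroup is connected and is its own normaliser on rational points. -/
theorem connected_and_normalizer {P : Over (Spec (CommRingCat.of k))} [GrpObj P] (iP : P ⟶ G) [IsMonHom iP]
    [IsClosedImmersion iP.left] [Smooth P.hom] {B : Over (Spec (CommRingCat.of k))} [GrpObj B] (iB : B ⟶ G)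
    [IsMonHom iB] (hB : Red.IsBorelOver k iB) (hle : (ptHom iB).range ≤ (ptHom iP).range) :
    ConnectedSpace P.left ∧ Subgroup.normalizer ((ptHom iP).range : Set (Pt G)) = (ptHom iP).range := by
  have := FixedPt.qc_G G
  have := hB.2.1
  have := hB.2.2.1
  have := hB.2.2.2.1
  have := GrpScheme.HomFlat.isReduced_of_smooth G.hom
  obtain ⟨N, ⟨Φ⟩⟩ := exists_rep (G := G)
  set PC := (ptHom iP).range with hPC
  have hcl : IsClosed (PC : Set (Pt G)) := Density.isClosed_range iP
  let P₀ : Subgroup (Pt G) := (Φ.restrict PC hcl).identityComponent.map PC.subtype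
  have := (Φ.restrict PC hcl).normal_identityComponent
  have hBP : (ptHom iB).range ≤ P₀ := by
    intro y hy
    refine ⟨⟨y, hle hy⟩, ?_, rfl⟩
    have hpre : _root_.IsPreconnected
        ((Subtype.val : PC → Pt G) ⁻¹' ((ptHom iB).range : Set (Pt G))) := by
      refine Topology.IsInducing.subtypeVal.isPreconnected_image.1 ?_
      convert Density.isPreconnected_range iB using 1
      exact Set.Subset.antisymm (by rintro _ ⟨z, hz, rfl⟩; exact hz) fun z hz => ⟨⟨z, hle hz⟩, hz, rfl⟩
    exact hpre.subset_connectedComponent (x := 1) (one_mem (ptHom iB).range) hy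
  have hP₀c : IsClosed (P₀ : Set (Pt G)) := Rep.isClosed_map_subtype hcl (Rep.isClosed_identityComponent _)
  have hP₀p : _root_.IsPreconnected (P₀ : Set (Pt G)) := Rep.isPreconnected_map_subtype isPreconnected_connectedComponent
  have hall : PC ≤ P₀ := fun x hx => mem_of_normalizes P₀ hP₀c hP₀p iB hB hBP (by
    rintro _ ⟨y, hy, rfl⟩
    let x' : PC := ⟨x, hx⟩
    have hn : x' * y * x'⁻¹ ∈ (Φ.restrict PC hcl).identityComponent :=
      (Φ.restrict PC hcl).normal_identityComponent.conj_mem y hy x'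
    have h2 := Subgroup.mem_map_of_mem PC.subtype hn
    rw [map_mul, map_mul, map_inv] at h2
    exact h2)
  have heq : PC = P₀ := le_antisymm hall (Subgroup.map_subtype_le _)
  have hpre : _root_.IsPreconnected (PC : Set (Pt G)) := by rw [heq]; exact hP₀p
  exact ⟨GeomTorus.connectedSpace_of_range iP hpre,
    le_antisymm (fun x hx => mem_of_normalizes PC hcl hpre iB hB hle fun y hy =>
      (Subgroup.mem_normalizer_iff.1 hx y).1 hy) Subgroup.le_normalizer⟩

end Groth.Agent.Borel50.Parabolic
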