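import Groth.Agent.Borel50.Normalizer

/-!
# Maximal tori and the Borel subgroups containing them
-/

set_option autoImplicit false
universe u

open CategoryTheory MonoidalCategory CartesianMonoidalCategory MonObj GrpObj AlgebraicGeometry Limits

noncomputable section

namespace Groth.Agent.Borel50.TorusBorel

open Groth.Agent.Borel50.Pts Groth.Agent.Borel50.Lin Groth.Agent.Borel50.Density

attribute [local instance] ptTop

variable {k : Type u} [Field k] [IsAlgClosed k] {G : Over (Spec (CommRingCat.of k))} [GrpObj G]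
  [IsAffine G.left] [Smooth G.hom] [ConnectedSpace G.left]

/-- The centraliser of a maximal torus lies in every Borel subgroup containing the torus. -/
theorem centralizer_le {N : ℕ} {Φ : Rep k (Pt G) N} {B : Over (Spec (CommRingCat.of k))} [GrpObj B] (iB : B ⟶ G)
    [IsMonHom iB] (hB : Red.IsBorelOver k iB) {T : Subgroup (Pt G)} (hT : Φ.IsToral T)
    (hmax : ∀ T', Φ.IsToral T' → T ≤ T' → T' = T) (hTB : T ≤ (ptHom iB).range) :
    Subgroup.centralizer (T : Set (Pt G)) ≤ (ptHom iB).range := by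
  have := FixedPt.qc_G G
  have hnil : Group.IsNilpotent (Subgroup.centralizer (T : Set (Pt G))) := by
    rw [Centralizer.centralizer_eq Φ hT]
    exact (cartan Φ hT hmax).1
  obtain ⟨K, _, iK, _, _, _, _, hmem, hconn⟩ :=
    exists_sub (Subgroup.centralizer (T : Set (Pt G))) (Φ.isClosed_centralizer _)
  have := hconn (by rw [Centralizer.centralizer_eq Φ hT]; exact Φ.isPreconnected_centralizerComp T)
  have : IsAffine K.left := isAffine_of_isAffineHom iK.left
  have hKr : (ptHom iK).range = Subgroup.centralizer (T : Set (Pt G)) :=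
    le_antisymm (by rintro _ ⟨w, rfl⟩; exact (hmem _).2 ⟨w, rfl⟩) fun z hz => (hmem z).1 hz
  obtain ⟨D, _, dK, _, hD, hDr⟩ := CentBorel.exists_borel iB hB hT hTB iK hKr
  have hK : Red.IsSolvableGrp K := by
    have : Group.IsNilpotent (ptHom iK).range := hKr.symm ▸ hnil
    have : Group.IsSolvable (Pt K) := Group.isSolvable_of_isSolvable_injective
      (f := (MonoidHom.ofInjective (ptHom_injective iK)).toMonoidHom) (MonoidHom.ofInjective _).injective
    exact Solvable.isSolvableGrp_of_points Group.IsSolvable.solvable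
  have : IsClosedImmersion (𝟙 K : K ⟶ K).left := inferInstanceAs (IsClosedImmersion (𝟙 K.left))
  have := hD.2.2.2.2.2 K (𝟙 K) dK ‹_› ‹_› ‹_› hK (Category.comp_id _)
  intro x hx
  obtain ⟨w, rfl⟩ := (hKr.symm ▸ hx : x ∈ (ptHom iK).range)
  have h : w ≫ iK ∈ (ptHom (dK ≫ iK)).range :=
    ⟨w ≫ inv dK, show (w ≫ inv dK) ≫ dK ≫ iK = w ≫ iK by rw [Category.assoc, IsIso.inv_hom_id_assoc]⟩
  rw [hDr] at h
  exact h.1

omit [ConnectedSpace G.left] in
/-- In a Borel subgroup an element normalising a torus centralises it. -/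
theorem commute_of_normalizes {N : ℕ} {Φ : Rep k (Pt G) N} {B : Over (Spec (CommRingCat.of k))} [GrpObj B]
    (iB : B ⟶ G) [IsMonHom iB] (hB : Red.IsBorelOver k iB) {T : Subgroup (Pt G)} (hT : Φ.IsToral T)
    (hTB : T ≤ (ptHom iB).range) {x : Pt G} (hx : x ∈ (ptHom iB).range) (hn : ∀ t ∈ T, x * t * x⁻¹ ∈ T) :
    x ∈ Subgroup.centralizer (T : Set (Pt G)) := by
  have := hB.2.1
  have := hB.2.2.1
  have := hB.2.2.2.1
  set BC := (ptHom iB).range with hBCdef
  have hBC : IsClosed (BC : Set (Pt G)) := Density.isClosed_range iB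
  have : PreconnectedSpace BC := Subtype.preconnectedSpace (Density.isPreconnected_range iB)
  obtain ⟨n, hn'⟩ := Solvable.points_of_isSolvableGrp hB.2.2.2.2.1
  have hBsol : derivedSeries BC n = ⊥ := by
    rw [eq_bot_iff, ← map_derivedSeries_eq (MonoidHom.rangeRestrict_surjective (ptHom iB)) n, hn', Subgroup.map_bot]
  obtain ⟨P, Q, hQP, hup⟩ := (Φ.restrict BC hBC).exists_upper hBsol
  let Ψ := (Φ.restrict BC hBC).conj P Q hQP
  refine Subgroup.mem_centralizer_iff.2 fun t ht => ?_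
  let x' : BC := ⟨x, hx⟩
  let t' : BC := ⟨t, hTB ht⟩
  have h1 : x' * t' * x'⁻¹ * t'⁻¹ = 1 :=
    ((hT.subgroupOf hBC hTB).to_conj hQP).eq_one_of_diag (Φ := Ψ) hup
      (show x * t * x⁻¹ * t⁻¹ ∈ T from T.mul_mem (hn t ht) (T.inv_mem ht)) (by
      simp only [map_mul]
      calc _ = (Ψ.diagHom hup x' * Ψ.diagHom hup x'⁻¹) * (Ψ.diagHom hup t' * Ψ.diagHom hup t'⁻¹) := by ring
        _ = 1 := by rw [← map_mul, ← map_mul, mul_inv_cancel, mul_inv_cancel, map_one, _root_.mul_one])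
  have h2 : x * t * x⁻¹ * t⁻¹ = 1 := congrArg Subtype.val h1
  calc t * x = (x * t * x⁻¹ * t⁻¹)⁻¹ * (x * t) := by group
    _ = x * t := by rw [h2]; group

/-- Borel subgroups containing a maximal torus are conjugate under its normaliser. -/
theorem exists_conj_normalizer {N : ℕ} {Φ : Rep k (Pt G) N} {B B' : Over (Spec (CommRingCat.of k))} [GrpObj B]
    [GrpObj B'] (iB : B ⟶ G) [IsMonHom iB] (hB : Red.IsBorelOver k iB) (iB' : B' ⟶ G) [IsMonHom iB']
    (hB' : Red.IsBorelOver k iB') {T : Subgroup (Pt G)} (hT : Φ.IsToral T)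
    (hmax : ∀ T', Φ.IsToral T' → T ≤ T' → T' = T) (hTB : T ≤ (ptHom iB).range) (hTB' : T ≤ (ptHom iB').range) :
    ∃ n : Pt G, T.map (MulAut.conj n).toMonoidHom = T ∧
      (ptHom iB).range.map (MulAut.conj n).toMonoidHom = (ptHom iB').range := by
  obtain ⟨g, f, hf⟩ := Conj.borel_conj iB iB' hB hB'
  have := Conj.isMonHom_conjBy g iB
  have hr : (ptHom iB).range.map (MulAut.conj g).toMonoidHom = (ptHom iB').range := by
    rw [← ToralConj.range_conjBy iB g]
    ext x
    constructor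
    · rintro ⟨b, rfl⟩
      exact ⟨b ≫ f.hom, show (b ≫ f.hom) ≫ iB' = b ≫ AGF.conjBy g iB by rw [Category.assoc, hf]⟩
    · rintro ⟨b, rfl⟩
      exact ⟨b ≫ f.inv, show (b ≫ f.inv) ≫ AGF.conjBy g iB = b ≫ iB' by
        rw [← hf, Category.assoc, Iso.inv_hom_id_assoc]⟩
  obtain ⟨b, hb, hbT⟩ := ToralConj.toral_conj_of_le iB' hB' (hT.map_conj g) (fun R hR hle => by
    have h := hmax (R.map (MulAut.conj g⁻¹).toMonoidHom) (hR.map_conj g⁻¹)
      fun r hr => ⟨g * r * g⁻¹, hle ⟨r, hr, rfl⟩, by simp [_root_.mul_assoc]⟩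
    rw [← h, Lin.Rep.map_conj_map_conj, mul_inv_cancel, map_one]
    exact (Subgroup.map_id R).symm) hT hmax (by rw [← hr]; exact Subgroup.map_mono hTB) hTB'
  refine ⟨b * g, by rw [← Lin.Rep.map_conj_map_conj]; exact hbT, ?_⟩
  rw [← Lin.Rep.map_conj_map_conj, hr]
  ext x
  constructor
  · rintro ⟨y, hy, rfl⟩
    exact (Subgroup.mem_normalizer_iff.1 (Subgroup.le_normalizer hb) y).1 hy
  · intro hx
    refine ⟨b⁻¹ * x * b, ?_, by simp [_root_.mul_assoc]⟩
    exact Subgroup.mul_mem _ (Subgroup.mul_mem _ (Subgroup.inv_mem _ hb) hx) hb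

omit [ConnectedSpace G.left] in
/-- Points of a subgroup isomorphic to a conjugate of another. -/
lemma map_conj_range {H H' : Over (Spec (CommRingCat.of k))} [GrpObj H] [GrpObj H'] (i : H ⟶ G) [IsMonHom i]
    (i' : H' ⟶ G) [IsMonHom i'] (g : Pt G) (σ : H ≅ H') (hσ : σ.hom ≫ i' = AGF.conjBy g i) :
    (ptHom i).range.map (MulAut.conj g).toMonoidHom = (ptHom i').range := by
  have := Conj.isMonHom_conjBy g i
  rw [← ToralConj.range_conjBy i g]
  ext x
  constructor
  · rintro ⟨b, rfl⟩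
    exact ⟨b ≫ σ.hom, show (b ≫ σ.hom) ≫ i' = b ≫ AGF.conjBy g i by rw [Category.assoc, hσ]⟩
  · rintro ⟨b, rfl⟩
    exact ⟨b ≫ σ.inv, show (b ≫ σ.inv) ≫ AGF.conjBy g i = b ≫ i' by
      rw [← hσ, Category.assoc, Iso.inv_hom_id_assoc]⟩

end Groth.Agent.Borel50.TorusBorel
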