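import Groth.Agent.Borel50.UnipMap
import Groth.Agent.Borel50.TorusBorel

/-!
# The image of a maximal torus is a maximal torus
-/

set_option autoImplicit false
universe u v

open CategoryTheory MonoidalCategory CartesianMonoidalCategory MonObj GrpObj AlgebraicGeometry Limits

noncomputable section

namespace Groth.Agent.Borel50

namespace Lin.Rep

variable {k : Type u} [Field k] {N : ℕ} {Γ : Type v} [Group Γ] [TopologicalSpace Γ] (Φ : Rep k Γ N)

include Φ in
/-- A closed subgroup is not conjugate into a proper subgroup of itself. -/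
theorem map_conj_eq_of_le (T : Subgroup Γ) (hT : IsClosed (T : Set Γ)) (y : Γ)
    (h : T.map (MulAut.conj y).toMonoidHom ≤ T) : T.map (MulAut.conj y).toMonoidHom = T := by
  have := Φ.noeth
  have hcl : ∀ z : Γ, IsClosed (T.map (MulAut.conj z).toMonoidHom : Set Γ) := fun z => by
    have : (T.map (MulAut.conj z).toMonoidHom : Set Γ) = (fun x => z⁻¹ * x * z) ⁻¹' (T : Set Γ) := by
      ext x
      constructor
      · rintro ⟨w, hw, rfl⟩
        simpa [_root_.mul_assoc] using hw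
      · intro hx
        exact ⟨_, hx, by simp [_root_.mul_assoc]⟩
    rw [this]
    exact hT.preimage ((Φ.continuous_mul_right z).comp (Φ.good.left z⁻¹))
  obtain ⟨C, ⟨i, hi⟩, hmin⟩ := wellFounded_lt.has_min
    {C : TopologicalSpace.Closeds Γ | ∃ i : ℕ, (C : Set Γ) = T.map (MulAut.conj (y ^ i)).toMonoidHom}
    ⟨⟨_, hcl (y ^ 0)⟩, 0, rfl⟩
  have hle : T.map (MulAut.conj (y ^ (i + 1))).toMonoidHom ≤ T.map (MulAut.conj (y ^ i)).toMonoidHom := by
    rw [pow_succ, ← map_conj_map_conj]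
    exact Subgroup.map_mono h
  have heq : T.map (MulAut.conj (y ^ (i + 1))).toMonoidHom = T.map (MulAut.conj (y ^ i)).toMonoidHom := by
    refine le_antisymm hle fun x hx => ?_
    by_contra hne
    refine hmin ⟨_, hcl (y ^ (i + 1))⟩ ⟨i + 1, rfl⟩ (lt_of_le_of_ne (show (_ : Set Γ) ⊆ C from hi.symm ▸ hle) fun e => hne ?_)
    have e' := congrArg (fun D : TopologicalSpace.Closeds Γ => (D : Set Γ)) e
    exact (Set.ext_iff.1 (e'.trans hi) x).2 hx
  rw [pow_succ, ← map_conj_map_conj] at heq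
  exact Subgroup.map_injective (MulEquiv.injective _) heq

end Lin.Rep

namespace TorusImage

open Groth.Agent.Borel50.Pts Groth.Agent.Borel50.Lin Groth.Agent.Borel50.Density

attribute [local instance] ptTop

variable {k : Type u} [Field k] [IsAlgClosed k] {G Q : Over (Spec (CommRingCat.of k))} [GrpObj G] [GrpObj Q]
  [IsAffine G.left] [Smooth G.hom] [ConnectedSpace G.left] [IsAffine Q.left] [Smooth Q.hom] [ConnectedSpace Q.left]

/-- Every toral subgroup of the image is conjugate into the image of a maximal torus. -/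
theorem exists_conj_le (q : G ⟶ Q) [IsMonHom q] [Surjective q.left] {M : ℕ} (Ψ : Rep k (Pt Q) M) {N : ℕ}
    (Φ : Rep k (Pt G) N) {T : Subgroup (Pt G)} (hT : Φ.IsToral T) (hmax : ∀ S, Φ.IsToral S → T ≤ S → S = T)
    (hTim : Ψ.IsToral (T.map (ptHom q))) {S : Subgroup (Pt Q)} (hS : Ψ.IsToral S) :
    ∃ y, S.map (MulAut.conj y).toMonoidHom ≤ T.map (ptHom q) := by
  classical
  have := FixedPt.qc_G G
  have := FixedPt.qc_G Q
  obtain ⟨B, _, iB, hB⟩ := Conj.exists_borel G
  have := hB.1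
  have := hB.2.1
  have := hB.2.2.1
  have := hB.2.2.2.1
  have : IsAffine B.left := isAffine_of_isAffineHom iB.left
  have := FixedPt.qc_G B
  have := GrpScheme.HomFlat.isReduced_of_smooth B.hom
  have := preconnectedSpace_pt (G := B)
  obtain ⟨a, ha⟩ := ToralConj.conj_into_borel iB hB hT
  obtain ⟨B', _, iB', p, _, _, _, hp⟩ := Conseq.exists_image (iB ≫ q)
  obtain ⟨hps, hpe⟩ := hp ‹_›
  have := hps
  have hB' := Conseq.isBorelOver_image q iB hB iB' p hpe
  have := hB'.2.2.2.1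
  have : IsSeparated B'.hom := GrpScheme.IdComponent.isSeparated B'
  have : LocallyOfFiniteType B'.hom := by rw [← Over.w iB']; infer_instance
  set T₀ := T.map (MulAut.conj a).toMonoidHom with hT₀def
  have hT₀ : Φ.IsToral T₀ := hT.map_conj a
  have hmax₀ : ∀ R, Φ.IsToral R → T₀ ≤ R → R = T₀ := fun R hR hle => by
    have h := hmax (R.map (MulAut.conj a⁻¹).toMonoidHom) (hR.map_conj a⁻¹)
      fun r hr => ⟨a * r * a⁻¹, hle ⟨r, hr, rfl⟩, by simp [_root_.mul_assoc]⟩
    rw [hT₀def, ← h, Rep.map_conj_map_conj, mul_inv_cancel, map_one]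
    exact (Subgroup.map_id R).symm
  have hImT₀ : T₀.map (ptHom q) = (T.map (ptHom q)).map (MulAut.conj (ptHom q a)).toMonoidHom := by
    rw [hT₀def, Subgroup.map_map, Subgroup.map_map]
    congr 1
    ext x
    simp [MonObj.mul_comp, GrpObj.inv_comp]
  have hTim₀ : Ψ.IsToral (T₀.map (ptHom q)) := by rw [hImT₀]; exact hTim.map_conj _
  -- the two Borel subgroups, triangularised
  set BC := (ptHom iB).range with hBCdef
  have hBC : IsClosed (BC : Set (Pt G)) := Density.isClosed_range iB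
  have : PreconnectedSpace BC := Subtype.preconnectedSpace (Density.isPreconnected_range iB)
  obtain ⟨d, hd⟩ := Solvable.points_of_isSolvableGrp hB.2.2.2.2.1
  have hBsol : derivedSeries BC d = ⊥ := by
    rw [eq_bot_iff, ← map_derivedSeries_eq (MonoidHom.rangeRestrict_surjective (ptHom iB)) d, hd, Subgroup.map_bot]
  obtain ⟨P, P', hPP, hup⟩ := (Φ.restrict BC hBC).exists_upper hBsol
  let ΦB := (Φ.restrict BC hBC).conj P P' hPP
  obtain ⟨T₁, h₁, hcov₁⟩ := ΦB.exists_toral_lift hup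
  obtain ⟨v, hv⟩ := Rep.exists_conj_eq (Φ := ΦB) hup h₁ hcov₁ ((hT₀.subgroupOf hBC ha).to_conj hPP)
    fun R hR hle => by
      have h := hmax₀ (R.map BC.subtype) hR.of_conj.map_subtype fun x hx => ⟨⟨x, ha hx⟩, hle (show _ ∈ T₀ from hx), rfl⟩
      rw [← h]
      exact (Subgroup.comap_map_eq_self_of_injective (Subgroup.subtype_injective BC) R).symm
  set BC' := (ptHom iB').range with hBC'def
  have hBC' : IsClosed (BC' : Set (Pt Q)) := Density.isClosed_range iB'
  have : PreconnectedSpace BC' := Subtype.preconnectedSpace (Density.isPreconnected_range iB')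
  obtain ⟨d', hd'⟩ := Solvable.points_of_isSolvableGrp hB'.2.2.2.2.1
  have hBsol' : derivedSeries BC' d' = ⊥ := by
    rw [eq_bot_iff, ← map_derivedSeries_eq (MonoidHom.rangeRestrict_surjective (ptHom iB')) d', hd', Subgroup.map_bot]
  obtain ⟨R, R', hRR, hup'⟩ := (Ψ.restrict BC' hBC').exists_upper hBsol'
  let ΨB := (Ψ.restrict BC' hBC').conj R R' hRR
  have hT₀le : T₀.map (ptHom q) ≤ BC' := by
    rintro _ ⟨t, ht, rfl⟩
    obtain ⟨w, rfl⟩ := ha ht
    exact ⟨w ≫ p, show (w ≫ p) ≫ iB' = (w ≫ iB) ≫ q by rw [Category.assoc, Category.assoc, hpe]⟩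
  have hcov : ∀ y : BC', ∃ t ∈ (T₀.map (ptHom q)).subgroupOf BC', ΨB.diagHom hup' t = ΨB.diagHom hup' y := by
    rintro ⟨_, c, rfl⟩
    obtain ⟨b, rfl⟩ := Cartan.exists_pt_of_mem p c (hps.surj (pt c))
    let bB : BC := ⟨b ≫ iB, b, rfl⟩
    obtain ⟨t₁, ht₁, he⟩ := hcov₁ bB
    rw [← hv] at ht₁
    obtain ⟨t, ht, rfl⟩ := ht₁
    have hu : t⁻¹ * bB ∈ ΦB.unipotent hup 1 := ΦB.mem_unipotent_of_diag (by
      rw [map_mul, ← he]
      show ΦB.diagHom hup t⁻¹ * ΦB.diagHom hup (v * t * v⁻¹) = 1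
      calc _ = (ΦB.diagHom hup t⁻¹ * ΦB.diagHom hup t) * (ΦB.diagHom hup v * ΦB.diagHom hup v⁻¹) := by
            simp only [map_mul]; ring
        _ = 1 := by rw [← map_mul, ← map_mul, inv_mul_cancel, mul_inv_cancel, map_one, _root_.mul_one])
    refine ⟨⟨(t : Pt G) ≫ q, hT₀le ⟨_, ht, rfl⟩⟩, ⟨_, ht, rfl⟩, ?_⟩
    let y : BC' := ⟨(b ≫ p) ≫ iB', b ≫ p, rfl⟩
    let z : BC' := ⟨(t : Pt G) ≫ q, hT₀le ⟨_, ht, rfl⟩⟩
    suffices h : z⁻¹ * y ∈ ΨB.unipotent hup' 1 by
      have e := ΨB.diag_of_mem_unipotent h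
      rw [map_mul] at e
      calc ΨB.diagHom hup' z = ΨB.diagHom hup' z * (ΨB.diagHom hup' z⁻¹ * ΨB.diagHom hup' y) := by
            rw [e, _root_.mul_one]
        _ = ΨB.diagHom hup' y := by rw [← _root_.mul_assoc, ← map_mul, mul_inv_cancel, map_one, _root_.one_mul]
    obtain ⟨wt, hwt⟩ := t.2
    let u : Pt B := wt⁻¹ * b
    have hue : u ≫ iB = ((t⁻¹ * bB : BC) : Pt G) := by
      show (wt⁻¹ * b) ≫ iB = ((t : Pt G))⁻¹ * (b ≫ iB)
      rw [MonObj.mul_comp, GrpObj.inv_comp, show wt ≫ iB = (t : Pt G) from hwt]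
    -- transport the triangular representation to the rational points of the Borel subgroup
    let eB : Pt B ≃* BC := MonoidHom.ofInjective (Density.ptHom_injective iB)
    have hind : Topology.IsInducing (fun x : Pt B => x ≫ iB) :=
      ⟨by
        show TopologicalSpace.induced pt inferInstance =
          TopologicalSpace.induced (fun x : Pt B => x ≫ iB) (TopologicalSpace.induced pt inferInstance)
        rw [induced_compose, show (pt ∘ fun x : Pt B => x ≫ iB) = (iB.left.base : B.left → G.left) ∘ pt from rfl,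
          ← induced_compose, ← iB.left.isClosedEmbedding.isInducing.eq_induced]⟩
    have hc : Continuous eB := Topology.IsInducing.subtypeVal.continuous_iff.2 hind.continuous
    have hc' : Continuous eB.symm := hind.continuous_iff.2 (by
      convert continuous_subtype_val using 1
      funext x
      exact congrArg Subtype.val (eB.apply_symm_apply x))
    let Φ₀ := Lin.Rep.comapEquiv ΦB eB hc hc'
    have hue' : eB u = t⁻¹ * bB := Subtype.ext hue
    have hu₀ : u ∈ Φ₀.unipotent (fun x => hup (eB x)) 1 := by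
      show ΦB.ρ (eB u) - 1 ∈ fil k N 1
      rw [hue']
      exact hu
    have hnilQ : IsNilpotent (Ψ.ρ ((u ≫ iB) ≫ q) - 1) := by
      rw [Category.assoc]
      exact UnipMap.isNilpotent_map Φ₀ (fun x => hup (eB x)) Ψ (iB ≫ q) hu₀
    refine (ΨB.mem_unipotent_iff_isNilpotent hup').2 ?_
    obtain ⟨m, hm⟩ := hnilQ
    refine ⟨m, ?_⟩
    have e0 : ((z⁻¹ * y : BC') : Pt Q) = (u ≫ iB) ≫ q := by
      rw [hue]
      show ((t : Pt G) ≫ q)⁻¹ * ((b ≫ p) ≫ iB') = ((t : Pt G)⁻¹ * (b ≫ iB)) ≫ q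
      rw [MonObj.mul_comp, GrpObj.inv_comp, Category.assoc, Category.assoc, hpe]
    have e : ΨB.ρ (z⁻¹ * y) - 1 = R * (Ψ.ρ ((u ≫ iB) ≫ q) - 1) * R' := by
      rw [mul_sub, sub_mul, _root_.mul_one, mul_eq_one_comm.mp hRR, ← e0]
      rfl
    have hpow : ∀ (X : Matrix (Fin M) (Fin M) k) (j : ℕ), (R * X * R') ^ j = R * X ^ j * R' := fun X j => by
      induction j with
      | zero => rw [pow_zero, pow_zero, _root_.mul_one, mul_eq_one_comm.mp hRR]
      | succ j ih =>
        rw [pow_succ, ih, pow_succ]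
        simp only [_root_.mul_assoc]
        rw [← _root_.mul_assoc R' R, hRR, _root_.one_mul]
    rw [e, hpow, hm, mul_zero, zero_mul]
  obtain ⟨x, hx⟩ := ToralConj.conj_into_borel iB' hB' hS
  obtain ⟨S₁, hS₁, hle₁, hmax₁⟩ := ((hS.map_conj x).subgroupOf hBC' hx |>.to_conj hRR).exists_maximal
  obtain ⟨w, hw⟩ := Rep.exists_conj_eq (Φ := ΨB) hup' ((hTim₀.subgroupOf hBC' hT₀le).to_conj hRR) hcov hS₁ hmax₁
  refine ⟨(ptHom q a)⁻¹ * ((w : Pt Q) * x), ?_⟩
  rintro _ ⟨s, hs, rfl⟩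
  have h1 : (⟨x * s * x⁻¹, hx ⟨s, hs, rfl⟩⟩ : BC') ∈ S₁ := hle₁ (show _ ∈ S.map _ from ⟨s, hs, rfl⟩)
  have h2 : ((w : Pt Q) * (x * s * x⁻¹) * (w : Pt Q)⁻¹) ∈ T₀.map (ptHom q) := by
    have := hw.le ⟨_, h1, rfl⟩
    exact this
  rw [hImT₀] at h2
  obtain ⟨r, hr, hre⟩ := h2
  have : r = ((ptHom q a)⁻¹ * ((w : Pt Q) * x)) * s * ((ptHom q a)⁻¹ * ((w : Pt Q) * x))⁻¹ := by
    have hre' : ptHom q a * r * (ptHom q a)⁻¹ = (w : Pt Q) * (x * s * x⁻¹) * (w : Pt Q)⁻¹ := hre
    calc r = (ptHom q a)⁻¹ * (ptHom q a * r * (ptHom q a)⁻¹) * ptHom q a := by group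
      _ = _ := by rw [hre']; group
  show ((ptHom q a)⁻¹ * ((w : Pt Q) * x)) * s * ((ptHom q a)⁻¹ * ((w : Pt Q) * x))⁻¹ ∈ T.map (ptHom q)
  rw [← this]
  exact hr

end TorusImage

end Groth.Agent.Borel50
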