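import Groth.Agent.Borel50.GeomTorus
import Groth.Agent.S5260

/-!
# A Borel subgroup is its own normaliser, as a scheme
-/

set_option autoImplicit false
universe u

open CategoryTheory MonoidalCategory CartesianMonoidalCategory MonObj GrpObj AlgebraicGeometry Limits

noncomputable section

namespace Groth.Agent.Borel50.NormalizerScheme

open Groth.Agent.Borel50.Pts Groth.Agent.Borel50.Lin Groth.Agent.Borel50.Density
open Groth.Agent.DiagRig (bcTr bcUn bcTr_bcUn bcTr_map bcTr_mul bcTr_injective bcTr_comp bcTr_inv)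

attribute [local instance] ptTop

variable {k : Type u} [Field k] [IsAlgClosed k] {G B : Over (Spec (CommRingCat.of k))} [GrpObj G] [GrpObj B]
  [IsAffine G.left] [Smooth G.hom] [ConnectedSpace G.left]

/-- A point normalising a subgroup containing a Borel subgroup and equal to its normaliser on rational points lies
in it, over any scheme. -/
theorem exists_lift_of_le (iB : B ⟶ G) [IsMonHom iB] [IsClosedImmersion iB.left] [Smooth B.hom] [ConnectedSpace B.left]
    {B₀ : Over (Spec (CommRingCat.of k))} [GrpObj B₀] (b₀ : B₀ ⟶ G) [IsMonHom b₀] (hB₀ : Red.IsBorelOver k b₀)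
    (hb₀ : (ptHom b₀).range ≤ (ptHom iB).range)
    (hN' : Subgroup.normalizer ((ptHom iB).range : Set (Pt G)) = (ptHom iB).range) {X : Over (Spec (CommRingCat.of k))} (g : X ⟶ G)
    (hg : ∀ (X' : Over (Spec (CommRingCat.of k))) (x : X' ⟶ X) (h : X' ⟶ B),
      (∃ h' : X' ⟶ B, (x ≫ g) * (h ≫ iB) * (x ≫ g)⁻¹ = h' ≫ iB) ∧
      (∃ h' : X' ⟶ B, (x ≫ g)⁻¹ * (h ≫ iB) * (x ≫ g) = h' ≫ iB)) :
    ∃ z : X ⟶ B, z ≫ iB = g := by
  have := FixedPt.qc_G G
  have : IsSeparated G.hom := GrpScheme.IdComponent.isSeparated G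
  have : Mono iB := Over.mono_of_mono_left iB
  have : IsAffine B.left := isAffine_of_isAffineHom iB.left
  have := FixedPt.qc_G B
  have : IsSeparated B.hom := GrpScheme.IdComponent.isSeparated B
  have := GrpScheme.HomFlat.isReduced_of_smooth B.hom
  have := GrpScheme.HomFlat.isReduced_of_smooth G.hom
  -- the normaliser scheme
  obtain ⟨N, _, j, hj, hjc, -⟩ := S5260.result G B (fun s =>
    BaseChange.connectedSpace_bc (K := (Spec (CommRingCat.of k)).residueField s)
      ((Spec (CommRingCat.of k)).fromSpecResidueField s) B) iB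
  have := hj.1
  have := hj.2.1
  suffices hN : ∃ z : N ⟶ B, z ≫ iB = j by
    obtain ⟨w, hw⟩ := (hj.2.2 X g).2 hg
    obtain ⟨z, hz⟩ := hN
    exact ⟨w ≫ z, by rw [Category.assoc, hz, hw]⟩
  have hnorm := (hj.2.2 N j).1 ⟨𝟙 N, Category.id_comp _⟩
  have : LocallyOfFiniteType N.hom := by rw [← Over.w j]; infer_instance
  have : QuasiCompact N.hom := by rw [← Over.w j]; infer_instance
  have hNpts : ∀ n : Pt N, n ≫ j ∈ (ptHom iB).range := by
    intro n
    rw [← hN']
    refine Subgroup.mem_normalizer_iff.2 fun y => ?_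
    constructor
    · rintro ⟨b, rfl⟩
      obtain ⟨b', hb'⟩ := (hnorm _ n b).1
      exact ⟨b', hb'.symm⟩
    · rintro ⟨b, hb⟩
      obtain ⟨b', hb'⟩ := (hnorm _ n b).2
      refine ⟨b', (?_ : b' ≫ iB = y)⟩
      have hb'' : b ≫ iB = (n ≫ j) * y * (n ≫ j)⁻¹ := hb
      rw [← hb', hb'']
      group
  -- a maximal torus of the Borel subgroup and its centraliser
  obtain ⟨M, ⟨Φ⟩⟩ := exists_rep (G := G)
  obtain ⟨T₀, hT₀, -, hmax₀⟩ := Φ.isToral_bot.exists_maximal
  obtain ⟨a, ha'⟩ := ToralConj.conj_into_borel b₀ hB₀ hT₀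
  have ha := ha'.trans hb₀
  obtain ⟨T, _, iT, _, _, _, hT, hTr⟩ := Torus.exists_torus (hT₀.map_conj a)
  have : IsAffineHom G.hom := isAffineHom_of_isAffine _
  obtain ⟨C, _, c, hc, hcl, hCs⟩ := S5247.result T G (DiagRig.multTypeFT_of_torus hT) ‹_› ‹_› iT
  have := hc.1
  have := GrpScheme.HomFlat.isReduced_of_smooth C.hom
  obtain ⟨_, _, _, _, -, -⟩ := TorusSch.torus_facts hT
  have := GrpScheme.HomFlat.isReduced_of_smooth T.hom
  have hle := TorusBorel.centralizer_le b₀ hB₀ (hT₀.map_conj a) (fun R hR hRle => by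
    have h := hmax₀ (R.map (MulAut.conj a⁻¹).toMonoidHom) (hR.map_conj a⁻¹)
      fun r hr => ⟨a * r * a⁻¹, hRle ⟨r, hr, rfl⟩, by simp [_root_.mul_assoc]⟩
    rw [← h, Rep.map_conj_map_conj, mul_inv_cancel, map_one]
    exact (Subgroup.map_id R).symm) ha'
  obtain ⟨l, hl⟩ := factor_of_points c iB fun w => by
    obtain ⟨b, hb⟩ := hb₀ (hle (x := w ≫ c) (by
      rw [← hTr, ← Centralizer.range_eq_centralizer iT hT c hc]; exact ⟨w, rfl⟩))
    exact mem_range_of_factor hb
  obtain ⟨t, ht⟩ := factor_of_points iT iB fun w => by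
    obtain ⟨b, hb⟩ := ha (x := w ≫ iT) (by rw [← hTr]; exact ⟨w, rfl⟩)
    exact mem_range_of_factor hb
  have : IsMonHom t :=
    { one_hom := by rw [← cancel_mono iB, Category.assoc, ht, IsMonHom.one_hom, IsMonHom.one_hom]
      mul_hom := by
        rw [← cancel_mono iB, Category.assoc, Category.assoc, ht, IsMonHom.mul_hom, IsMonHom.mul_hom,
          MonoidalCategory.tensorHom_comp_tensorHom_assoc, ht] }
  -- over the normaliser, the torus and its conjugate
  let q := N.hom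
  let nn : ∀ Y : Over N.left, (Over.map q).obj Y ⟶ N := fun Y => Over.homMk Y.hom rfl
  have hnn : ∀ {Y Y' : Over N.left} (x : Y' ⟶ Y), (Over.map q).map x ≫ nn Y = nn Y' := fun x =>
    Over.OverMorphism.ext (Over.w x)
  obtain ⟨w, hw⟩ := (hnorm _ (nn (Red.bc q T)) (DiagRig.canK q T ≫ t)).2
  let u₂ : Red.bc q T ⟶ Red.bc q B := bcUn q w
  have hu₂ : ∀ {Y : Over N.left} (h : Y ⟶ Red.bc q T), bcTr q (h ≫ u₂) ≫ iB =
      (nn Y ≫ j)⁻¹ * (bcTr q h ≫ iT) * (nn Y ≫ j) := by
    intro Y h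
    rw [bcTr_comp, bcTr_bcUn, Category.assoc, ← hw]
    simp only [MonObj.comp_mul, GrpObj.comp_inv]
    rw [← Category.assoc _ (nn _) j, hnn]
    simp only [Category.assoc, ht]
    rw [← Category.assoc _ (DiagRig.canK q T), ← bcTr_comp, Category.comp_id]
  have hT' := AbSch51.TorusToProper.isTorus_bc q hT
  have hu₂m : IsMonHom u₂ := DiagRig.isMonHom_of_pts _ fun Y x y => bcTr_injective q ((cancel_mono iB).1 (by
    rw [hu₂, bcTr_mul, bcTr_mul, MonObj.mul_comp, MonObj.mul_comp, hu₂, hu₂]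
    group))
  let u₁ : Red.bc q T ⟶ Red.bc q B := (Over.pullback q).map t
  have hu₁m : IsMonHom u₁ := DiagRig.isMonHom_bcMap q t
  have : Smooth (Red.bc q B).hom := inferInstanceAs (Smooth (pullback.snd B.hom q))
  have : IsSeparated (Red.bc q B).hom := inferInstanceAs (IsSeparated (pullback.snd B.hom q))
  have : QuasiCompact (Red.bc q B).hom := inferInstanceAs (QuasiCompact (pullback.snd B.hom q))
  obtain ⟨Z, jZ, hjZ, hZsm, hZ⟩ := DiagRig.exists_transporter u₁ u₂
    (DiagRig.splitFpqc_of_multTypeFT _ (DiagRig.multTypeFT_of_torus hT'))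
  have := hZsm inferInstance
  have : QuasiCompact Z.hom := by rw [← Over.w jZ]; infer_instance
  let π : (Over.map q).obj Z ⟶ N := nn Z
  have hπs : Surjective π.left := by
    have : LocallyOfFinitePresentation Z.hom := inferInstance
    have : JacobsonSpace N.left := LocallyOfFiniteType.jacobsonSpace N.hom
    have hopen : IsOpen (Set.range Z.hom) := Z.hom.isOpenMap.isOpen_range
    show Surjective Z.hom
    refine ⟨Set.range_eq_univ.mp (Set.eq_univ_of_forall fun z => ?_)⟩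
    by_contra hz
    obtain ⟨y, hy, hyc⟩ := nonempty_inter_closedPoints (Z := (Set.range Z.hom)ᶜ) ⟨z, hz⟩
      hopen.isClosed_compl.isLocallyClosed
    obtain ⟨n, rfl⟩ := exists_pt hyc
    obtain ⟨b, hb⟩ := hNpts n
    let Y : Over N.left := Over.mk n.left
    let e : (Over.map q).obj Y ≅ 𝟙_ (Over (Spec (CommRingCat.of k))) :=
      Over.isoMk (Iso.refl _) (by
        show 𝟙 _ ≫ _ = n.left ≫ N.hom
        rw [Category.id_comp]
        exact (Over.w n).symm)
    have hn : nn Y = e.hom ≫ n := Over.OverMorphism.ext (by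
      show n.left = 𝟙 _ ≫ n.left
      rw [Category.id_comp])
    obtain ⟨z', hz'⟩ := (hZ Y (bcUn q (e.hom ≫ b⁻¹))).2 fun Y' x h => by
      refine bcTr_injective q ((cancel_mono iB).1 ?_)
      have e1 : (Over.map q).map x ≫ e.hom ≫ n = nn Y' := by rw [← hn, hnn]
      rw [bcTr_mul, bcTr_mul, bcTr_inv, MonObj.mul_comp, MonObj.mul_comp, GrpObj.inv_comp, hu₂, bcTr_comp,
        bcTr_bcUn, bcTr_map, Category.assoc (bcTr q h) t iB, ht, ← e1]
      have hb' : b⁻¹ ≫ iB = (n ≫ j)⁻¹ := by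
        rw [GrpObj.inv_comp]; exact congrArg _ hb
      simp only [GrpObj.inv_comp, GrpObj.comp_inv, Category.assoc, show b ≫ iB = n ≫ j from hb, _root_.inv_inv]
    exact hy ⟨z'.left (IsLocalRing.closedPoint k), by
      rw [← Scheme.Hom.comp_apply, Over.w z']; rfl⟩
  have : Flat π.left := by
    show Flat Z.hom
    infer_instance
  have : QuasiCompact π.left := by
    show QuasiCompact Z.hom
    infer_instance
  refine DiagRig.exists_lift_of_fpqc iB j π ?_
  have hrel := (hZ Z jZ).1 ⟨𝟙 Z, Category.id_comp _⟩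
  let bY : (Over.map q).obj Z ⟶ B := bcTr q jZ
  obtain ⟨v, hv⟩ := (hc.2.2 _ ((π ≫ j) * (bY ≫ iB))).2 fun X' x h => by
    let Y : Over N.left := Over.mk (x.left ≫ Z.hom)
    let y : Y ⟶ Z := Over.homMk x.left rfl
    let e : X' ≅ (Over.map q).obj Y := Over.isoMk (Iso.refl _) (by
      show 𝟙 _ ≫ (x.left ≫ Z.hom) ≫ N.hom = X'.hom
      rw [Category.id_comp, Category.assoc]
      exact Over.w x)
    have hxy : x = e.hom ≫ (Over.map q).map y := by
      ext1
      exact (Category.id_comp _).symm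
    have h1 := congrArg (fun m => e.hom ≫ bcTr q m ≫ iB) (hrel Y y (bcUn q (e.inv ≫ h)))
    simp only [hu₂, u₁, bcTr_mul, bcTr_inv, bcTr_map, MonObj.mul_comp, GrpObj.inv_comp] at h1
    rw [bcTr_bcUn, bcTr_comp] at h1
    simp only [MonObj.comp_mul, GrpObj.comp_inv, Category.assoc, ht, Iso.hom_inv_id_assoc] at h1
    rw [← hnn y] at h1
    simp only [← Category.assoc, ← hxy] at h1
    simp only [MonObj.comp_mul, ← Category.assoc]
    calc (x ≫ π) ≫ j * ((x ≫ bY) ≫ iB) * (h ≫ iT)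
        = (x ≫ π) ≫ j * (((x ≫ bY) ≫ iB) * (h ≫ iT) * ((x ≫ bY) ≫ iB)⁻¹) * ((x ≫ bY) ≫ iB) := by group
      _ = (x ≫ π) ≫ j * (((x ≫ π) ≫ j)⁻¹ * (h ≫ iT) * ((x ≫ π) ≫ j)) * ((x ≫ bY) ≫ iB) := by rw [h1]
      _ = (h ≫ iT) * ((x ≫ π) ≫ j * ((x ≫ bY) ≫ iB)) := by group
  refine ⟨(v ≫ l) * bY⁻¹, ?_⟩
  rw [MonObj.mul_comp, GrpObj.inv_comp, Category.assoc, hl, hv, mul_inv_cancel_right]

/-- A point normalising a Borel subgroup, over any scheme, lies in it. -/
theorem exists_lift (iB : B ⟶ G) (hB : Red.IsBorelOver k iB) {X : Over (Spec (CommRingCat.of k))} (g : X ⟶ G)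
    (hg : ∀ (X' : Over (Spec (CommRingCat.of k))) (x : X' ⟶ X) (h : X' ⟶ B),
      (∃ h' : X' ⟶ B, (x ≫ g) * (h ≫ iB) * (x ≫ g)⁻¹ = h' ≫ iB) ∧
      (∃ h' : X' ⟶ B, (x ≫ g)⁻¹ * (h ≫ iB) * (x ≫ g) = h' ≫ iB)) :
    ∃ z : X ⟶ B, z ≫ iB = g := by
  have := hB.1
  have := hB.2.1
  have := hB.2.2.1
  have := hB.2.2.2.1
  exact exists_lift_of_le iB iB hB le_rfl (Normalizer.mem_of_normalizes iB hB) g hg

end Groth.Agent.Borel50.NormalizerScheme
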