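import Groth.Agent.GrpdLib.AffHomogeneous
import Groth.Agent.Borel50.Pts
import Groth.Agent.ProjProper.Basic

/-!
# The action of an affine group on projective space by a comultiplicative matrix
-/

set_option autoImplicit false
set_option backward.isDefEq.respectTransparency false
universe w u

open CategoryTheory MonoidalCategory CartesianMonoidalCategory MonObj GrpObj AlgebraicGeometry Limits WithConv MvPolynomial

noncomputable section

namespace Groth.Agent.Borel50.ProjAct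


open Groth.Agent.GrpdLib.AffHomogeneous (specG gam ptEquiv comp_ptEquiv algebraMap_comm)
open Groth.Agent.GrpScheme.Basic (smul comp_smul)

variable {k : Type u} [Field k]

attribute [local instance] UnipLib.algOf

/-- Projective space over `k`. -/
abbrev Pn (k : Type u) [Field k] (n : ℕ) : Over (Spec (CommRingCat.of k)) := Over.mk (Chow.str n k)

variable {n : ℕ}

/-- Evaluation at a vector of functions. -/
abbrev evT (T : Over (Spec (CommRingCat.of k))) (v : Fin (n + 1) → Γ(T.left, ⊤)) :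
    MvPolynomial (Fin (n + 1)) k →+* Γ(T.left, ⊤) :=
  eval₂Hom (algebraMap k Γ(T.left, ⊤)) v

lemma evT_X (T : Over (Spec (CommRingCat.of k))) (v : Fin (n + 1) → Γ(T.left, ⊤)) :
    (fun i => evT T v (X i)) = v := funext fun i => eval₂Hom_X' _ _ i

lemma evT_C (T : Over (Spec (CommRingCat.of k))) (v : Fin (n + 1) → Γ(T.left, ⊤)) :
    (evT T v).comp C = algebraMap k Γ(T.left, ⊤) := RingHom.ext fun r => eval₂Hom_C _ _ r

lemma str_eq (T : Over (Spec (CommRingCat.of k))) :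
    T.left.toSpecΓ ≫ Spec.map (CommRingCat.ofHom (algebraMap k Γ(T.left, ⊤))) = T.hom :=
  Over.w (UnipLib.toGamma T)

/-- The point with given unimodular coordinates. -/
def mk (T : Over (Spec (CommRingCat.of k))) (v : Fin (n + 1) → Γ(T.left, ⊤))
    (h : Ideal.span (Set.range v) = ⊤) : T ⟶ Pn k n :=
  Over.homMk (GrpdLib.ProjVec.vecHom (evT T v) (by rw [evT_X]; exact h)) (by
    show GrpdLib.ProjVec.vecHom _ _ ≫ Chow.str n k = _
    rw [GrpdLib.ProjVec.vecHom_str, evT_C, str_eq])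

lemma mk_congr {T : Over (Spec (CommRingCat.of k))} {v w : Fin (n + 1) → Γ(T.left, ⊤)} (e : v = w)
    (hv : Ideal.span (Set.range v) = ⊤) (hw : Ideal.span (Set.range w) = ⊤) : mk T v hv = mk T w hw := by
  subst e; rfl

lemma span_gam {T T' : Over (Spec (CommRingCat.of k))} (g : T' ⟶ T) {v : Fin (n + 1) → Γ(T.left, ⊤)}
    (h : Ideal.span (Set.range v) = ⊤) : Ideal.span (Set.range fun i => gam g (v i)) = ⊤ := by
  have := congrArg (Ideal.map (gam g).toRingHom) h
  rwa [Ideal.map_span, Ideal.map_top, ← Set.range_comp] at this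

lemma comp_mk {T T' : Over (Spec (CommRingCat.of k))} (g : T' ⟶ T) (v : Fin (n + 1) → Γ(T.left, ⊤))
    (h : Ideal.span (Set.range v) = ⊤) : g ≫ mk T v h = mk T' (fun i => gam g (v i)) (span_gam g h) := by
  refine Over.OverMorphism.ext ?_
  show g.left ≫ GrpdLib.ProjVec.vecHom (evT T v) (by rw [evT_X]; exact h) =
    GrpdLib.ProjVec.vecHom (evT T' fun i => gam g (v i)) (by rw [evT_X]; exact span_gam g h)
  rw [GrpdLib.ProjVec.vecHom_naturality]
  congr 1
  refine MvPolynomial.ringHom_ext (fun r => ?_) fun j => ?_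
  · simp only [GrpdLib.ProjVec.res, RingHom.comp_apply, eval₂Hom_C]
    exact algebraMap_comm g r
  · simp only [GrpdLib.ProjVec.res, RingHom.comp_apply, eval₂Hom_X']
    rfl

lemma mk_eq_iff {T : Over (Spec (CommRingCat.of k))} {v w : Fin (n + 1) → Γ(T.left, ⊤)}
    (hv : Ideal.span (Set.range v) = ⊤) (hw : Ideal.span (Set.range w) = ⊤) :
    mk T v hv = mk T w hw ↔ ∀ p q, v p * w q = v q * w p := by
  have h0 : mk T v hv = mk T w hw ↔ GrpdLib.ProjVec.vecHom (evT T v) (by rw [evT_X]; exact hv) =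
      GrpdLib.ProjVec.vecHom (evT T w) (by rw [evT_X]; exact hw) :=
    ⟨fun h => congrArg Over.Hom.left h, fun h => Over.OverMorphism.ext h⟩
  rw [h0, GrpdLib.ProjVec.vecHom_eq_iff _ _ (by rw [evT_C, evT_C])]
  simp only [eval₂Hom_X']

/-- The piece of a cover as an object over the base. -/
abbrev piece {T : Over (Spec (CommRingCat.of k))} (𝒰 : Scheme.OpenCover.{w} T.left) (i : 𝒰.I₀) :
    Over (Spec (CommRingCat.of k)) := Over.mk (𝒰.f i ≫ T.hom)

/-- The inclusion of a piece. -/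
abbrev pieceι {T : Over (Spec (CommRingCat.of k))} (𝒰 : Scheme.OpenCover.{w} T.left) (i : 𝒰.I₀) : piece 𝒰 i ⟶ T :=
  Over.homMk (𝒰.f i) rfl

lemma hom_ext_cover {T Y : Over (Spec (CommRingCat.of k))} (𝒰 : Scheme.OpenCover.{w} T.left) {f g : T ⟶ Y}
    (h : ∀ i, pieceι 𝒰 i ≫ f = pieceι 𝒰 i ≫ g) : f = g :=
  Over.OverMorphism.ext (𝒰.hom_ext _ _ fun i => congrArg Over.Hom.left (h i))

/-- Morphisms over the base glue along a cover. -/
theorem exists_glue {T Y : Over (Spec (CommRingCat.of k))} (𝒰 : Scheme.OpenCover.{w} T.left)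
    (φ : ∀ i, piece 𝒰 i ⟶ Y)
    (h : ∀ i j (R : Over (Spec (CommRingCat.of k))) (p : R ⟶ piece 𝒰 i) (q : R ⟶ piece 𝒰 j),
      p ≫ pieceι 𝒰 i = q ≫ pieceι 𝒰 j → p ≫ φ i = q ≫ φ j) :
    ∃ f : T ⟶ Y, ∀ i, pieceι 𝒰 i ≫ f = φ i := by
  let g : T.left ⟶ Y.left := 𝒰.glueMorphisms (fun i => (φ i).left) fun i j => by
    let R : Over (Spec (CommRingCat.of k)) := Over.mk (pullback.fst (𝒰.f i) (𝒰.f j) ≫ 𝒰.f i ≫ T.hom)
    exact congrArg Over.Hom.left (h i j R (Over.homMk (pullback.fst _ _) rfl)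
      (Over.homMk (pullback.snd _ _) (by
        show pullback.snd _ _ ≫ 𝒰.f j ≫ T.hom = _
        rw [← pullback.condition_assoc]; rfl)) (Over.OverMorphism.ext pullback.condition))
  exact ⟨Over.homMk g (𝒰.hom_ext _ _ fun i => by rw [Scheme.Cover.ι_glueMorphisms_assoc, Over.w (φ i)]; rfl),
    fun i => Over.OverMorphism.ext (Scheme.Cover.ι_glueMorphisms 𝒰 _ _ i)⟩

/-- Locally every point of projective space has unimodular coordinates. -/
theorem exists_cover {T : Over (Spec (CommRingCat.of k))} (x : T ⟶ Pn k n) :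
    ∃ 𝒰 : Scheme.OpenCover.{0} T.left, ∀ i, ∃ (v : Fin (n + 1) → Γ((piece 𝒰 i).left, ⊤))
      (h : Ideal.span (Set.range v) = ⊤), pieceι 𝒰 i ≫ x = mk _ v h := by
  have htop : ⨆ i : Fin (n + 1), Proj.basicOpen (CohB1.polyGrading n k) (X i : MvPolynomial (Fin (n + 1)) k) = ⊤ := by
    refine Proj.iSup_basicOpen_eq_top' _ _ (fun i => ⟨1, Chow.X_mem i⟩) (top_le_iff.mp fun p _ => ?_)
    induction p using MvPolynomial.induction_on with
    | C r => exact Subalgebra.algebraMap_mem _ (⟨C r, MvPolynomial.isHomogeneous_C _ _⟩ : CohB1.polyGrading n k 0)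
    | add p q hp hq => exact add_mem (hp trivial) (hq trivial)
    | mul_X p i hp => exact mul_mem (hp trivial) (Algebra.subset_adjoin ⟨i, rfl⟩)
  let 𝒰 := T.left.openCoverOfIsOpenCover
    (fun i : Fin (n + 1) => x.left ⁻¹ᵁ Proj.basicOpen (CohB1.polyGrading n k) (X i : MvPolynomial (Fin (n + 1)) k))
    (.mk (by rw [← Scheme.Hom.preimage_iSup, htop, Scheme.Hom.preimage_top]))
  refine ⟨𝒰, fun i => ?_⟩
  have hr : Set.range (𝒰.f i ≫ x.left) ⊆ Set.range (Chow.chart n k i) := by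
    rintro _ ⟨t, rfl⟩
    rw [← Scheme.Hom.coe_opensRange, Proj.opensRange_awayι]
    exact t.2
  let a : (piece 𝒰 i).left ⟶ Spec (.of <| HomogeneousLocalization.Away (CohB1.polyGrading n k) (X i : MvPolynomial (Fin (n + 1)) k)) :=
    IsOpenImmersion.lift (Chow.chart n k i) (𝒰.f i ≫ x.left) hr
  have hx : 𝒰.f i ≫ x.left = a ≫ Chow.chart n k i := (IsOpenImmersion.lift_fac _ _ hr).symm
  let v : Fin (n + 1) → Γ((piece 𝒰 i).left, ⊤) := fun j => Chow.coords i a (X j)
  have hv : Ideal.span (Set.range v) = ⊤ :=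
    (Ideal.eq_top_iff_one _).2 (Ideal.subset_span ⟨i, Chow.coords_self i a⟩)
  have hC : (Chow.coords i a).comp C = algebraMap k Γ((piece 𝒰 i).left, ⊤) := by
    apply Chow.toSpecΓ_SpecMap_injective (C := CommRingCat.of k)
    rw [str_eq, ← Chow.pt_toSpec (Chow.coords i a) (Chow.X_mem i) one_pos
      (by rw [Chow.coords_self]; exact isUnit_one), ← Chow.comp_chart_eq_pt, ← hx, Category.assoc]
    exact congrArg (𝒰.f i ≫ ·) (Over.w x)
  have hev : evT (piece 𝒰 i) v = Chow.coords i a :=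
    MvPolynomial.ringHom_ext (fun r => by rw [eval₂Hom_C, ← hC, RingHom.comp_apply])
      fun j => eval₂Hom_X' _ _ j
  refine ⟨v, hv, Over.OverMorphism.ext ?_⟩
  show 𝒰.f i ≫ x.left = GrpdLib.ProjVec.vecHom (evT (piece 𝒰 i) v) (by rw [evT_X]; exact hv)
  have hu : IsUnit (GrpdLib.ProjVec.res (𝟙 _) (evT (piece 𝒰 i) v) (X i)) := by
    simp [GrpdLib.ProjVec.res, hev, Chow.coords_self]
  rw [hx, Chow.comp_chart_eq_pt, ← Category.id_comp (GrpdLib.ProjVec.vecHom _ _),
    GrpdLib.ProjVec.comp_vecHom _ _ _ i hu]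
  exact Chow.pt_congr (by rw [hev]; exact RingHom.ext fun p => by simp [GrpdLib.ProjVec.res]) rfl rfl _ _ _ _ _ _

variable {A : Type u} [CommRing A] [HopfAlgebra k A] {a : Fin (n + 1) → Fin (n + 1) → A}

/-- The matrix of a point applied to a vector. -/
def mvec (a : Fin (n + 1) → Fin (n + 1) → A) {R : Type u} [CommRing R] [Algebra k R]
    (f : WithConv (A →ₐ[k] R)) (v : Fin (n + 1) → R) (i : Fin (n + 1)) : R :=
  ∑ j, f.ofConv (a i j) * v j

lemma mvec_mul (ha : Comod.IsMat k a) {R : Type u} [CommRing R] [Algebra k R] (f g : WithConv (A →ₐ[k] R))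
    (v : Fin (n + 1) → R) : mvec a (f * g) v = mvec a f (mvec a g v) := by
  funext i
  have h : ∀ j, (f * g).ofConv (a i j) = ∑ l, f.ofConv (a i l) * g.ofConv (a l j) := fun j => by
    show (f * g) (a i j) = _
    rw [AlgHom.convMul_apply, ha.comul, map_sum]
    simp
  simp only [mvec, h, Finset.sum_mul, Finset.mul_sum, _root_.mul_assoc]
  exact Finset.sum_comm

lemma mvec_one (ha : Comod.IsMat k a) {R : Type u} [CommRing R] [Algebra k R] (v : Fin (n + 1) → R) :
    mvec a (1 : WithConv (A →ₐ[k] R)) v = v := by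
  funext i
  have h : ∀ j, (1 : WithConv (A →ₐ[k] R)).ofConv (a i j) = if i = j then 1 else 0 := fun j => by
    show (1 : WithConv (A →ₐ[k] R)) (a i j) = _
    rw [AlgHom.convOne_apply, ha.counit]
    split_ifs <;> simp
  simp [mvec, h]

lemma span_mvec (ha : Comod.IsMat k a) {T : Over (Spec (CommRingCat.of k))}
    (f : WithConv (A →ₐ[k] Γ(T.left, ⊤))) {v : Fin (n + 1) → Γ(T.left, ⊤)}
    (h : Ideal.span (Set.range v) = ⊤) : Ideal.span (Set.range (mvec a f v)) = ⊤ := by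
  refine top_le_iff.mp (h ▸ Ideal.span_le.2 ?_)
  rintro _ ⟨i, rfl⟩
  have e : v i = mvec a (GrpdLib.AffHomogeneous.inv' f) (mvec a f v) i := by
    rw [← mvec_mul ha, GrpdLib.AffHomogeneous.inv'_mul, mvec_one ha]
  rw [SetLike.mem_coe, e]
  exact Ideal.sum_mem _ fun j _ => Ideal.mul_mem_left _ _ (Ideal.subset_span ⟨j, rfl⟩)

lemma gam_mvec {T T' : Over (Spec (CommRingCat.of k))} (h : T' ⟶ T) (g : T ⟶ specG (k := k) A)
    (v : Fin (n + 1) → Γ(T.left, ⊤)) (i : Fin (n + 1)) :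
    gam h (mvec a ((ptEquiv T).symm g) v i) =
      mvec a ((ptEquiv T').symm (h ≫ g)) (fun i => gam h (v i)) i := by
  rw [comp_ptEquiv]
  simp [mvec, map_sum]

lemma cross_mvec {R : Type u} [CommRing R] [Algebra k R] (f : WithConv (A →ₐ[k] R)) {v w : Fin (n + 1) → R}
    (h : ∀ p q, v p * w q = v q * w p) (p q : Fin (n + 1)) :
    mvec a f v p * mvec a f w q = mvec a f v q * mvec a f w p := by
  simp only [mvec, Finset.sum_mul, Finset.mul_sum]
  rw [Finset.sum_comm]
  refine Finset.sum_congr rfl fun j _ => Finset.sum_congr rfl fun l _ => ?_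
  linear_combination (f.ofConv (a p j) * f.ofConv (a q l)) * h j l

/-- The morphism `G ⊗ Pⁿ ⟶ Pⁿ`. -/
theorem exists_act (ha : Comod.IsMat k a) :
    ∃ act : specG (k := k) A ⊗ Pn k n ⟶ Pn k n, ∀ (T : Over (Spec (CommRingCat.of k))) (g : T ⟶ specG (k := k) A)
      (v : Fin (n + 1) → Γ(T.left, ⊤)) (hv : Ideal.span (Set.range v) = ⊤),
      lift g (mk T v hv) ≫ act = mk T (mvec a ((ptEquiv T).symm g) v) (span_mvec ha _ hv) := by
  let W := specG (k := k) A ⊗ Pn k n
  obtain ⟨𝒰, h𝒰⟩ := exists_cover (snd (specG (k := k) A) (Pn k n))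
  choose v hv hx using h𝒰
  let g : ∀ i, piece 𝒰 i ⟶ specG (k := k) A := fun i => pieceι 𝒰 i ≫ fst _ _
  let φ : ∀ i, piece 𝒰 i ⟶ Pn k n := fun i => mk _ (mvec a ((ptEquiv _).symm (g i)) (v i)) (span_mvec ha _ (hv i))
  -- compatibility
  have key : ∀ {T : Over (Spec (CommRingCat.of k))} (w₀ : T ⟶ W) (i : 𝒰.I₀) (p : T ⟶ piece 𝒰 i)
      (_ : p ≫ pieceι 𝒰 i = w₀) (w : Fin (n + 1) → Γ(T.left, ⊤)) (hw : Ideal.span (Set.range w) = ⊤)
      (_ : w₀ ≫ snd _ _ = mk T w hw),
      p ≫ φ i = mk T (mvec a ((ptEquiv T).symm (w₀ ≫ fst _ _)) w) (span_mvec ha _ hw) := by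
    intro T w₀ i p hp w hw hw₀
    have hvw := (mk_eq_iff (span_gam p (hv i)) hw).1 (by rw [← comp_mk p (v i) (hv i), ← hx, ← Category.assoc, hp, hw₀])
    simp only [φ]
    rw [comp_mk, mk_eq_iff]
    intro q r
    simp only [gam_mvec]
    simp only [g, ← Category.assoc, hp]
    exact cross_mvec _ hvw q r
  obtain ⟨act, hact⟩ := exists_glue 𝒰 φ fun i j T p q hpq =>
    (key _ i p rfl _ (span_gam p (hv i)) (by rw [Category.assoc, hx, comp_mk])).trans
      (key _ j q hpq.symm _ (span_gam p (hv i)) (by rw [Category.assoc, hx, comp_mk])).symm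
  refine ⟨act, fun T g' w hw => ?_⟩
  let w₀ := lift g' (mk T w hw)
  let 𝒱 := Precoverage.ZeroHypercover.pullback₁ w₀.left 𝒰
  refine hom_ext_cover 𝒱 fun i => ?_
  let p : piece 𝒱 i ⟶ piece 𝒰 i := Over.homMk (pullback.snd w₀.left (𝒰.f i)) (by
    show pullback.snd _ _ ≫ 𝒰.f i ≫ W.hom = pullback.fst _ _ ≫ T.hom
    rw [← pullback.condition_assoc, Over.w w₀])
  have hp : p ≫ pieceι 𝒰 i = pieceι 𝒱 i ≫ w₀ := Over.OverMorphism.ext pullback.condition.symm
  have e := key (pieceι 𝒱 i ≫ w₀) i p hp _ (span_gam (pieceι 𝒱 i) hw) (by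
    simp only [w₀, Category.assoc, lift_snd, comp_mk])
  rw [← Category.assoc, ← hp, Category.assoc, hact, e, comp_mk]
  refine mk_congr (funext fun q => ?_) _ _
  rw [gam_mvec]
  simp only [w₀, Category.assoc, lift_fst]

/-- The linear action on projective space. -/
theorem exists_action (G : Over (Spec (CommRingCat.of k))) [GrpObj G] (e : G ≅ specG (k := k) A) [IsMonHom e.hom]
    (ha : Comod.IsMat k a) :
    ∃ b : AlgGrp.Action G (Pn k n), ∀ (T : Over (Spec (CommRingCat.of k))) (g : T ⟶ G)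
      (v : Fin (n + 1) → Γ(T.left, ⊤)) (hv : Ideal.span (Set.range v) = ⊤),
      smul b g (mk T v hv) = mk T (mvec a ((ptEquiv T).symm (g ≫ e.hom)) v) (span_mvec ha _ hv) := by
  obtain ⟨act, hact⟩ := exists_act ha
  have loc : ∀ {T : Over (Spec (CommRingCat.of k))} (x : T ⟶ Pn k n) {f f' : T ⟶ Pn k n}
      (_ : ∀ (T' : Over (Spec (CommRingCat.of k))) (p : T' ⟶ T) (v : Fin (n + 1) → Γ(T'.left, ⊤))
        (hv : Ideal.span (Set.range v) = ⊤), p ≫ x = mk T' v hv → p ≫ f = p ≫ f'), f = f' := by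
    intro T x f f' h
    obtain ⟨𝒰, h𝒰⟩ := exists_cover x
    exact hom_ext_cover 𝒰 fun i => by obtain ⟨v, hv, e⟩ := h𝒰 i; exact h _ _ v hv e
  have hone : ∀ {T : Over (Spec (CommRingCat.of k))} (x : T ⟶ Pn k n),
      lift (1 : T ⟶ specG (k := k) A) x ≫ act = x := fun {T} x => loc x fun T' p v hv e => by
    rw [comp_lift_assoc, e, MonObj.comp_one, hact]
    refine mk_congr ?_ _ _
    rw [map_one, mvec_one ha]
  have hmul : ∀ {T : Over (Spec (CommRingCat.of k))} (g h : T ⟶ specG (k := k) A) (x : T ⟶ Pn k n),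
      lift (g * h) x ≫ act = lift g (lift h x ≫ act) ≫ act := fun {T} g h x => loc x fun T' p v hv e => by
    rw [comp_lift_assoc, comp_lift_assoc, comp_lift_assoc, e, hact, hact, hact]
    refine mk_congr ?_ _ _
    rw [MonObj.comp_mul, map_mul, mvec_mul ha]
  let b : AlgGrp.Action G (Pn k n) :=
  { act := (e.hom ▷ Pn k n) ≫ act
    one_act := by
      rw [← comp_whiskerRight_assoc, IsMonHom.one_hom,
        show η[specG (k := k) A] ▷ Pn k n = lift (fst _ _ ≫ η[specG (k := k) A]) (snd _ _) from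
          CartesianMonoidalCategory.hom_ext _ _ (by simp) (by simp),
        toUnit_unique (fst (𝟙_ _) (Pn k n)) (toUnit _), ← Hom.one_def, hone]
      simp [CartesianMonoidalCategory.leftUnitor_hom]
    mul_act := by
      have e1 : (μ[G] ≫ e.hom) ▷ Pn k n = lift
          ((fst (G ⊗ G) _ ≫ fst G G ≫ e.hom) * (fst (G ⊗ G) _ ≫ snd G G ≫ e.hom)) (snd _ _) :=
        CartesianMonoidalCategory.hom_ext _ _ (by
          rw [whiskerRight_fst, lift_fst, MonObj.mul_eq_mul, MonObj.mul_comp, MonObj.comp_mul]) (by simp)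
      rw [← comp_whiskerRight_assoc, e1, hmul]
      have e2 : (α_ G G (Pn k n)).hom ≫ (G ◁ ((e.hom ▷ Pn k n) ≫ act)) ≫ (e.hom ▷ Pn k n) =
          lift (fst (G ⊗ G) _ ≫ fst G G ≫ e.hom)
            (lift (fst (G ⊗ G) _ ≫ snd G G ≫ e.hom) (snd _ _) ≫ act) := by
        refine CartesianMonoidalCategory.hom_ext _ _ (by simp) ?_
        simp only [Category.assoc, whiskerRight_snd, whiskerLeft_snd, lift_snd]
        rw [← Category.assoc, ← Category.assoc]
        congr 1
        exact CartesianMonoidalCategory.hom_ext _ _ (by simp) (by simp)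
      rw [reassoc_of% e2] }
  refine ⟨b, fun T g v hv => ?_⟩
  show lift g _ ≫ (e.hom ▷ Pn k n) ≫ act = _
  rw [lift_whiskerRight_assoc, hact]

instance isProper_Pn : IsProper (Pn k n).hom := by
  exact Groth.Agent.ProjProper.Basic.isProper_toSpec n k

end Groth.Agent.Borel50.ProjAct
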