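import Groth.Agent.Borel50.Lin.Stab
import Groth.Agent.Borel50.Lin.TorusSch
import Groth.Agent.Borel50.Centralizer
import Groth.Agent.UnipLib.Descent

/-!
# Closed subgroups of an affine group as stabilisers, with regular functions
-/

set_option autoImplicit false
universe u

open CategoryTheory MonoidalCategory CartesianMonoidalCategory MonObj GrpObj AlgebraicGeometry Limits
open WithConv

noncomputable section

namespace Groth.Agent.Borel50.StabPts

open Groth.Agent.Borel50.Pts Groth.Agent.Borel50.Lin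

attribute [local instance] ptTop LieKolchin.zariski

variable {k : Type u} [Field k] [IsAlgClosed k] {G : Over (Spec (CommRingCat.of k))} [GrpObj G]
  [IsAffine G.left] [Smooth G.hom]

/-- A closed subgroup of rational points is a stabiliser in a representation all whose functions are regular. -/
theorem exists_stab (H : Subgroup (Pt G)) (hH : IsClosed (H : Set (Pt G))) :
    ∃ (N d : ℕ) (Φ : Rep k (Pt G) N) (J : Matrix (Fin N) (Fin d) k) (L : Matrix (Fin d) (Fin N) k),
      L * J = 1 ∧ (∀ g, g ∈ H ↔ Φ.ρ g * J = J * (L * Φ.ρ g * J)) ∧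
      ∀ f f' : MvPolynomial (Fin N × Fin N) k, ∃ (Q : Over (Spec (CommRingCat.of k))) (φ : G ⟶ Q),
        IsAffine Q.left ∧ LocallyOfFiniteType Q.hom ∧ ∀ g g' : Pt G, g ≫ φ = g' ≫ φ ↔
          ev f (Φ.ρ g) * ev f' (Φ.ρ g⁻¹) = ev f (Φ.ρ g') * ev f' (Φ.ρ g'⁻¹) := by
  have := GrpScheme.HomFlat.isReduced_of_smooth G.hom
  obtain ⟨A, hA, e, he⟩ := AffGrp.Bridge.exists_iso (R := CommRingCat.of k) G
  have : Algebra.FiniteType k A := TorusSch.finiteType_of_model e
  have : IsIso e.hom.left := inferInstanceAs (IsIso ((Over.forget _).map e.hom))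
  have : IsReduced (Spec A) := by
    let φ : Spec A ⟶ G.left := e.hom.left
    have : IsIso φ := ‹IsIso e.hom.left›
    exact isReduced_of_isOpenImmersion φ
  have : _root_.IsReduced A := (affine_isReduced_iff A).1 inferInstance
  let Sk := Spec (CommRingCat.of k)
  let ee : (Spec (CommRingCat.of k)).asOver Sk ≅ 𝟙_ (Over Sk) :=
    Over.isoMk (Iso.refl _) (by
      show 𝟙 _ ≫ 𝟙 _ = Spec.map (CommRingCat.ofHom (algebraMap k k))
      simp)
  let ψ : Pt G ≃* LieKolchin.Pts k A :=
    { toFun := fun g => Spec.mapMulEquiv.symm (ee.hom ≫ g ≫ e.inv)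
      invFun := fun w => ee.inv ≫ Spec.mapMulEquiv w ≫ e.hom
      left_inv := fun g => by simp
      right_inv := fun w => by
        show Spec.mapMulEquiv.symm (ee.hom ≫ (ee.inv ≫ Spec.mapMulEquiv w ≫ e.hom) ≫ e.inv) = w
        simp
      map_mul' := fun g h => by
        rw [← map_mul, ← MonObj.comp_mul, ← MonObj.mul_comp] }
  have hψ : ∀ g : Pt G, Spec.mapMulEquiv (ψ g) = ee.hom ≫ g ≫ e.inv := fun g => MulEquiv.apply_symm_apply _ _
  have hprime : ∀ w : LieKolchin.Pts k A, LieKolchin.toPrime w =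
      (Spec.mapMulEquiv w).left.base (IsLocalRing.closedPoint k) := fun w => by
    refine PrimeSpectrum.ext (Ideal.ext fun a => ?_)
    show a ∈ RingHom.ker w.ofConv.toRingHom ↔ w.ofConv.toRingHom a ∈ IsLocalRing.maximalIdeal k
    rw [RingHom.mem_ker, IsLocalRing.maximalIdeal_eq_bot, Ideal.mem_bot]
  have hc : Continuous ψ := continuous_induced_rng.2 (by
    rw [show LieKolchin.toPrime ∘ ψ = e.inv.left.base ∘ pt from funext fun g => by
      show LieKolchin.toPrime (ψ g) = _
      rw [hprime, hψ]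
      rfl]
    exact e.inv.left.continuous.comp continuous_induced_dom)
  have hc' : Continuous ψ.symm := continuous_induced_rng.2 (by
    rw [show pt ∘ ψ.symm = e.hom.left.base ∘ LieKolchin.toPrime from funext fun w => by
      show pt (ee.inv ≫ Spec.mapMulEquiv w ≫ e.hom) = e.hom.left.base (LieKolchin.toPrime w)
      rw [hprime]
      rfl]
    exact e.hom.left.continuous.comp continuous_induced_dom)
  obtain ⟨N, d, Φ, c, J, L, hLJ, hρ, hstab⟩ := Lin.Stab.exists_stab (k := k) (A := A)
    (H.comap ψ.symm.toMonoidHom) (hH.preimage hc')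
  refine ⟨N, d, Φ.comapEquiv ψ hc hc', J, L, hLJ, fun g => ?_, fun f f' => ?_⟩
  · have := hstab (ψ g)
    rw [Subgroup.mem_comap, MulEquiv.coe_toMonoidHom, MulEquiv.symm_apply_apply] at this
    exact this
  let cc : Fin N × Fin N → A := fun p => c p.1 p.2
  let a : A := MvPolynomial.aeval cc f * HopfAlgebra.antipodeAlgHom k A (MvPolynomial.aeval cc f')
  have hev : ∀ (w : LieKolchin.Pts k A) (q : MvPolynomial (Fin N × Fin N) k),
      ev q (Φ.ρ w) = w.ofConv (MvPolynomial.aeval cc q) := fun w q => by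
    show MvPolynomial.eval (fun p : Fin N × Fin N => Φ.ρ w p.1 p.2) q = _
    rw [← AlgHom.comp_apply, MvPolynomial.comp_aeval, MvPolynomial.aeval_eq_eval,
      show (fun p : Fin N × Fin N => Φ.ρ w p.1 p.2) = fun p => w.ofConv (cc p) from
        funext fun p => hρ w p.1 p.2]
  have hval : ∀ g : Pt G, ev f ((Φ.comapEquiv ψ hc hc').ρ g) * ev f' ((Φ.comapEquiv ψ hc hc').ρ g⁻¹) =
      (ψ g).ofConv a := fun g => by
    show ev f (Φ.ρ (ψ g)) * ev f' (Φ.ρ (ψ g⁻¹)) = _
    have hinv : ψ g⁻¹ = toConv ((ψ g).ofConv.comp (HopfAlgebra.antipodeAlgHom k A)) := by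
      rw [map_inv]
      exact inv_eq_of_mul_eq_one_right (by simpa using UnipLib.mul_comp_antipode (ψ g).ofConv)
    rw [hev, hev, hinv, map_mul]
    rfl
  let π : Polynomial k →ₐ[k] A := Polynomial.aeval a
  let Q : Over Sk := (Spec (CommRingCat.of (Polynomial k))).asOver Sk
  let fa : (Spec A).asOver Sk ⟶ Q := Over.homMk (Spec.map (CommRingCat.ofHom π.toRingHom)) (by
    show Spec.map _ ≫ Spec.map _ = Spec.map _
    rw [← Spec.map_comp]
    congr 1
    ext r
    exact π.commutes r)
  refine ⟨Q, e.inv ≫ fa, inferInstanceAs (IsAffine (Spec (CommRingCat.of (Polynomial k)))), ?_, fun g g' => ?_⟩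
  · show LocallyOfFiniteType (Spec.map (CommRingCat.ofHom (algebraMap k (Polynomial k))))
    rw [HasRingHomProperty.Spec_iff (P := @LocallyOfFiniteType)]
    exact RingHom.finiteType_algebraMap.2 inferInstance
  have key : ∀ g : Pt G, g ≫ e.inv ≫ fa = ee.inv ≫ Spec.mapMulEquiv (ψ g) ≫ fa := fun g => by
    rw [hψ]
    simp
  rw [hval, hval, key, key, cancel_epi]
  constructor
  · intro h
    have h1 : Spec.map (CommRingCat.ofHom (ψ g).ofConv.toRingHom) ≫ Spec.map (CommRingCat.ofHom π.toRingHom) =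
        Spec.map (CommRingCat.ofHom (ψ g').ofConv.toRingHom) ≫ Spec.map (CommRingCat.ofHom π.toRingHom) :=
      congrArg CommaMorphism.left h
    rw [← Spec.map_comp, ← Spec.map_comp] at h1
    have h2 : (ψ g).ofConv (π Polynomial.X) = (ψ g').ofConv (π Polynomial.X) :=
      congrArg (fun m => m.hom Polynomial.X) (Spec.map_injective h1)
    simpa [π] using h2
  · intro h
    refine Over.OverMorphism.ext ?_
    show Spec.map (CommRingCat.ofHom (ψ g).ofConv.toRingHom) ≫ Spec.map (CommRingCat.ofHom π.toRingHom) =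
        Spec.map (CommRingCat.ofHom (ψ g').ofConv.toRingHom) ≫ Spec.map (CommRingCat.ofHom π.toRingHom)
    rw [← Spec.map_comp, ← Spec.map_comp]
    congr 1
    refine CommRingCat.hom_ext ?_
    show ((ψ g).ofConv.comp π).toRingHom = ((ψ g').ofConv.comp π).toRingHom
    exact congrArg AlgHom.toRingHom (Polynomial.algHom_ext (by simpa [π] using h))

end Groth.Agent.Borel50.StabPts
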