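import Groth.Agent.Borel50.ProjAct
import Groth.Agent.Borel50.FixedPt
import Groth.Agent.S3267

/-!
# A non-solvable group acts on a projective space without fixed points
-/

set_option autoImplicit false
set_option backward.isDefEq.respectTransparency false
universe u

open CategoryTheory MonoidalCategory CartesianMonoidalCategory MonObj GrpObj AlgebraicGeometry Limits WithConv

noncomputable section

namespace Groth.Agent.Borel50.NoFix

open Groth.Agent.GrpdLib.AffHomogeneous (specG gam ptEquiv comp_ptEquiv algebraMap_comm)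
open Groth.Agent.Borel50.Pts
open Groth.Agent.Borel50.ProjAct
open Groth.Agent.GrpScheme.Basic (smul)

variable {k : Type u} [Field k]

attribute [local instance] UnipLib.algOf

lemma bijective_algebraMap_unit :
    Function.Bijective (algebraMap k Γ((𝟙_ (Over (Spec (CommRingCat.of k)))).left, ⊤)) := by
  rw [RingHom.algebraMap_toAlgebra]
  show Function.Bijective (fun r => (𝟙_ (Over (Spec (CommRingCat.of k)))).hom.appTop
    ((Scheme.ΓSpecIso (CommRingCat.of k)).inv r))
  have : IsIso (𝟙_ (Over (Spec (CommRingCat.of k)))).hom.appTop := by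
    show IsIso (Scheme.Hom.appTop (𝟙 (Spec (CommRingCat.of k))))
    infer_instance
  exact (ConcreteCategory.bijective_of_isIso _).comp (ConcreteCategory.bijective_of_isIso _)

variable {A : Type u} [CommRing A] [HopfAlgebra k A]

/-- The rational points of an affine group are the characters to the field. -/
lemma exists_surjective_hom :
    ∃ f : WithConv (A →ₐ[k] k) →* (𝟙_ (Over (Spec (CommRingCat.of k))) ⟶ specG (k := k) A),
      Function.Surjective f := by
  let ι₀ : k →ₐ[k] Γ((𝟙_ (Over (Spec (CommRingCat.of k)))).left, ⊤) := Algebra.ofId _ _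
  let f₁ : WithConv (A →ₐ[k] k) →* WithConv (A →ₐ[k] Γ((𝟙_ (Over (Spec (CommRingCat.of k)))).left, ⊤)) :=
  { toFun := fun φ => toConv (ι₀.comp φ.ofConv)
    map_one' := WithConv.ofConv_injective (AlgHom.ext fun a => by
      show ι₀ ((1 : WithConv (A →ₐ[k] k)) a) = (1 : WithConv (A →ₐ[k] _)) a
      rw [AlgHom.convOne_apply, AlgHom.convOne_apply]
      exact AlgHom.commutes ι₀ _)
    map_mul' := fun φ ψ => congrArg toConv (AlgHom.comp_convMul_distrib ι₀ φ ψ) }
  refine ⟨((ptEquiv (A := A) (𝟙_ _)).toMonoidHom).comp f₁, (ptEquiv (A := A) (𝟙_ _)).surjective.comp ?_⟩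
  intro φ
  let ι₁ := AlgEquiv.ofBijective ι₀ bijective_algebraMap_unit
  exact ⟨toConv (ι₁.symm.toAlgHom.comp φ.ofConv), WithConv.ofConv_injective
    (AlgHom.ext fun a => ι₁.apply_symm_apply _)⟩

/-- The generic point of an affine group is injective on functions. -/
lemma injective_generic :
    Function.Injective ((ptEquiv (A := A) (specG (k := k) A)).symm (𝟙 _)).ofConv := by
  let f := ((ptEquiv (A := A) (specG (k := k) A)).symm (𝟙 _))
  have h : UnipLib.ptHom _ f = 𝟙 _ := (ptEquiv (A := A) (specG (k := k) A)).apply_symm_apply _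
  have h2 := UnipLib.ptHom_appTop (specG (k := k) A) f
  rw [h] at h2
  intro x y hxy
  have hx := congr($h2 x)
  have hy := congr($h2 y)
  simp only [Over.id_left, Scheme.Hom.id_appTop, Category.comp_id] at hx hy
  exact (ConcreteCategory.bijective_of_isIso (Scheme.ΓSpecIso (CommRingCat.of A)).inv).1
    (hx.trans (Eq.trans hxy hy.symm))

/-- A fixed point of the linear action gives a stable line. -/
lemma finrank_eq_one [IsAlgClosed k] {n : ℕ} {G : Over (Spec (CommRingCat.of k))} [GrpObj G]
    (e : G ≅ specG (k := k) A) [IsMonHom e.hom]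
    {V : Type u} [AddCommGroup V] [Module k V] [HopfRep.Comod k A V]
    (β : Module.Basis (Fin (n + 1)) k V) (hV : HopfRep.IsSimpleComod k A V)
    (b : AlgGrp.Action G (Pn k n))
    (hb : ∀ (T : Over (Spec (CommRingCat.of k))) (g : T ⟶ G) (v : Fin (n + 1) → Γ(T.left, ⊤))
      (hv : Ideal.span (Set.range v) = ⊤),
      smul b g (mk T v hv) = mk T (mvec (Comod.mat A β) ((ptEquiv T).symm (g ≫ e.hom)) v)
        (span_mvec (Comod.isMat_mat β) _ hv))
    (x : Pt (Pn k n)) (hx : b.IsFixedPt x) : Module.finrank k V = 1 := by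
  obtain ⟨𝒰, h𝒰⟩ := exists_cover x
  let i := 𝒰.idx (IsLocalRing.closedPoint k)
  obtain ⟨t, -⟩ := 𝒰.covers (IsLocalRing.closedPoint k)
  have hsurj : Surjective (𝒰.f i) :=
    ⟨fun z => ⟨t, Subsingleton.elim (α := Spec (CommRingCat.of k)) _ _⟩⟩
  have : IsIso (𝒰.f i) := isIso_of_isOpenImmersion_of_opensRange_eq_top _ (TopologicalSpace.Opens.ext (𝒰.f i).surjective.range_eq)
  obtain ⟨v, hv, hxv⟩ := h𝒰 i
  let j : 𝟙_ (Over (Spec (CommRingCat.of k))) ⟶ piece 𝒰 i := Over.homMk (inv (𝒰.f i)) (by
    show inv (𝒰.f i) ≫ 𝒰.f i ≫ _ = _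
    rw [IsIso.inv_hom_id_assoc])
  have hj : j ≫ pieceι 𝒰 i = 𝟙 _ := Over.OverMorphism.ext (IsIso.inv_hom_id _)
  have hx' : x = mk _ _ (span_gam j hv) := by rw [← comp_mk j v hv, ← hxv, reassoc_of% hj]
  choose c hc using fun q => bijective_algebraMap_unit.2 (gam j (v q))
  let f₀ := (ptEquiv (A := A) (specG (k := k) A)).symm (𝟙 _)
  let p₀ : specG (k := k) A ⟶ 𝟙_ _ := toUnit _
  have e0 := hx (specG (k := k) A) e.inv
  change smul b e.inv (p₀ ≫ x) = p₀ ≫ x at e0
  rw [hx', comp_mk, hb, mk_eq_iff, e.inv_hom_id] at e0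
  have hgam : ∀ q, gam p₀ (gam j (v q)) = algebraMap k _ (c q) := fun q => by rw [← hc]; exact algebraMap_comm p₀ (c q)
  let d : Fin (n + 1) → A := fun p => ∑ l, c l • Comod.mat A β p l
  have hd : ∀ p, mvec (Comod.mat A β) f₀ (fun q => gam p₀ (gam j (v q))) p = f₀.ofConv (d p) := fun p => by
    simp only [mvec, d, map_sum, hgam, Algebra.smul_def, map_mul, AlgHom.commutes, _root_.mul_comm]
  have cross : ∀ p q, c q • d p = c p • d q := fun p q => by
    refine injective_generic (k := k) (A := A) ?_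
    have := e0 p q
    rw [hd, hd] at this
    simp only [hgam] at this
    simp only [Algebra.smul_def, map_mul, AlgHom.commutes]
    linear_combination this
  obtain ⟨i₀, hi₀⟩ : ∃ i₀, c i₀ ≠ 0 := by
    by_contra hne
    push Not at hne
    have : Nontrivial Γ((𝟙_ (Over (Spec (CommRingCat.of k)))).left, ⊤) :=
      bijective_algebraMap_unit.1.nontrivial
    have := span_gam j hv
    simp only [← hc, hne, map_zero, Set.range_const, Ideal.span_singleton_zero] at this
    exact bot_ne_top this
  let w : V := ∑ p, c p • β p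
  let a₀ : A := (c i₀)⁻¹ • d i₀
  have hw : HopfRep.Comod.coact (k := k) (A := A) w = w ⊗ₜ[k] a₀ := by
    have h1 : ∀ p, d p = c p • a₀ := fun p => by
      rw [smul_smul, ← _root_.mul_comm, ← smul_smul, ← cross p i₀, smul_smul, inv_mul_cancel₀ hi₀, _root_.one_smul]
    calc HopfRep.Comod.coact (k := k) (A := A) w
        = ∑ q, c q • ∑ p, β p ⊗ₜ[k] Comod.mat A β p q := by simp [w, Comod.coact_basis]
      _ = ∑ p, β p ⊗ₜ[k] d p := by
          simp only [Finset.smul_sum, d, TensorProduct.tmul_sum, TensorProduct.tmul_smul]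
          exact Finset.sum_comm
      _ = w ⊗ₜ[k] a₀ := by
          simp only [w, h1, TensorProduct.sum_tmul, TensorProduct.tmul_smul, TensorProduct.smul_tmul']
  have hsub : HopfRep.IsSubcomod (k := k) (A := A) (Submodule.span k {w}) := fun y hy => by
    obtain ⟨r, rfl⟩ := Submodule.mem_span_singleton.mp hy
    exact ⟨(r • ⟨w, Submodule.mem_span_singleton_self w⟩ : Submodule.span k {w}) ⊗ₜ[k] a₀, by
      rw [LinearMap.rTensor_tmul, map_smul, map_smul, hw, TensorProduct.smul_tmul']
      rfl⟩
  have hw0 : w ≠ 0 := fun h => hi₀ (by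
    have := congrArg (fun z => β.repr z i₀) h
    simpa [w, Finsupp.single_apply] using this)
  rcases hV.2 _ hsub with h | h
  · exact absurd ((Submodule.span_singleton_eq_bot).mp h) hw0
  · rw [← finrank_top k V, ← h, finrank_span_singleton hw0]

/-- A connected affine group with non-solvable group of rational points acts on some projective
space without fixed rational points. -/
theorem exists_proper_noFixedPt [IsAlgClosed k] (G : Over (Spec (CommRingCat.of k))) [GrpObj G]
    [IsAffine G.left] [LocallyOfFiniteType G.hom] (hns : ¬ Group.IsSolvable (Pt G)) :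
    ∃ (X : Over (Spec (CommRingCat.of k))) (_ : IsProper X.hom) (_ : Nonempty X.left) (b : AlgGrp.Action G X),
      ∀ x, ¬ b.IsFixedPt x := by
  have : QuasiCompact G.hom := have : IsAffineHom G.hom := isAffineHom_of_isAffine _; inferInstance
  obtain ⟨A, _, _, _, eG, -, -, hG, -, hA, -, -⟩ := GrpdLib.MonoClosedField.exists_hopf G G (𝟙 G)
  have hnt : ¬ HopfRep.IsTrigonalizable k A := fun hT => by
    refine hns ?_
    have := S3267.result k A hT
    obtain ⟨f, hf⟩ := exists_surjective_hom (k := k) (A := A)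
    have := Group.isSolvable_of_surjective hf
    let F : (𝟙_ (Over (Spec (CommRingCat.of k))) ⟶ specG (k := k) A) →* Pt G :=
    { toFun := fun x => x ≫ eG.hom
      map_one' := MonObj.one_comp _
      map_mul' := fun x y => MonObj.mul_comp x y _ }
    exact Group.isSolvable_of_surjective (f := F) fun y => ⟨y ≫ eG.inv, by simp [F]⟩
  have : IsMonHom eG.symm.hom := inferInstanceAs (IsMonHom eG.inv)
  simp only [HopfRep.IsTrigonalizable, not_forall] at hnt
  obtain ⟨V, _, _, _, hfin, hsimple, hrank⟩ := hnt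
  have := hsimple.1
  obtain ⟨n, hn⟩ : ∃ n, Module.finrank k V = n + 1 := ⟨_, (Nat.succ_pred_eq_of_pos Module.finrank_pos).symm⟩
  let β := Module.finBasisOfFinrankEq k V hn
  obtain ⟨b, hb⟩ := exists_action G eG.symm (Comod.isMat_mat (A := A) β)
  refine ⟨Pn k n, inferInstance, ?_, b, fun x hx => hrank (finrank_eq_one eG.symm β hsimple b hb x hx)⟩
  exact ⟨(mk (𝟙_ _) (fun _ => 1) ((Ideal.eq_top_iff_one _).2 (Ideal.subset_span ⟨0, rfl⟩))).left
    (IsLocalRing.closedPoint k)⟩

end Groth.Agent.Borel50.NoFix
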