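import Groth.Agent.Borel50.NormalizerCentral
import Groth.Agent.Borel50.CentBorel

/-!
# A Borel subgroup is its own normaliser
-/

set_option autoImplicit false
universe u

open CategoryTheory MonoidalCategory CartesianMonoidalCategory MonObj GrpObj AlgebraicGeometry Limits

noncomputable section

namespace Groth.Agent.Borel50.Normalizer

open Groth.Agent.Borel50.Pts Groth.Agent.Borel50.Lin Groth.Agent.Borel50.Density

attribute [local instance] ptTop

variable {k : Type u} [Field k] [IsAlgClosed k] {G : Over (Spec (CommRingCat.of k))} [GrpObj G]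
  [IsAffine G.left] [Smooth G.hom]

omit [IsAlgClosed k] [IsAffine G.left] in
lemma isClosed_normalizer (BC : Subgroup (Pt G)) (h : IsClosed (BC : Set (Pt G))) :
    IsClosed (Subgroup.normalizer (BC : Set (Pt G)) : Set (Pt G)) := by
  have e : (Subgroup.normalizer (BC : Set (Pt G)) : Set (Pt G)) =
      ⋂ b : BC, {g : Pt G | g * b * g⁻¹ ∈ BC} ∩ {g : Pt G | g⁻¹ * b * g ∈ BC} := by
    ext g
    simp only [SetLike.mem_coe, Subgroup.mem_normalizer_iff, Set.mem_iInter, Set.mem_inter_iff, Set.mem_setOf_eq]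
    constructor
    · refine fun hg b => ⟨(hg b).1 b.2, (hg _).2 ?_⟩
      rw [show g * (g⁻¹ * (b : Pt G) * g) * g⁻¹ = b by group]
      exact b.2
    · intro hg y
      refine ⟨fun hy => (hg ⟨y, hy⟩).1, fun hy => ?_⟩
      have := (hg ⟨_, hy⟩).2
      rwa [show g⁻¹ * (g * y * g⁻¹) * g = y by group] at this
  rw [e]
  refine isClosed_iInter fun b => ?_
  let f₁ : G ⟶ G := 𝟙 G * (toUnit G ≫ (b : Pt G)) * (𝟙 G)⁻¹
  let f₂ : G ⟶ G := (𝟙 G)⁻¹ * (toUnit G ≫ (b : Pt G)) * 𝟙 G
  have h₁ : ∀ g : Pt G, g ≫ f₁ = g * b * g⁻¹ := fun g => by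
    simp only [f₁, MonObj.comp_mul, GrpObj.comp_inv, Category.comp_id]
    rw [← Category.assoc, Pts.toUnit_comp, Category.id_comp]
  have h₂ : ∀ g : Pt G, g ≫ f₂ = g⁻¹ * b * g := fun g => by
    simp only [f₂, MonObj.comp_mul, GrpObj.comp_inv, Category.comp_id]
    rw [← Category.assoc, Pts.toUnit_comp, Category.id_comp]
  have e₁ : {g : Pt G | g * b * g⁻¹ ∈ BC} = (fun g => g ≫ f₁) ⁻¹' (BC : Set (Pt G)) := by ext g; simp [h₁]
  have e₂ : {g : Pt G | g⁻¹ * b * g ∈ BC} = (fun g => g ≫ f₂) ⁻¹' (BC : Set (Pt G)) := by ext g; simp [h₂]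
  rw [e₁, e₂]
  exact (h.preimage (continuous_comp f₁)).inter (h.preimage (continuous_comp f₂))

lemma mem_aux (Z : TopologicalSpace.Closeds G.left) :
    ∀ (P : Over (Spec (CommRingCat.of k))) [GrpObj P] (iP : P ⟶ G) [IsMonHom iP] [IsClosedImmersion iP.left]
      [Smooth P.hom] [ConnectedSpace P.left], Set.range iP.left = (Z : Set G.left) →
      ∀ (B : Over (Spec (CommRingCat.of k))) [GrpObj B] (iB : B ⟶ P) [IsMonHom iB], Red.IsBorelOver k iB →
        ∀ x ∈ Subgroup.normalizer ((ptHom iB).range : Set (Pt P)), x ∈ (ptHom iB).range := by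
  have := FixedPt.qc_G G
  have : IsLocallyNoetherian G.left := LocallyOfFiniteType.isLocallyNoetherian G.hom
  have : CompactSpace G.left := (quasiCompact_iff_compactSpace G.hom).1 inferInstance
  have : IsNoetherian G.left := {}
  induction Z using (wellFounded_lt (α := TopologicalSpace.Closeds G.left)).induction with
  | h Z ih =>
    intro P _ iP _ _ _ _ hZ B _ iB _ hB x hx
    classical
    have : IsAffine P.left := isAffine_of_isAffineHom iP.left
    have := FixedPt.qc_G P
    have := hB.2.1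
    have := hB.2.2.1
    have := hB.2.2.2.1
    set BC := (ptHom iB).range with hBCdef
    have hBC : IsClosed (BC : Set (Pt P)) := Density.isClosed_range iB
    obtain ⟨N, d, Φ, J, L, hLJ, hstab, hreg⟩ := StabPts.exists_stab _ (isClosed_normalizer BC hBC)
    -- a maximal torus in the Borel subgroup
    obtain ⟨T₀, hT₀, -, hmax₀⟩ := Φ.isToral_bot.exists_maximal
    obtain ⟨a, ha⟩ := ToralConj.conj_into_borel iB hB hT₀
    have hm : ∀ {R : Subgroup (Pt P)} (c : Pt P), (∀ R', Φ.IsToral R' → R ≤ R' → R' = R) →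
        ∀ R', Φ.IsToral R' → R.map (MulAut.conj c).toMonoidHom ≤ R' → R' = R.map (MulAut.conj c).toMonoidHom := by
      intro R c hR R' hR' hle
      have h := hR (R'.map (MulAut.conj c⁻¹).toMonoidHom) (hR'.map_conj c⁻¹)
        fun r hr => ⟨c * r * c⁻¹, hle ⟨r, hr, rfl⟩, by simp [_root_.mul_assoc]⟩
      rw [← h, Lin.Rep.map_conj_map_conj, mul_inv_cancel, map_one]
      exact (Subgroup.map_id R').symm
    set T := T₀.map (MulAut.conj a).toMonoidHom with hTdef
    have hT : Φ.IsToral T := hT₀.map_conj a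
    have hmax : ∀ R', Φ.IsToral R' → T ≤ R' → R' = T := hm a hmax₀
    have hTx : T.map (MulAut.conj x).toMonoidHom ≤ BC := by
      rintro _ ⟨t, ht, rfl⟩
      exact (Subgroup.mem_normalizer_iff.1 hx t).1 (ha ht)
    obtain ⟨b, hb, hbT⟩ := ToralConj.toral_conj_of_le iB hB hT hmax (hT.map_conj x) (hm x hmax) ha hTx
    suffices key : b⁻¹ * x ∈ BC by simpa using BC.mul_mem hb key
    have hy : b⁻¹ * x ∈ Subgroup.normalizer (BC : Set (Pt P)) :=
      Subgroup.mul_mem _ (Subgroup.inv_mem _ (Subgroup.le_normalizer hb)) hx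
    generalize hydef : b⁻¹ * x = y at hy ⊢
    have hyT : T.map (MulAut.conj y).toMonoidHom = T := by
      rw [← hydef, ← Lin.Rep.map_conj_map_conj, ← hbT, Lin.Rep.map_conj_map_conj, inv_mul_cancel, map_one]
      exact Subgroup.map_id T
    have hy1 : ∀ t ∈ T, y * t * y⁻¹ ∈ T := fun t ht => hyT ▸ ⟨t, ht, rfl⟩
    have hy2 : ∀ t ∈ T, y⁻¹ * t * y ∈ T := by
      intro t ht
      obtain ⟨s, hs, hst⟩ := (hyT.symm ▸ ht : t ∈ T.map (MulAut.conj y).toMonoidHom)
      rw [← hst, show y⁻¹ * (MulAut.conj y).toMonoidHom s * y = s by simp [_root_.mul_assoc]]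
      exact hs
    -- its part fixed by the point
    let T' := T ⊓ Subgroup.centralizer ({y} : Set (Pt P))
    have hT'cl : IsClosed (T' : Set (Pt P)) := hT.closed.inter (Φ.isClosed_centralizer _)
    let S : Subgroup (Pt P) := (Φ.restrict T' hT'cl).identityComponent.map T'.subtype
    have hS : Φ.IsToral S := by
      refine ⟨Rep.isClosed_map_subtype hT'cl (Rep.isClosed_identityComponent _),
        Rep.isPreconnected_map_subtype isPreconnected_connectedComponent, ?_⟩
      obtain ⟨P', Q', h', hd⟩ := hT.diag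
      exact ⟨P', Q', h', by rintro _ ⟨z, -, rfl⟩; exact hd _ z.2.1⟩
    have hST : S ≤ T := by rintro _ ⟨z, -, rfl⟩; exact z.2.1
    have hSB : S ≤ BC := hST.trans ha
    have hSmax : ∀ R : Subgroup (Pt P), _root_.IsPreconnected (R : Set (Pt P)) → R ≤ T' → R ≤ S := by
      intro R hR hle r hr
      refine ⟨⟨r, hle hr⟩, ?_, rfl⟩
      have hpre : _root_.IsPreconnected ((Subtype.val : T' → Pt P) ⁻¹' (R : Set (Pt P))) := by
        refine Topology.IsInducing.subtypeVal.isPreconnected_image.1 ?_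
        convert hR using 1
        exact Set.Subset.antisymm (by rintro _ ⟨z, hz, rfl⟩; exact hz) fun z hz => ⟨⟨z, hle hz⟩, hz, rfl⟩
      exact hpre.subset_connectedComponent (x := 1) R.one_mem (show _ ∈ _ from hr)
    by_cases hcen : ∀ g : Pt P, ∀ s ∈ S, g * s = s * g
    · exact mem_of_central iB hB Φ J L hLJ hstab hreg hT hmax ha hy hy1 hy2 hS hSB hcen hSmax y
    · set C := Subgroup.centralizer (S : Set (Pt P)) with hCdef
      have hCpre : _root_.IsPreconnected (C : Set (Pt P)) := by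
        rw [hCdef, Centralizer.centralizer_eq Φ hS]
        exact Φ.isPreconnected_centralizerComp S
      obtain ⟨K, _, iK, _, _, _, _, hmem, hconn⟩ := exists_sub C (Φ.isClosed_centralizer _)
      have := hconn hCpre
      have hKr : (ptHom iK).range = C := le_antisymm (by rintro _ ⟨w, rfl⟩; exact (hmem _).2 ⟨w, rfl⟩)
        fun z hz => (hmem z).1 hz
      obtain ⟨D, _, dK, _, hD, hDr⟩ := CentBorel.exists_borel iB hB hS hSB iK hKr
      have : IsClosedImmersion (iK ≫ iP).left := inferInstanceAs (IsClosedImmersion (iK.left ≫ iP.left))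
      let Z' : TopologicalSpace.Closeds G.left :=
        ⟨Set.range (iK ≫ iP).left, (iK ≫ iP).left.isClosedEmbedding.isClosed_range⟩
      have hlt : Z' < Z := by
        refine SetLike.lt_iff_le_and_exists.mpr ⟨?_, ?_⟩
        · rintro _ ⟨z, rfl⟩
          exact hZ.subset ⟨iK.left z, rfl⟩
        · by_contra hne
          push Not at hne
          refine hcen fun g s hs => ?_
          obtain ⟨z, hz⟩ := hne (iP.left (pt g)) (hZ.subset ⟨pt g, rfl⟩)
          obtain ⟨w, hw⟩ := exists_lift_of_mem iK (x := g) ⟨z, iP.left.isClosedEmbedding.injective hz⟩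
          exact (Subgroup.mem_centralizer_iff.1 ((hmem g).2 ⟨w, hw⟩) s hs).symm
      have hyC : y ∈ C := Subgroup.mem_centralizer_iff.2 fun s hs => by
        obtain ⟨z, -, rfl⟩ := hs
        exact (Subgroup.mem_centralizer_iff.1 z.2.2 y rfl).symm
      obtain ⟨w, hw⟩ := (hmem y).1 hyC
      have hDr' : ∀ z : Pt K, z ∈ (ptHom dK).range ↔ z ≫ iK ∈ BC ⊓ C := by
        intro z
        rw [← hDr]
        constructor
        · rintro ⟨v, rfl⟩
          exact ⟨v, show v ≫ dK ≫ iK = (v ≫ dK) ≫ iK by rw [Category.assoc]⟩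
        · rintro ⟨v, hv⟩
          exact ⟨v, ptHom_injective iK (show (v ≫ dK) ≫ iK = z ≫ iK by rw [Category.assoc]; exact hv)⟩
      have hwn : w ∈ Subgroup.normalizer ((ptHom dK).range : Set (Pt K)) := by
        refine Subgroup.mem_normalizer_iff.2 fun v => ?_
        rw [hDr', hDr']
        have e : (w * v * w⁻¹) ≫ iK = y * (v ≫ iK) * y⁻¹ := by
          rw [MonObj.mul_comp, MonObj.mul_comp, GrpObj.inv_comp, hw]
        rw [e]
        refine and_congr ((Subgroup.mem_normalizer_iff.1 hy) _) ⟨fun h => C.mul_mem (C.mul_mem hyC h) (C.inv_mem hyC),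
          fun h => ?_⟩
        have := C.mul_mem (C.mul_mem (C.inv_mem hyC) h) hyC
        rwa [show y⁻¹ * (y * (v ≫ iK) * y⁻¹) * y = v ≫ iK by group] at this
      have h := (hDr' w).1 (ih Z' hlt K (iK ≫ iP) rfl D dK hD w hwn)
      rw [hw] at h
      exact h.1

/-- A rational point normalising a Borel subgroup lies in it. -/
theorem mem_of_normalizes [ConnectedSpace G.left] {B : Over (Spec (CommRingCat.of k))} [GrpObj B] (iB : B ⟶ G)
    [IsMonHom iB] (hB : Red.IsBorelOver k iB) :
    Subgroup.normalizer ((ptHom iB).range : Set (Pt G)) = (ptHom iB).range := by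
  have : IsClosedImmersion (𝟙 G : G ⟶ G).left := inferInstanceAs (IsClosedImmersion (𝟙 G.left))
  exact le_antisymm
    (fun x hx => mem_aux ⊤ G (𝟙 G) (Set.range_eq_univ.mpr fun z => ⟨z, rfl⟩) B iB hB x hx) Subgroup.le_normalizer

end Groth.Agent.Borel50.Normalizer
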