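import Groth.Agent.Borel50.StabPts
import Groth.Agent.Borel50.Lin.Weight
import Groth.Agent.Borel50.Centralizer

/-!
# The normaliser theorem: the case of a central torus
-/

set_option autoImplicit false
universe u v

open CategoryTheory MonoidalCategory CartesianMonoidalCategory MonObj GrpObj AlgebraicGeometry Limits
open scoped Matrix

noncomputable section

namespace Groth.Agent.Borel50.Normalizer

open Groth.Agent.Borel50.Pts Groth.Agent.Borel50.Lin Groth.Agent.Borel50.Density

attribute [local instance] ptTop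

/-- A function with closed levels and finitely many values is constant on a preconnected set. -/
lemma eq_of_finite_range {X : Type v} [TopologicalSpace X] {s : Set X} (hs : _root_.IsPreconnected s) {β : Type*}
    (g : X → β) (hcl : ∀ b, IsClosed (g ⁻¹' {b})) (hfin : (g '' s).Finite) {x y : X} (hx : x ∈ s) (hy : y ∈ s) :
    g x = g y := by
  have hcl' : IsClosed (⋃ b ∈ g '' s \ {g x}, g ⁻¹' {b}) :=
    (hfin.subset Set.sdiff_subset).isClosed_biUnion fun b _ => hcl b
  rcases isPreconnected_iff_subset_of_disjoint_closed.1 hs _ _ (hcl (g x)) hcl' (fun z hz => by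
      by_cases h : g z = g x
      · exact Or.inl h
      · exact Or.inr (Set.mem_biUnion ⟨⟨z, hz, rfl⟩, h⟩ rfl)) (by
      refine Set.eq_empty_of_forall_notMem ?_
      rintro z ⟨-, hz1, hz2⟩
      obtain ⟨b, hb, hz2⟩ := Set.mem_iUnion₂.1 hz2
      exact hb.2 ((hz2 : g z = b).symm.trans (hz1 : g z = g x))) with h | h
  · exact (h hy).symm
  · obtain ⟨b, hb, hxb⟩ := Set.mem_iUnion₂.1 (h hx)
    exact absurd (hxb : g x = b).symm hb.2

/-- The partial norms for the action of a cyclic group. -/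
def pnorm {Γ : Type*} [Group Γ] (x : Γ) : ℕ → Γ → Γ
  | 0, _ => 1
  | i + 1, t => pnorm x i t * (x ^ i * t * (x ^ i)⁻¹)

variable {k : Type u} [Field k] {G : Over (Spec (CommRingCat.of k))} [GrpObj G]

lemma continuous_pnorm (x : Pt G) (j : ℕ) : Continuous (pnorm x j) := by
  let cst : Pt G → (G ⟶ G) := fun a => toUnit G ≫ a
  have hconst : ∀ (y a : Pt G), y ≫ cst a = a := fun y a => by
    rw [← Category.assoc, Pts.toUnit_comp, Category.id_comp]
  let P : ℕ → (G ⟶ G) := fun i => Nat.rec 1 (fun l a => a * (cst (x ^ l) * 𝟙 G * (cst (x ^ l))⁻¹)) i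
  have hP : ∀ (y : Pt G) i, y ≫ P i = pnorm x i y := fun y i => by
    induction i with
    | zero => exact MonObj.comp_one y
    | succ i ih =>
      show y ≫ (P i * _) = _
      simp only [MonObj.comp_mul, GrpObj.comp_inv, Category.comp_id, hconst, ih]
      rfl
  rw [show pnorm x j = fun y : Pt G => y ≫ P j from funext fun y => (hP y j).symm]
  exact continuous_comp _

variable [IsAlgClosed k] [IsAffine G.left] [Smooth G.hom] [ConnectedSpace G.left]

open MvPolynomial in
/-- If the connected centraliser in a maximal torus of a normalising point is central, the group is the Borel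
subgroup. -/
theorem mem_of_central {B : Over (Spec (CommRingCat.of k))} [GrpObj B] (iB : B ⟶ G) [IsMonHom iB]
    (hB : Red.IsBorelOver k iB) {N d : ℕ} (Φ : Rep k (Pt G) N) (J : Matrix (Fin N) (Fin d) k)
    (L : Matrix (Fin d) (Fin N) k) (hLJ : L * J = 1)
    (hstab : ∀ g, g ∈ Subgroup.normalizer ((ptHom iB).range : Set (Pt G)) ↔ Φ.ρ g * J = J * (L * Φ.ρ g * J))
    (hreg : ∀ f f' : MvPolynomial (Fin N × Fin N) k, ∃ (Q : Over (Spec (CommRingCat.of k))) (φ : G ⟶ Q),
        IsAffine Q.left ∧ LocallyOfFiniteType Q.hom ∧ ∀ g g' : Pt G, g ≫ φ = g' ≫ φ ↔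
          ev f (Φ.ρ g) * ev f' (Φ.ρ g⁻¹) = ev f (Φ.ρ g') * ev f' (Φ.ρ g'⁻¹))
    {T : Subgroup (Pt G)} (hT : Φ.IsToral T) (hmax : ∀ T', Φ.IsToral T' → T ≤ T' → T' = T)
    (hTB : T ≤ (ptHom iB).range) {x : Pt G} (hxH : x ∈ Subgroup.normalizer ((ptHom iB).range : Set (Pt G)))
    (hxT : ∀ t ∈ T, x * t * x⁻¹ ∈ T) (hxT' : ∀ t ∈ T, x⁻¹ * t * x ∈ T) {S : Subgroup (Pt G)} (hS : Φ.IsToral S)
    (hSB : S ≤ (ptHom iB).range) (hcen : ∀ g : Pt G, ∀ s ∈ S, g * s = s * g)
    (hSmax : ∀ R : Subgroup (Pt G), _root_.IsPreconnected (R : Set (Pt G)) →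
      R ≤ T ⊓ Subgroup.centralizer ({x} : Set (Pt G)) → R ≤ S) (g₀ : Pt G) :
    g₀ ∈ (ptHom iB).range := by
  classical
  have := hB.2.1
  have := hB.2.2.1
  have := hB.2.2.2.1
  have := FixedPt.qc_G G
  have : IsSeparated G.hom := GrpScheme.IdComponent.isSeparated G
  have : PreconnectedSpace (Pt G) := preconnectedSpace_pt
  set BC := (ptHom iB).range with hBCdef
  set H := Subgroup.normalizer (BC : Set (Pt G)) with hHdef
  have hBH : BC ≤ H := Subgroup.le_normalizer
  obtain ⟨M, δ, hM, hδmul, hδ1, hδu, hδS⟩ := hS.exists_char hcen J L hLJ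
  have hδinv : ∀ g : Pt G, ev δ (Φ.ρ g) * ev δ (Φ.ρ g⁻¹) = 1 := fun g => by
    rw [← hδmul, mul_inv_cancel, hδ1]
  -- the minors
  let Xm : Matrix (Fin N) (Fin N) (MvPolynomial (Fin N × Fin N) k) := Matrix.of fun i j => MvPolynomial.X (i, j)
  let Jp : Matrix (Fin N) (Fin d) (MvPolynomial (Fin N × Fin N) k) := J.map fun a => MvPolynomial.C a
  let Lp : Matrix (Fin d) (Fin N) (MvPolynomial (Fin N × Fin N) k) := L.map fun a => MvPolynomial.C a
  let mf : (Fin d → Fin N) → MvPolynomial (Fin N × Fin N) k := fun r => ((Xm * Jp).submatrix r id).det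
  have hmf : ∀ r A, ev (mf r) A = ((A * J).submatrix r id).det := fun r A => by
    show MvPolynomial.eval (fun p : Fin N × Fin N => A p.1 p.2) (Matrix.det _) = _
    rw [RingHom.map_det]
    congr 1
    ext p q
    simp only [RingHom.mapMatrix_apply, Matrix.map_apply, Matrix.submatrix_apply]
    simp [Matrix.mul_apply, Xm, Jp, Lp]
  let cf : MvPolynomial (Fin N × Fin N) k := (Lp * Xm * Jp).det
  have hcf : ∀ A, ev cf A = (L * A * J).det := fun A => by
    show MvPolynomial.eval (fun p : Fin N × Fin N => A p.1 p.2) (Matrix.det _) = _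
    rw [RingHom.map_det]
    congr 1
    ext p q
    simp only [RingHom.mapMatrix_apply, Matrix.map_apply]
    simp [Matrix.mul_apply, Xm, Jp, Lp]
  -- levels are closed
  have hclosed : ∀ f f' : MvPolynomial (Fin N × Fin N) k, ∀ b : k,
      IsClosed {g : Pt G | ev f (Φ.ρ g) * ev f' (Φ.ρ g⁻¹) = b} := by
    intro f f' b
    obtain ⟨Q, φ, _, _, hφ⟩ := hreg f f'
    by_cases hb : ∃ g₁ : Pt G, ev f (Φ.ρ g₁) * ev f' (Φ.ρ g₁⁻¹) = b
    · obtain ⟨g₁, rfl⟩ := hb
      have : IsAffineHom Q.hom := isAffineHom_of_isAffine _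
      have : IsSeparated Q.hom := inferInstance
      have e : {g : Pt G | ev f (Φ.ρ g) * ev f' (Φ.ρ g⁻¹) = ev f (Φ.ρ g₁) * ev f' (Φ.ρ g₁⁻¹)} =
          (fun g : Pt G => g ≫ φ) ⁻¹' (pt ⁻¹' {pt (g₁ ≫ φ)}) := by
        ext g
        rw [Set.mem_setOf_eq, ← hφ]
        exact ⟨fun h => by simp [h], fun h => ConjDense.ext_pt h⟩
      rw [e]
      exact (isClosed_induced_iff.2 ⟨_, ConjDense.isClosed_singleton_pt _, rfl⟩).preimage (continuous_comp φ)
    · rw [Set.eq_empty_of_forall_notMem fun g hg => hb ⟨g, hg⟩]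
      exact isClosed_empty
  -- the character of the normaliser
  let ψ : Pt G → k := fun g => ev (cf ^ M) (Φ.ρ g) * ev δ (Φ.ρ g⁻¹)
  have hψ : ∀ g, ψ g = (L * Φ.ρ g * J).det ^ M * ev δ (Φ.ρ g⁻¹) := fun g => by
    show ev (cf ^ M) _ * _ = _
    rw [← hcf]
    simp [ev]
  have hψmul : ∀ g, ∀ h ∈ H, ψ (g * h) = ψ g * ψ h := fun g h hh => by
    have e : L * Φ.ρ (g * h) * J = L * Φ.ρ g * J * (L * Φ.ρ h * J) := by
      rw [map_mul, ← Matrix.mul_assoc L, Matrix.mul_assoc (L * Φ.ρ g), (hstab h).1 hh,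
        ← Matrix.mul_assoc, ← Matrix.mul_assoc]
    rw [hψ, hψ, hψ, e, Matrix.det_mul, _root_.mul_inv_rev, hδmul, mul_pow]
    ring
  have hψ1 : ψ 1 = 1 := by rw [hψ, inv_one, hδ1, map_one, Matrix.mul_one, hLJ, Matrix.det_one, one_pow, _root_.mul_one]
  have hψS : ∀ s ∈ S, ψ s = 1 := fun s hs => by
    rw [hψ, ← hδS s hs ((hstab s).1 (hBH (hSB hs))), hδinv]
  -- a power of `x` centralises the torus
  obtain ⟨F, hF⟩ := hT.exists_finite_normalizer
  have hxn : ∀ n : ℕ, ∀ t ∈ T, x ^ n * t * (x ^ n)⁻¹ ∈ T ∧ (x ^ n)⁻¹ * t * x ^ n ∈ T := by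
    intro n
    induction n with
    | zero => intro t ht; simpa using ht
    | succ n ih =>
      intro t ht
      refine ⟨?_, ?_⟩
      · rw [show x ^ (n + 1) * t * (x ^ (n + 1))⁻¹ = x ^ n * (x * t * x⁻¹) * (x ^ n)⁻¹ by group]
        exact (ih _ (hxT t ht)).1
      · rw [show (x ^ (n + 1))⁻¹ * t * x ^ (n + 1) = (x ^ n)⁻¹ * (x⁻¹ * t * x) * x ^ n by group]
        exact (ih _ (hxT' t ht)).2
  obtain ⟨j, hj, hjc⟩ : ∃ j : ℕ, 0 < j ∧ x ^ j ∈ Subgroup.centralizer (T : Set (Pt G)) := by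
    choose y hy hyC using fun n : ℕ => hF (x ^ n) (hxn n)
    obtain ⟨a, b, hab, he⟩ := Finite.exists_ne_map_eq_of_infinite (fun n : ℕ => (⟨y n, hy n⟩ : F))
    have he' : y a = y b := congrArg Subtype.val he
    rcases lt_or_gt_of_ne hab with h | h
    · refine ⟨b - a, by omega, ?_⟩
      have h1 := Φ.centralizerComp_le T (Subgroup.mul_mem _ (Subgroup.inv_mem _ (hyC a)) (hyC b))
      rwa [he', show ((y b)⁻¹ * x ^ a)⁻¹ * ((y b)⁻¹ * x ^ b) = (x ^ a)⁻¹ * x ^ b by group,
        show (x ^ a)⁻¹ * x ^ b = x ^ (b - a) by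
          rw [inv_mul_eq_iff_eq_mul, ← pow_add, Nat.add_sub_cancel' h.le]] at h1
    · refine ⟨a - b, by omega, ?_⟩
      have h1 := Φ.centralizerComp_le T (Subgroup.mul_mem _ (Subgroup.inv_mem _ (hyC b)) (hyC a))
      rwa [he', show ((y b)⁻¹ * x ^ b)⁻¹ * ((y b)⁻¹ * x ^ a) = (x ^ b)⁻¹ * x ^ a by group,
        show (x ^ b)⁻¹ * x ^ a = x ^ (a - b) by
          rw [inv_mul_eq_iff_eq_mul, ← pow_add, Nat.add_sub_cancel' h.le]] at h1
  have hpT : ∀ i, ∀ t ∈ T, pnorm x i t ∈ T := by
    intro i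
    induction i with
    | zero => exact fun t _ => T.one_mem
    | succ i ih => exact fun t ht => T.mul_mem (ih t ht) (hxn i t ht).1
  have hpmul : ∀ i, ∀ a ∈ T, ∀ b ∈ T, pnorm x i (a * b) = pnorm x i a * pnorm x i b := by
    intro i
    induction i with
    | zero => intro a _ b _; simp [pnorm]
    | succ i ih =>
      intro a ha b hb
      show pnorm x i (a * b) * _ = (pnorm x i a * _) * (pnorm x i b * _)
      rw [ih a ha b hb, show x ^ i * (a * b) * (x ^ i)⁻¹ = (x ^ i * a * (x ^ i)⁻¹) * (x ^ i * b * (x ^ i)⁻¹) by group,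
        _root_.mul_assoc, ← _root_.mul_assoc (pnorm x i b), hT.commute (hpT i b hb) (hxn i a ha).1]
      group
  have hpfix : ∀ t ∈ T, x * pnorm x j t = pnorm x j t * x := by
    intro t ht
    have h : ∀ i, t * (x * pnorm x i t * x⁻¹) = pnorm x (i + 1) t := by
      intro i
      induction i with
      | zero => simp [pnorm]
      | succ i ih =>
        show _ = pnorm x (i + 1) t * (x ^ (i + 1) * t * (x ^ (i + 1))⁻¹)
        conv_rhs => rw [← ih]
        show t * (x * (pnorm x i t * (x ^ i * t * (x ^ i)⁻¹)) * x⁻¹) = _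
        group
    have h1 := h j
    have h2 : x ^ j * t * (x ^ j)⁻¹ = t := by
      rw [← Subgroup.mem_centralizer_iff.1 hjc t ht, mul_inv_cancel_right]
    rw [show pnorm x (j + 1) t = pnorm x j t * (x ^ j * t * (x ^ j)⁻¹) from rfl, h2,
      hT.commute (hpT j t ht) ht] at h1
    have h3 := mul_left_cancel h1
    calc x * pnorm x j t = x * pnorm x j t * x⁻¹ * x := by group
      _ = _ := by rw [h3]
  let R : Subgroup (Pt G) :=
    { carrier := pnorm x j '' (T : Set (Pt G))
      one_mem' := ⟨1, T.one_mem, by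
        have h := hpmul j 1 T.one_mem 1 T.one_mem
        rw [_root_.mul_one] at h
        exact (mul_eq_left.1 h.symm)⟩
      mul_mem' := by
        rintro _ _ ⟨a, ha, rfl⟩ ⟨b, hb, rfl⟩
        exact ⟨a * b, T.mul_mem ha hb, hpmul j a ha b hb⟩
      inv_mem' := by
        rintro _ ⟨a, ha, rfl⟩
        refine ⟨a⁻¹, T.inv_mem ha, eq_inv_of_mul_eq_one_left ?_⟩
        rw [← hpmul j _ (T.inv_mem ha) a ha, inv_mul_cancel]
        have h := hpmul j 1 T.one_mem 1 T.one_mem
        rw [_root_.mul_one] at h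
        exact (mul_eq_left.1 h.symm) }
  have hRS : R ≤ S := hSmax R (hT.preconnected.image _ (continuous_pnorm x j).continuousOn) (by
    rintro _ ⟨t, ht, rfl⟩
    exact ⟨hpT j t ht, Subgroup.mem_centralizer_iff.2 fun z hz => by
      rw [Set.mem_singleton_iff.1 hz]; exact hpfix t ht⟩)
  -- the character is trivial on the torus
  have hψT : ∀ t ∈ T, ψ t = 1 := by
    have hpow : ∀ t ∈ T, ψ t ^ j = 1 := by
      intro t ht
      have htH : ∀ i, x ^ i * t * (x ^ i)⁻¹ ∈ H := fun i => hBH (hTB (hxn i t ht).1)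
      have h : ∀ i, ψ (pnorm x i t) = ψ t ^ i := by
        intro i
        induction i with
        | zero => exact hψ1.trans (pow_zero _).symm
        | succ i ih =>
          show ψ (pnorm x i t * _) = _
          rw [hψmul _ _ (htH i), ih, pow_succ, hψmul _ _ (H.inv_mem (H.pow_mem hxH i)),
            hψmul _ _ (hBH (hTB ht)), _root_.mul_comm (ψ (x ^ i)) (ψ t), _root_.mul_assoc (ψ t),
            ← hψmul _ _ (H.inv_mem (H.pow_mem hxH i)), mul_inv_cancel, hψ1, _root_.mul_one]
      rw [← h]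
      exact hψS _ (hRS ⟨t, ht, rfl⟩)
    intro t ht
    refine (eq_of_finite_range hT.preconnected ψ (fun b => hclosed (cf ^ M) δ b) ?_ ht T.one_mem).trans hψ1
    refine (Polynomial.finite_setOf_isRoot (Polynomial.X_pow_sub_C_ne_zero hj (1 : k))).subset ?_
    rintro _ ⟨s, hs, rfl⟩
    simp [Polynomial.IsRoot, hpow s hs]
  -- and on unipotent elements
  have hψu : ∀ u ∈ BC, IsNilpotent (Φ.ρ u - 1) → ψ u = 1 := by
    intro u hu hn
    have hstu := (hstab u).1 (hBH hu)
    have hu' : IsNilpotent (Φ.ρ u⁻¹ - 1) := by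
      rw [show Φ.ρ u⁻¹ - 1 = -(Φ.ρ u⁻¹ * (Φ.ρ u - 1)) by
        rw [mul_sub, ← map_mul, inv_mul_cancel, map_one, _root_.mul_one, neg_sub]]
      refine IsNilpotent.neg ?_
      refine Commute.isNilpotent_mul_left ?_ hn
      show Φ.ρ u⁻¹ * (Φ.ρ u - 1) = (Φ.ρ u - 1) * Φ.ρ u⁻¹
      rw [mul_sub, sub_mul, ← map_mul, ← map_mul, inv_mul_cancel, mul_inv_cancel, _root_.mul_one, _root_.one_mul]
    rw [hψ, hδu _ hu', _root_.mul_one]
    have e : L * Φ.ρ u * J = 1 + L * (Φ.ρ u - 1) * J := by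
      rw [Matrix.mul_sub, Matrix.sub_mul, Matrix.mul_one, hLJ, add_sub_cancel]
    have hXJ : (Φ.ρ u - 1) * J = J * (L * (Φ.ρ u - 1) * J) := by
      rw [Matrix.sub_mul, Matrix.one_mul, hstu, Matrix.mul_sub L, Matrix.sub_mul (L * Φ.ρ u),
        Matrix.mul_one, hLJ, Matrix.mul_sub, Matrix.mul_one]
    obtain ⟨m, hm⟩ := hn
    have hp : ∀ m : ℕ, (L * (Φ.ρ u - 1) * J) ^ m = L * (Φ.ρ u - 1) ^ m * J := by
      intro m
      induction m with
      | zero => rw [pow_zero, pow_zero, Matrix.mul_one, hLJ]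
      | succ m ih =>
        rw [pow_succ, ih, pow_succ, Matrix.mul_assoc (L * (Φ.ρ u - 1) ^ m), ← hXJ]
        simp only [Matrix.mul_assoc]
    rw [e, Stab.det_one_add_nilpotent _ ⟨m, by rw [hp, hm, Matrix.mul_zero, Matrix.zero_mul]⟩, one_pow]
  -- hence on the Borel subgroup
  have hψB : ∀ b ∈ BC, ψ b = 1 := by
    have hBC : IsClosed (BC : Set (Pt G)) := Density.isClosed_range iB
    have : PreconnectedSpace BC := Subtype.preconnectedSpace (Density.isPreconnected_range iB)
    obtain ⟨n, hn⟩ := Solvable.points_of_isSolvableGrp hB.2.2.2.2.1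
    have hBsol : derivedSeries BC n = ⊥ := by
      rw [eq_bot_iff, ← map_derivedSeries_eq (MonoidHom.rangeRestrict_surjective (ptHom iB)) n, hn, Subgroup.map_bot]
    obtain ⟨P, Q, hQP, hup⟩ := (Φ.restrict BC hBC).exists_upper hBsol
    let Ψ := (Φ.restrict BC hBC).conj P Q hQP
    obtain ⟨T₁, h₁, hcov⟩ := Ψ.exists_toral_lift hup
    obtain ⟨v, hv⟩ := Rep.exists_conj_eq (Φ := Ψ) hup h₁ hcov ((hT.subgroupOf hBC hTB).to_conj hQP)
      fun R hR hle => by
        have h := hmax (R.map BC.subtype) hR.of_conj.map_subtype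
          fun y hy => ⟨⟨y, hTB hy⟩, hle (show _ ∈ T from hy), rfl⟩
        rw [← h]
        exact (Subgroup.comap_map_eq_self_of_injective (Subgroup.subtype_injective BC) R).symm
    intro b hb
    obtain ⟨t₁, ht₁, he⟩ := hcov ⟨b, hb⟩
    rw [← hv] at ht₁
    obtain ⟨t, ht, rfl⟩ := ht₁
    let u : BC := t⁻¹ * ⟨b, hb⟩
    have hu : u ∈ Ψ.unipotent hup 1 := Ψ.mem_unipotent_of_diag (by
      show Ψ.diagHom hup (t⁻¹ * ⟨b, hb⟩) = 1
      rw [map_mul, ← he]
      show Ψ.diagHom hup t⁻¹ * Ψ.diagHom hup (v * t * v⁻¹) = 1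
      calc _ = (Ψ.diagHom hup t⁻¹ * Ψ.diagHom hup t) * (Ψ.diagHom hup v * Ψ.diagHom hup v⁻¹) := by
            simp only [map_mul]; ring
        _ = 1 := by rw [← map_mul, ← map_mul, inv_mul_cancel, mul_inv_cancel, map_one, _root_.mul_one])
    have hnil : IsNilpotent (Φ.ρ (u : Pt G) - 1) := by
      have h1 : (P * Φ.ρ (u : Pt G) * Q - 1) ^ N = 0 :=
        eq_zero_of_fil (by omega) (pow_mem_fil (Ψ.mem_unipotent.1 hu) N)
      refine ⟨N + 1, ?_⟩
      have h2 : ∀ i : ℕ, (Φ.ρ (u : Pt G) - 1) ^ (i + 1) = Q * (P * Φ.ρ (u : Pt G) * Q - 1) ^ (i + 1) * P := by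
        intro i
        induction i with
        | zero =>
          simp only [zero_add, pow_one, mul_sub, sub_mul, _root_.mul_one, ← _root_.mul_assoc, hQP, _root_.one_mul]
          rw [_root_.mul_assoc, hQP, _root_.mul_one]
        | succ i ih =>
          rw [pow_succ _ (i + 1), ih, pow_succ (P * Φ.ρ (u : Pt G) * Q - 1) (i + 1)]
          have e : Φ.ρ (u : Pt G) - 1 = Q * (P * Φ.ρ (u : Pt G) * Q - 1) * P := by
            simp only [mul_sub, sub_mul, _root_.mul_one, ← _root_.mul_assoc, hQP, _root_.one_mul]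
            rw [_root_.mul_assoc, hQP, _root_.mul_one]
          conv_lhs => arg 2; rw [e]
          simp only [_root_.mul_assoc]
          rw [← _root_.mul_assoc P Q, mul_eq_one_comm.mp hQP, _root_.one_mul]
      rw [h2, pow_succ, h1, zero_mul, mul_zero, zero_mul]
    have e : b = (t : Pt G) * (u : Pt G) := (mul_inv_cancel_left (t : Pt G) b).symm
    rw [e, hψmul _ _ (hBH u.2), hψT (t : Pt G) ht, hψu _ u.2 hnil, _root_.one_mul]
  -- minors twisted by the character are constant
  obtain ⟨X, a, o, hl, -, hf, hs, hq⟩ : ∃ (X : Over (Spec (CommRingCat.of k))) (a : AlgGrp.Action G X) (o : Pt X),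
      LocallyOfFiniteType X.hom ∧ QuasiCompact X.hom ∧ Flat (a.orbitMap o).left ∧ Surjective (a.orbitMap o).left ∧
      IsPullback (fst G B) ((G ◁ iB) ≫ μ[G]) (a.orbitMap o) (a.orbitMap o) := by
    have : Mono iB := Over.mono_of_mono_left iB
    have : LocallyOfFiniteType B.hom := by rw [← Over.w iB]; infer_instance
    have : QuasiCompact B.hom := by rw [← Over.w iB]; infer_instance
    exact S3279.result k G B iB
  have hX : AGF.IsQuotient iB X a o := ⟨hl, hf, hs, hq⟩
  have := Conj.isProper_quotient_borel iB hB hX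
  have hXc : AGFQuot.Basic.IsCover (a.orbitMap o) := ⟨hs, hf, GrpdLib.GrpOver.lfp_left _⟩
  have : ConnectedSpace X.left := (a.orbitMap o).left.surjective.connectedSpace (a.orbitMap o).left.continuous
  have hconst : ∀ (r : Fin d → Fin N) (g : Pt G),
      ((Φ.ρ g * J).submatrix r id).det ^ M * ev δ (Φ.ρ g⁻¹) = (J.submatrix r id).det ^ M := by
    intro r g
    obtain ⟨Q, φ, _, _, hφ⟩ := hreg (mf r ^ M) δ
    have : IsAffineHom Q.hom := isAffineHom_of_isAffine _
    have : IsSeparated Q.hom := inferInstance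
    have hval : ∀ g, ev (mf r ^ M) (Φ.ρ g) = ((Φ.ρ g * J).submatrix r id).det ^ M := fun g => by
      rw [← hmf]; simp [ev]
    have hinv : ∀ (g : Pt G), ∀ b ∈ BC, (g * b) ≫ φ = g ≫ φ := fun g b hb => by
      rw [hφ, hval, hval, map_mul, Matrix.mul_assoc, (hstab b).1 (hBH hb), ← Matrix.mul_assoc,
        Matrix.submatrix_mul _ _ r id id Function.bijective_id,
        Matrix.det_mul, Matrix.submatrix_id_id, _root_.mul_inv_rev, hδmul, mul_pow]
      have := hψB b hb
      rw [hψ] at this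
      linear_combination ((Φ.ρ g * J).submatrix r id).det ^ M * ev δ (Φ.ρ g⁻¹) * this
    have : Smooth (G ⊗ B).hom := inferInstanceAs (Smooth (pullback.fst G.hom B.hom ≫ G.hom))
    have := GrpScheme.HomFlat.isReduced_of_smooth (G ⊗ B).hom
    have e : (fst G B * (snd G B ≫ iB)) ≫ φ = fst G B ≫ φ := Centralizer.hom_ext _ _ fun w => by
      rw [← Category.assoc, ← Category.assoc, MonObj.comp_mul]
      exact hinv _ _ ⟨w ≫ snd G B, by show (w ≫ snd G B) ≫ iB = _; rw [Category.assoc]⟩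
    obtain ⟨q, hq', -⟩ := AGFQuot.Basic.existsUnique_desc hXc hq φ fun T b h => by
      have := congrArg (fun m => lift b h ≫ m) e
      simp only [← Category.assoc, MonObj.comp_mul, lift_fst, lift_snd] at this
      exact this
    have h := FixedPt.const_of_proper_affine q (g ≫ a.orbitMap o) ((1 : Pt G) ≫ a.orbitMap o)
    rw [Category.assoc, hq', Category.assoc, hq', hφ, hval, hval, inv_one, hδ1, map_one, Matrix.one_mul,
      _root_.mul_one] at h
    exact h
  -- every point stabilises the subspace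
  obtain ⟨σ, hσ⟩ := exists_minor J L hLJ
  have hσg : ∀ g : Pt G, ((Φ.ρ g * J).submatrix σ id).det ≠ 0 := fun g h0 => by
    have h := hconst σ g
    rw [h0, zero_pow hM.ne', zero_mul] at h
    exact hσ (eq_zero_of_pow_eq_zero h.symm)
  have hratio : ∀ (r : Fin d → Fin N) (g : Pt G), ((Φ.ρ g * J).submatrix r id).det * (J.submatrix σ id).det =
      (J.submatrix r id).det * ((Φ.ρ g * J).submatrix σ id).det := by
    intro r
    let q : Pt G → k := fun g =>
      ((Φ.ρ g * J).submatrix r id).det * (J.submatrix σ id).det / ((Φ.ρ g * J).submatrix σ id).det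
    have hq1 : q 1 = (J.submatrix r id).det := by simp [q, hσ]
    suffices h : ∀ g, q g = q 1 from fun g => by rw [← hq1, ← h g]; simp [q, hσg g]
    intro g
    refine eq_of_finite_range isPreconnected_univ q (fun b => ?_) ?_ (Set.mem_univ g) (Set.mem_univ 1)
    · have e : q ⁻¹' {b} = {g | ev (mf r * C (J.submatrix σ id).det - C b * mf σ) (Φ.ρ g) = 0} := by
        ext g
        have h1 := hmf r (Φ.ρ g)
        have h2 := hmf σ (Φ.ρ g)
        simp only [ev] at h1 h2
        simp [q, ev, h1, h2, div_eq_iff (hσg g), sub_eq_zero]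
      rw [e]
      exact Φ.isClosed_ev _
    · refine (Polynomial.finite_setOf_isRoot
        (Polynomial.X_pow_sub_C_ne_zero hM ((J.submatrix r id).det ^ M))).subset ?_
      rintro _ ⟨g', -, rfl⟩
      have h1 := hconst r g'
      have h2 := hconst σ g'
      simp only [Set.mem_setOf_eq, Polynomial.IsRoot, Polynomial.eval_sub, Polynomial.eval_pow, Polynomial.eval_X,
        Polynomial.eval_C, q, div_pow, mul_pow, sub_eq_zero]
      rw [div_eq_iff (pow_ne_zero _ (hσg g'))]
      linear_combination (-((Φ.ρ g' * J).submatrix r id).det ^ M) * h2 +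
        ((Φ.ρ g' * J).submatrix σ id).det ^ M * h1
  have hall : ∀ g : Pt G, g ∈ H := by
    intro g
    set E := Φ.ρ g * J with hEdef
    let E₀ := E.submatrix σ id
    let J₀ := J.submatrix σ id
    have hEJ : E = J * (J₀⁻¹ * E₀) := by
      funext i
      have hJi : (J i ᵥ* J₀⁻¹) ᵥ* J₀ = J i := by
        rw [Matrix.vecMul_vecMul, Matrix.nonsing_inv_mul _ (isUnit_iff_ne_zero.2 hσ), Matrix.vecMul_one]
      set c := J i ᵥ* J₀⁻¹ with hc
      have key : ∀ (A : Matrix (Fin d) (Fin d) k) (p : Fin d), (A.updateRow p (c ᵥ* A)).det = c p * A.det :=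
        fun A p => by
          rw [show c ᵥ* A = ∑ l, c l • A l from Matrix.vecMul_eq_sum c A, Matrix.det_updateRow_sum]
          rfl
      have hr : E i - c ᵥ* E₀ = 0 := Stab.eq_zero_of_updateRow (hσg g) fun p => by
        have h := hratio (Function.update σ p i) g
        have hu : ∀ A : Matrix (Fin N) (Fin d) k,
            A.submatrix (Function.update σ p i) id = (A.submatrix σ id).updateRow p (A i) := fun A => by
          ext a b
          rcases eq_or_ne a p with rfl | hne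
          · simp
          · simp [Matrix.updateRow_ne hne, Function.update_of_ne hne]
        rw [hu, hu] at h
        have h2 := key J₀ p
        rw [hJi] at h2
        rw [h2] at h
        have h3 : (E₀.updateRow p (E i)).det = c p * E₀.det := mul_right_cancel₀ hσ (h.trans (by ring))
        rw [sub_eq_add_neg, Matrix.det_updateRow_add, h3, ← neg_one_smul k (c ᵥ* E₀),
          Matrix.det_updateRow_smul, key]
        ring
      rw [sub_eq_zero] at hr
      rw [hr, hc, Matrix.vecMul_vecMul]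
      exact (Matrix.mul_apply_eq_vecMul J _ i).symm
    refine (hstab g).2 ?_
    rw [Matrix.mul_assoc L, ← hEdef, hEJ, ← Matrix.mul_assoc L, hLJ, Matrix.one_mul]
  -- a normal Borel subgroup is everything
  have : LocallyOfFiniteType (G ⊗ B).hom := by
    have : LocallyOfFiniteType B.hom := by rw [← Over.w iB]; infer_instance
    exact GrpdLib.SepExt.tensor_lft k G B
  have : Surjective (fst G B * (snd G B ≫ iB) * (fst G B)⁻¹).left := ⟨Density.surjective_conj_borel iB hB⟩
  obtain ⟨w, hw⟩ := Conj.surjective_pts (fst G B * (snd G B ≫ iB) * (fst G B)⁻¹) g₀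
  rw [MonObj.comp_mul, MonObj.comp_mul, GrpObj.comp_inv, ← Category.assoc] at hw
  rw [← hw]
  exact (Subgroup.mem_normalizer_iff.1 (hall (w ≫ fst G B)) _).1 ⟨w ≫ snd G B, rfl⟩

end Groth.Agent.Borel50.Normalizer
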