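import Groth.Agent.Borel50.NormalizerCentral
import Groth.Agent.Borel50.NoUnip

/-!
# Solvable normal subgroups: the unipotent part and the reductive case
-/

set_option autoImplicit false
universe u v

open CategoryTheory MonoidalCategory CartesianMonoidalCategory MonObj GrpObj AlgebraicGeometry Limits

noncomputable section

namespace Groth.Agent.Borel50

namespace Lin.Rep

variable {k : Type u} [Field k] {N : ℕ} {Γ : Type v} [Group Γ] [TopologicalSpace Γ] (Φ : Rep k Γ N)

/-- The diagonal of a power. -/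
lemma diag_pow_of_upper {A : Matrix (Fin N) (Fin N) k} (hA : A ∈ fil k N 0) (i : Fin N) :
    ∀ m : ℕ, (A ^ m) i i = A i i ^ m
  | 0 => by simp
  | m + 1 => by
    have h : A ^ m ∈ fil k N 0 := by simpa using pow_mem_fil hA m
    rw [pow_succ, diag_mul_of_upper h hA, diag_pow_of_upper hA i m, pow_succ]

/-- In a triangular group the unipotent elements are those congruent to one. -/
lemma mem_unipotent_iff_isNilpotent (hup : ∀ x, Φ.ρ x ∈ fil k N 0) {x : Γ} :
    x ∈ Φ.unipotent hup 1 ↔ IsNilpotent (Φ.ρ x - 1) := by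
  refine ⟨fun h => ⟨N, eq_zero_of_fil (by omega) (pow_mem_fil (Φ.mem_unipotent.1 h) N)⟩, ?_⟩
  rintro ⟨m, hm⟩
  refine Φ.mem_unipotent_of_diag (funext fun i => ?_)
  have h := diag_pow_of_upper (sub_mem (hup x) one_mem_fil) i m
  rw [hm, Matrix.sub_apply, Matrix.one_apply_eq] at h
  show Φ.ρ x i i = 1
  exact sub_eq_zero.1 (eq_zero_of_pow_eq_zero (n := m) h.symm)

/-- Unipotence is invariant under conjugation. -/
lemma isNilpotent_conj {x : Γ} (h : IsNilpotent (Φ.ρ x - 1)) (g : Γ) : IsNilpotent (Φ.ρ (g * x * g⁻¹) - 1) := by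
  obtain ⟨m, hm⟩ := h
  have h1 : Φ.ρ g⁻¹ * Φ.ρ g = 1 := by rw [← map_mul, inv_mul_cancel, map_one]
  have h2 : Φ.ρ g * Φ.ρ g⁻¹ = 1 := by rw [← map_mul, mul_inv_cancel, map_one]
  have e : Φ.ρ (g * x * g⁻¹) - 1 = Φ.ρ g * (Φ.ρ x - 1) * Φ.ρ g⁻¹ := by
    rw [map_mul, map_mul, mul_sub, sub_mul, _root_.mul_one, h2]
  refine ⟨m, ?_⟩
  have hp : ∀ j, (Φ.ρ g * (Φ.ρ x - 1) * Φ.ρ g⁻¹) ^ j = Φ.ρ g * (Φ.ρ x - 1) ^ j * Φ.ρ g⁻¹ := by
    intro j
    induction j with
    | zero => rw [pow_zero, pow_zero, _root_.mul_one, h2]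
    | succ j ih =>
      rw [pow_succ, ih, pow_succ]
      simp only [_root_.mul_assoc]
      rw [← _root_.mul_assoc (Φ.ρ g⁻¹) (Φ.ρ g), h1, _root_.one_mul]
  rw [e, hp, hm, mul_zero, zero_mul]

/-- A unipotent torsion element of order prime to the characteristic is trivial. -/
lemma eq_one_of_isNilpotent_torsion {x : Γ} (h : IsNilpotent (Φ.ρ x - 1)) {n : ℕ} (hn : (n : k) ≠ 0) (hx : x ^ n = 1) :
    x = 1 := by
  refine Φ.inj ?_
  rw [map_one, ← sub_eq_zero]
  set y := Φ.ρ x with hy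
  have h0 : (∑ i ∈ Finset.range n, y ^ i) * (y - 1) = 0 := by
    rw [geom_sum_mul, hy, ← map_pow, hx, map_one, sub_self]
  have hu : IsUnit (∑ i ∈ Finset.range n, y ^ i) := by
    have e : ∀ i : ℕ, y ^ i - 1 = (∑ j ∈ Finset.range i, y ^ j) * (y - 1) := fun i => (geom_sum_mul y i).symm
    have e2 : (∑ i ∈ Finset.range n, y ^ i) =
        (n : Matrix (Fin N) (Fin N) k) + (∑ i ∈ Finset.range n, ∑ j ∈ Finset.range i, y ^ j) * (y - 1) := by
      rw [Finset.sum_mul]
      simp only [← e, Finset.sum_sub_distrib, Finset.sum_const, Finset.card_range, nsmul_eq_mul, _root_.mul_one]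
      abel
    have hc : Commute (∑ i ∈ Finset.range n, ∑ j ∈ Finset.range i, y ^ j) (y - 1) :=
      Commute.sum_left _ _ _ fun i _ => Commute.sum_left _ _ _ fun j _ =>
        (Commute.refl y |>.pow_left j).sub_right (Commute.one_right _)
    rw [e2]
    refine (hc.isNilpotent_mul_left h).isUnit_add_left_of_commute ?_ (Nat.cast_commute n _).symm
    rw [show (n : Matrix (Fin N) (Fin N) k) = algebraMap k _ (n : k) from (map_natCast _ n).symm]
    exact (IsUnit.mk0 _ hn).map _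
  exact hu.mul_right_eq_zero.1 h0

/-- The unipotent part of a normal connected solvable subgroup. -/
theorem exists_unipotent_part [IsAlgClosed k] (R : Subgroup Γ) (hR : IsClosed (R : Set Γ))
    (hRc : _root_.IsPreconnected (R : Set Γ)) {n : ℕ} (hsol : derivedSeries R n = ⊥)
    (hN : ∀ g : Γ, ∀ x ∈ R, g * x * g⁻¹ ∈ R) :
    ∃ U : Subgroup Γ, IsClosed (U : Set Γ) ∧ _root_.IsPreconnected (U : Set Γ) ∧ U ≤ R ∧
      (∀ g : Γ, ∀ x ∈ U, g * x * g⁻¹ ∈ U) ∧ (∀ x ∈ U, IsNilpotent (Φ.ρ x - 1)) ∧ (U = ⊥ → Φ.IsToral R) := by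
  classical
  have : PreconnectedSpace R := Subtype.preconnectedSpace hRc
  obtain ⟨P, Q, hQP, hup⟩ := (Φ.restrict R hR).exists_upper hsol
  let Ψ := (Φ.restrict R hR).conj P Q hQP
  have hPQ : P * Q = 1 := mul_eq_one_comm.mp hQP
  have hnil : ∀ x : R, IsNilpotent (Ψ.ρ x - 1) ↔ IsNilpotent (Φ.ρ (x : Γ) - 1) := by
    intro x
    have hp : ∀ (A : Matrix (Fin N) (Fin N) k) (j : ℕ), (P * A * Q) ^ j = P * A ^ j * Q := fun A j => by
      induction j with
      | zero => rw [pow_zero, pow_zero, _root_.mul_one, hPQ]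
      | succ j ih =>
        rw [pow_succ, ih, pow_succ]
        simp only [_root_.mul_assoc]
        rw [← _root_.mul_assoc Q P, hQP, _root_.one_mul]
    have e : Ψ.ρ x - 1 = P * (Φ.ρ (x : Γ) - 1) * Q := by
      rw [mul_sub, sub_mul, _root_.mul_one, hPQ]
      rfl
    rw [e]
    constructor
    · rintro ⟨m, hm⟩
      refine ⟨m, ?_⟩
      rw [hp] at hm
      calc (Φ.ρ (x : Γ) - 1) ^ m = (Q * P) * (Φ.ρ (x : Γ) - 1) ^ m * (Q * P) := by
            rw [hQP, _root_.one_mul, _root_.mul_one]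
        _ = Q * (P * (Φ.ρ (x : Γ) - 1) ^ m * Q) * P := by simp only [_root_.mul_assoc]
        _ = 0 := by rw [hm, mul_zero, zero_mul]
    · rintro ⟨m, hm⟩
      exact ⟨m, by rw [hp, hm, mul_zero, zero_mul]⟩
  have hUcl : IsClosed ((Ψ.unipotent hup 1) : Set R) := by
    have : ((Ψ.unipotent hup 1) : Set R) = ⋂ i : Fin N, {x | Ψ.ρ x i i = 1} := by
      ext x
      simp only [Set.mem_iInter]
      exact ⟨fun hx i => congrFun (Ψ.diag_of_mem_unipotent hx) i, fun hx => Ψ.mem_unipotent_of_diag (funext hx)⟩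
    rw [this]
    exact isClosed_iInter fun i => Ψ.isClosed_apply i i 1
  let Uall : Subgroup Γ := (Ψ.unipotent hup 1).map R.subtype
  have hUallcl : IsClosed (Uall : Set Γ) := isClosed_map_subtype hR hUcl
  have hUall : ∀ x : Γ, x ∈ Uall ↔ x ∈ R ∧ IsNilpotent (Φ.ρ x - 1) := by
    intro x
    constructor
    · rintro ⟨y, hy, rfl⟩
      exact ⟨y.2, (hnil y).1 ((Ψ.mem_unipotent_iff_isNilpotent hup).1 hy)⟩
    · rintro ⟨hx, hxn⟩
      exact ⟨⟨x, hx⟩, (Ψ.mem_unipotent_iff_isNilpotent hup).2 ((hnil ⟨x, hx⟩).2 hxn), rfl⟩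
  let ΦU := Φ.restrict Uall hUallcl
  let U : Subgroup Γ := ΦU.identityComponent.map Uall.subtype
  have hUc : _root_.IsPreconnected (U : Set Γ) := isPreconnected_map_subtype isPreconnected_connectedComponent
  have hUle : U ≤ Uall := Subgroup.map_subtype_le _
  refine ⟨U, isClosed_map_subtype hUallcl ΦU.isClosed_identityComponent, hUc,
    hUle.trans (Subgroup.map_subtype_le _), fun g x hx => ?_, fun x hx => ((hUall x).1 (hUle hx)).2, fun hbot => ?_⟩
  · let C : Set Γ := (fun y => g * y * g⁻¹) '' (U : Set Γ)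
    have hCsub : C ⊆ (Uall : Set Γ) := by
      rintro _ ⟨y, hy, rfl⟩
      exact (hUall _).2 ⟨hN g y ((hUall y).1 (hUle hy)).1, Φ.isNilpotent_conj ((hUall y).1 (hUle hy)).2 g⟩
    have hC : _root_.IsPreconnected C :=
      hUc.image _ ((Φ.continuous_mul_right g⁻¹).comp (Φ.good.left g)).continuousOn
    have hpre : _root_.IsPreconnected ((Subtype.val : Uall → Γ) ⁻¹' C) := by
      refine Topology.IsInducing.subtypeVal.isPreconnected_image.1 ?_
      convert hC using 1
      exact Set.Subset.antisymm (by rintro _ ⟨z, hz, rfl⟩; exact hz) fun z hz => ⟨⟨z, hCsub hz⟩, hz, rfl⟩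
    have hsub := hpre.subset_connectedComponent (x := 1) ⟨1, U.one_mem, by simp⟩
    exact ⟨⟨g * x * g⁻¹, hCsub ⟨x, hx, rfl⟩⟩, hsub ⟨x, hx, rfl⟩, rfl⟩
  · have hbot' : ΦU.identityComponent = ⊥ :=
      (Subgroup.map_eq_bot_iff_of_injective _ Uall.subtype_injective).1 hbot
    have hfin := ΦU.finiteIndex_identityComponent
    rw [hbot'] at hfin
    have : Finite Uall := Finite.of_equiv _ (QuotientGroup.quotientBot (G := Uall)).toEquiv
    obtain ⟨T, hT, hcov⟩ := Ψ.exists_toral_lift hup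
    have : T.FiniteIndex := by
      refine @Subgroup.finiteIndex_of_finite_quotient _ _ _ (Finite.of_surjective
        (fun u : Uall => (QuotientGroup.mk (⟨(u : Γ), ((hUall u).1 u.2).1⟩ : R) : R ⧸ T)) ?_)
      rintro ⟨x⟩
      obtain ⟨t, ht, he⟩ := hcov x
      have hu : x * t⁻¹ ∈ Ψ.unipotent hup 1 := Ψ.mem_unipotent_of_diag (by
        rw [map_mul, ← he, ← map_mul, mul_inv_cancel, map_one])
      refine ⟨⟨((x * t⁻¹ : R) : Γ), x * t⁻¹, hu, rfl⟩, QuotientGroup.eq.2 ?_⟩
      show (x * t⁻¹)⁻¹ * x ∈ T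
      rw [_root_.mul_inv_rev, _root_.inv_inv, inv_mul_cancel_right]
      exact ht
    have htop := Ψ.eq_top_of_finiteIndex T hT.closed
    have h := hT.of_conj.map_subtype
    rwa [htop, ← MonoidHom.range_eq_map, Subgroup.range_subtype] at h

/-- A normal toral subgroup of a connected group is central. -/
theorem IsToral.central_of_normal {Φ : Rep k Γ N} [IsAlgClosed k] [PreconnectedSpace Γ] {T : Subgroup Γ}
    (hT : Φ.IsToral T) (hN : ∀ g : Γ, ∀ x ∈ T, g * x * g⁻¹ ∈ T) (g : Γ) {s : Γ} (hs : s ∈ T) :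
    g * s = s * g := by
  classical
  have hcl : IsClosed {x : Γ | g * x = x * g} := by
    have : {x : Γ | g * x = x * g} = (Subgroup.centralizer ({g} : Set Γ) : Set Γ) := by
      ext x
      simp [Subgroup.mem_centralizer_iff]
    rw [this]
    exact Φ.isClosed_centralizer _
  refine closure_minimal ?_ hcl (hT.closure_torsion hs)
  rintro r ⟨hr, n, hn, hrn⟩
  have hn0 : n ≠ 0 := fun h => hn (by rw [h, Nat.cast_zero])
  obtain ⟨P, Q, hQP, hd⟩ := hT.diag
  let dg : Γ → Fin N → k := fun x i => (P * Φ.ρ x * Q) i i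
  have hfin : Set.Finite {x : Γ | x ∈ T ∧ x ^ n = 1} := by
    refine Set.Finite.of_finite_image (f := dg) ((Set.Finite.pi fun _ =>
      Polynomial.finite_setOf_isRoot (Polynomial.X_pow_sub_C_ne_zero (Nat.pos_of_ne_zero hn0) (1 : k))).subset ?_) ?_
    · rintro _ ⟨x, ⟨hx, hxn⟩, rfl⟩ i -
      have e1 : (P * Φ.ρ x * Q) ^ n = 1 := by
        have e2 : ∀ j : ℕ, (P * Φ.ρ x * Q) ^ j = P * Φ.ρ x ^ j * Q := fun j => by
          induction j with
          | zero => rw [pow_zero, pow_zero, _root_.mul_one, mul_eq_one_comm.mp hQP]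
          | succ j ih =>
            rw [pow_succ, ih, pow_succ]
            simp only [_root_.mul_assoc]
            rw [← _root_.mul_assoc Q P, hQP, _root_.one_mul]
        rw [e2, ← map_pow, hxn, map_one, _root_.mul_one, mul_eq_one_comm.mp hQP]
      rw [← (hd x hx).diagonal_diag, Matrix.diagonal_pow] at e1
      have e3 := congrFun (congrFun e1 i) i
      simp only [Matrix.diagonal_apply_eq, Pi.pow_apply, Matrix.diag_apply, Matrix.one_apply_eq] at e3
      simp [dg, Polynomial.IsRoot, e3]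
    · intro x hx y hy h
      refine Φ.inj ?_
      have e : P * Φ.ρ x * Q = P * Φ.ρ y * Q := by
        rw [← (hd x hx.1).diagonal_diag, ← (hd y hy.1).diagonal_diag]
        exact congrArg Matrix.diagonal h
      calc Φ.ρ x = (Q * P) * Φ.ρ x * (Q * P) := by rw [hQP, _root_.one_mul, _root_.mul_one]
        _ = Q * (P * Φ.ρ x * Q) * P := by simp only [_root_.mul_assoc]
        _ = Q * (P * Φ.ρ y * Q) * P := by rw [e]
        _ = (Q * P) * Φ.ρ y * (Q * P) := by simp only [_root_.mul_assoc]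
        _ = Φ.ρ y := by rw [hQP, _root_.one_mul, _root_.mul_one]
  let c : Γ → Γ := fun x => x * r * x⁻¹
  have hlev : ∀ b, IsClosed (c ⁻¹' {b}) := fun b => by
    by_cases h : ∃ x₀, c x₀ = b
    · obtain ⟨x₀, rfl⟩ := h
      have : c ⁻¹' {c x₀} = (fun x => x₀⁻¹ * x) ⁻¹' (Subgroup.centralizer ({r} : Set Γ) : Set Γ) := by
        ext x
        simp only [Set.mem_preimage, Set.mem_singleton_iff, SetLike.mem_coe, Subgroup.mem_centralizer_iff, c]
        constructor
        · intro h y hy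
          rw [hy]
          calc r * (x₀⁻¹ * x) = x₀⁻¹ * (x₀ * r * x₀⁻¹) * x := by group
            _ = x₀⁻¹ * (x * r * x⁻¹) * x := by rw [h]
            _ = x₀⁻¹ * x * r := by group
        · intro h
          have h' := h r rfl
          calc x * r * x⁻¹ = x₀ * (x₀⁻¹ * x * r) * x⁻¹ := by group
            _ = x₀ * (r * (x₀⁻¹ * x)) * x⁻¹ := by rw [h']
            _ = x₀ * r * x₀⁻¹ := by group
      rw [this]
      exact (Φ.isClosed_centralizer _).preimage (Φ.good.left _)
    · convert isClosed_empty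
      exact Set.eq_empty_of_forall_notMem fun x hx => h ⟨x, hx⟩
  have hc := Normalizer.eq_of_finite_range isPreconnected_univ c hlev
    (hfin.subset (by
      rintro _ ⟨x, -, rfl⟩
      exact ⟨hN x r hr, by simp [c, conj_pow, hrn]⟩)) (Set.mem_univ g) (Set.mem_univ 1)
  simp only [c, _root_.one_mul, inv_one, _root_.mul_one] at hc
  show g * r = r * g
  rw [← mul_inv_eq_iff_eq_mul]
  exact hc

end Lin.Rep

end Groth.Agent.Borel50
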