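import Groth.Agent.Borel50.Radical
import Groth.Agent.Borel50.OverField
import Groth.Agent.Borel50.GeomTorus

/-!
# Solvable normal subgroups of reductive groups are central tori
-/

set_option autoImplicit false
universe u

open CategoryTheory MonoidalCategory CartesianMonoidalCategory MonObj GrpObj AlgebraicGeometry Limits
open scoped commutatorElement

noncomputable section

namespace Groth.Agent.Borel50.RadicalScheme

open Groth.Agent.Borel50.Pts Groth.Agent.Borel50.Lin Groth.Agent.Borel50.Density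
open Groth.Agent.DiagRig (bcTr bcUn bcTr_bcUn bcTr_map bcTr_mul bcTr_injective bcTr_comp bcTr_inv bcTr_one)

attribute [local instance] ptTop

section Closed

variable {k : Type u} [Field k] [IsAlgClosed k] {G : Over (Spec (CommRingCat.of k))} [GrpObj G] [IsAffine G.left]
  [Smooth G.hom] [ConnectedSpace G.left]

/-- A subgroup stable under conjugation by rational points is normal. -/
theorem isNormalHom_of_points {K : Over (Spec (CommRingCat.of k))} [GrpObj K] [Smooth K.hom] (i : K ⟶ G)
    [IsMonHom i] [IsClosedImmersion i.left]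
    (h : ∀ g : Pt G, ∀ x ∈ (ptHom i).range, g * x * g⁻¹ ∈ (ptHom i).range) : AlgGrp.IsNormalHom i := by
  have := FixedPt.qc_G G
  have : IsSeparated G.hom := GrpScheme.IdComponent.isSeparated G
  have : Smooth (G ⊗ K).hom := inferInstanceAs (Smooth (pullback.fst G.hom K.hom ≫ G.hom))
  have : IsReduced (G ⊗ K).left := GrpScheme.HomFlat.isReduced_of_smooth (G ⊗ K).hom
  obtain ⟨l, hl⟩ := factor_of_points (fst G K * (snd G K ≫ i) * (fst G K)⁻¹) i fun w => by
    obtain ⟨y, hy⟩ := h (w ≫ fst G K) _ ⟨w ≫ snd G K, rfl⟩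
    refine mem_range_of_factor (z := y) ?_
    rw [MonObj.comp_mul, MonObj.comp_mul, GrpObj.comp_inv, ← Category.assoc]
    exact hy
  intro T g n
  refine ⟨lift g n ≫ l, ?_⟩
  rw [Category.assoc, hl, MonObj.comp_mul, MonObj.comp_mul, GrpObj.comp_inv, lift_fst, ← Category.assoc, lift_snd]

omit [IsAffine G.left] [Smooth G.hom] [ConnectedSpace G.left] in
/-- A subgroup with unipotent rational points contains no subtorus. -/
theorem hasNoSubtorus_of_isNilpotent [IsAffine G.left] [Smooth G.hom] {U : Over (Spec (CommRingCat.of k))} [GrpObj U]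
    {N : ℕ} (Φ : Rep k (Pt G) N) (iU : U ⟶ G) [IsMonHom iU] [Mono iU]
    (h : ∀ w : Pt U, IsNilpotent (Φ.ρ (w ≫ iU) - 1)) : Red.HasNoSubtorus k U := by
  intro T _ j _ _ hT
  obtain ⟨_, _, _, _, -, -⟩ := TorusSch.torus_facts hT
  have := FixedPt.qc_G G
  have := GrpScheme.HomFlat.isReduced_of_smooth T.hom
  have : IsSeparated T.hom := GrpScheme.IdComponent.isSeparated T
  have := Lin.Torus.isClosedImmersion_of_torus (j ≫ iU) hT
  have htor := Lin.Torus.isToral_range Φ (j ≫ iU) hT
  have hone : ∀ t : Pt T, t = 1 := fun t => by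
    refine ptHom_injective (j ≫ iU) ?_
    rw [map_one]
    refine closure_minimal ?_ (Φ.isClosed_singleton 1) (htor.closure_torsion (MonoidHom.mem_range.2 ⟨t, rfl⟩))
    rintro x ⟨⟨s, rfl⟩, n, hn, hxn⟩
    refine Φ.eq_one_of_isNilpotent_torsion ?_ hn hxn
    have := h (s ≫ j)
    rwa [Category.assoc] at this
  have e : 𝟙 T = (1 : T ⟶ T) := Centralizer.hom_ext _ _ fun w => by
    rw [Category.comp_id, MonObj.comp_one, hone w]
  have e1 : toUnit T ≫ η[T] = 𝟙 T := by rw [e, Hom.one_def]
  exact ⟨(η[T] : 𝟙_ (Over (Spec (CommRingCat.of k))) ⟶ T).left, by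
    have := congrArg CommaMorphism.left e1
    simpa using this, Over.w _⟩

/-- The rational points of a normal unipotent connected subgroup of a reductive group are trivial. -/
theorem eq_bot_of_unipotent (hG : Red.IsReductiveOver k G) {N : ℕ} (Φ : Rep k (Pt G) N) (U : Subgroup (Pt G))
    (hU : IsClosed (U : Set (Pt G))) (hUc : _root_.IsPreconnected (U : Set (Pt G)))
    (hN : ∀ g : Pt G, ∀ x ∈ U, g * x * g⁻¹ ∈ U) (hnil : ∀ x ∈ U, IsNilpotent (Φ.ρ x - 1)) : U = ⊥ := by
  have := FixedPt.qc_G G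
  obtain ⟨K, _, iK, _, _, _, _, hmem, hconn⟩ := exists_sub U hU
  have := hconn hUc
  have : Mono iK := Over.mono_of_mono_left iK
  have hr : (ptHom iK).range = U :=
    le_antisymm (by rintro _ ⟨w, rfl⟩; exact (hmem _).2 ⟨w, rfl⟩) fun x hx => (hmem x).1 hx
  have htriv : IsIso K.hom := hG.2.2.2 K iK ‹_› ‹_› ‹_› (isNormalHom_of_points iK (hr.symm ▸ hN))
    (hasNoSubtorus_of_isNilpotent Φ iK fun w => hnil _ ((hmem _).2 ⟨w, rfl⟩))
  refine le_antisymm (fun x hx => ?_) bot_le
  obtain ⟨w, rfl⟩ := (hmem x).1 hx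
  have hw : w = 1 := Over.OverMorphism.ext ((cancel_mono K.hom).1 (by rw [Over.w, Over.w]))
  rw [hw, Subgroup.mem_bot]
  exact MonObj.one_comp iK

/-- A normal solvable connected group of rational points of a reductive group is toral and central. -/
theorem toral_of_reductive (hG : Red.IsReductiveOver k G) {N : ℕ} (Φ : Rep k (Pt G) N) (R : Subgroup (Pt G))
    (hR : IsClosed (R : Set (Pt G))) (hRc : _root_.IsPreconnected (R : Set (Pt G))) {n : ℕ}
    (hsol : derivedSeries R n = ⊥) (hN : ∀ g : Pt G, ∀ x ∈ R, g * x * g⁻¹ ∈ R) :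
    Φ.IsToral R ∧ ∀ g : Pt G, ∀ s ∈ R, g * s = s * g := by
  have := FixedPt.qc_G G
  have := preconnectedSpace_pt (G := G)
  obtain ⟨U, hU, hUc, -, hUN, hUn, htor⟩ := Φ.exists_unipotent_part R hR hRc hsol hN
  have h := htor (eq_bot_of_unipotent hG Φ U hU hUc hUN hUn)
  exact ⟨h, fun g s hs => h.central_of_normal hN g hs⟩

/-- A normal connected solvable subgroup of a reductive group is a central torus. -/
theorem normal_solvable (hG : Red.IsReductiveOver k G) {R : Over (Spec (CommRingCat.of k))} [GrpObj R] (r : R ⟶ G)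
    [IsMonHom r] [IsClosedImmersion r.left] [Smooth R.hom] [ConnectedSpace R.left] (hsol : Red.IsSolvableGrp R)
    (hN : AlgGrp.IsNormalHom r) :
    Red.IsTorus R ∧ ∀ (X : Over (Spec (CommRingCat.of k))) (t : X ⟶ R) (g : X ⟶ G),
      (t ≫ r) * g = g * (t ≫ r) := by
  have := FixedPt.qc_G G
  have := GrpScheme.HomFlat.isReduced_of_smooth G.hom
  have := GrpScheme.HomFlat.isReduced_of_smooth R.hom
  have : IsSeparated G.hom := GrpScheme.IdComponent.isSeparated G
  have : Mono r := Over.mono_of_mono_left r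
  obtain ⟨M, ⟨Φ⟩⟩ := exists_rep (G := G)
  obtain ⟨n, hn⟩ := Solvable.points_of_isSolvableGrp hsol
  obtain ⟨htor, hcen⟩ := toral_of_reductive hG Φ (ptHom r).range (Density.isClosed_range r)
    (Density.isPreconnected_range r) (n := n)
    (by rw [eq_bot_iff, ← map_derivedSeries_eq (MonoidHom.rangeRestrict_surjective (ptHom r)) n, hn, Subgroup.map_bot])
    (by
      rintro g _ ⟨w, rfl⟩
      obtain ⟨w', hw'⟩ := hN _ g w
      exact ⟨w', hw'.symm⟩)
  refine ⟨?_, fun X t g => ?_⟩
  · obtain ⟨K, _, iK, _, _, _, hK, hr⟩ := Lin.Torus.exists_torus htor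
    obtain ⟨_, _, _, _, -, -⟩ := TorusSch.torus_facts hK
    have := GrpScheme.HomFlat.isReduced_of_smooth K.hom
    obtain ⟨f, hf⟩ := factor_of_points iK r fun w => by
      obtain ⟨z, hz⟩ := (hr.le ⟨w, rfl⟩ : w ≫ iK ∈ (ptHom r).range)
      exact mem_range_of_factor hz
    obtain ⟨f', hf'⟩ := factor_of_points r iK fun w => by
      obtain ⟨z, hz⟩ := (hr.ge ⟨w, rfl⟩ : w ≫ r ∈ (ptHom iK).range)
      exact mem_range_of_factor hz
    have : IsMonHom f :=
      { one_hom := by rw [← cancel_mono r, Category.assoc, hf, IsMonHom.one_hom, IsMonHom.one_hom]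
        mul_hom := by
          rw [← cancel_mono r, Category.assoc, Category.assoc, hf, IsMonHom.mul_hom, IsMonHom.mul_hom,
            MonoidalCategory.tensorHom_comp_tensorHom_assoc, hf] }
    let e : K ≅ R := ⟨f, f', by rw [← cancel_mono iK, Category.assoc, hf', hf, Category.id_comp],
      by rw [← cancel_mono r, Category.assoc, hf, hf', Category.id_comp]⟩
    have : IsMonHom e.hom := ‹IsMonHom f›
    exact TorusSch.isTorus_of_iso e hK
  · have : Smooth (R ⊗ G).hom := inferInstanceAs (Smooth (pullback.fst R.hom G.hom ≫ R.hom))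
    have : IsReduced (R ⊗ G).left := GrpScheme.HomFlat.isReduced_of_smooth (R ⊗ G).hom
    have e : (fst R G ≫ r) * snd R G = snd R G * (fst R G ≫ r) := Centralizer.hom_ext _ _ fun w => by
      rw [MonObj.comp_mul, MonObj.comp_mul, ← Category.assoc]
      exact (hcen _ _ ⟨w ≫ fst R G, rfl⟩).symm
    simpa [MonObj.comp_mul] using congrArg (lift t g ≫ ·) e

end Closed

section Field

open Groth.Agent.Borel50.GeomTorus

variable {k : Type u} [Field k]

/-- Being normal is stable under base change. -/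
theorem isNormalHom_bc {S S' : Scheme.{u}} (q : S' ⟶ S) {N G : Over S} [GrpObj N] [GrpObj G] (i : N ⟶ G)
    (h : AlgGrp.IsNormalHom i) : AlgGrp.IsNormalHom ((Over.pullback q).map i) := by
  intro X g n
  obtain ⟨n', hn'⟩ := h _ (bcTr q g) (bcTr q n)
  refine ⟨bcUn q n', bcTr_injective q ?_⟩
  rw [bcTr_mul, bcTr_mul, bcTr_inv, bcTr_map, bcTr_map, bcTr_bcUn]
  exact hn'

/-- Solvability is stable under base change. -/
theorem isSolvableGrp_bc {S S' : Scheme.{u}} (q : S' ⟶ S) {R : Over S} [GrpObj R] (h : Red.IsSolvableGrp R) :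
    Red.IsSolvableGrp (Red.bc q R) := by
  obtain ⟨n, hn⟩ := h
  refine ⟨n, fun Y => ?_⟩
  let f : (Y ⟶ Red.bc q R) →* ((Over.map q).obj Y ⟶ R) :=
    { toFun := fun y => bcTr q y, map_one' := bcTr_one q, map_mul' := fun a b => bcTr_mul q a b }
  have h1 := (map_derivedSeries_le_derivedSeries f n).trans (hn _).le
  exact (Subgroup.map_eq_bot_iff_of_injective _ (bcTr_injective q)).1 (le_bot_iff.1 h1)

/-- A commutative group is solvable. -/
theorem isSolvableGrp_of_comm {S : Scheme.{u}} (H : Over S) [GrpObj H] [IsCommMonObj H] : Red.IsSolvableGrp H := by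
  refine ⟨1, fun Y => ?_⟩
  rw [derivedSeries_one, _root_.commutator_eq_bot_iff_center_eq_top, eq_top_iff]
  exact fun x _ => Subgroup.mem_center_iff.2 fun y => _root_.mul_comm y x

/-- Triviality descends from a field extension. -/
theorem isIso_hom_of_bc {K : Type u} [Field K] (g : Spec (CommRingCat.of K) ⟶ Spec (CommRingCat.of k))
    (X : Over (Spec (CommRingCat.of k))) (h : IsIso (Red.bc g X).hom) : IsIso X.hom := by
  have := BaseChange.surjective_g g
  have := BaseChange.flat_g g
  exact MorphismProperty.of_isPullback_of_descendsAlong (P := MorphismProperty.isomorphisms Scheme)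
    (Q := @Surjective ⊓ @Flat ⊓ @QuasiCompact)
    (IsPullback.of_hasPullback X.hom g).flip ⟨⟨inferInstance, inferInstance⟩, inferInstance⟩ h

variable {G R : Over (Spec (CommRingCat.of k))} [GrpObj G] [GrpObj R]

/-- The geometric fibre of a reductive group over a field. -/
theorem geom_facts (hG : Red.IsReductive G) : IsAffine G.left ∧ Smooth G.hom ∧
    Red.IsReductiveOver (AlgebraicClosure _) (Red.bc (gp k) G) ∧ IsAffine (Red.bc (gp k) G).left ∧
    Smooth (Red.bc (gp k) G).hom ∧ ConnectedSpace (Red.bc (gp k) G).left := by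
  obtain ⟨h1, h2, h3⟩ := hG
  exact ⟨isAffine_of_isAffineHom G.hom, h2, h3 _, (h3 _).1, (h3 _).2.1, (h3 _).2.2.1⟩

/-- A normal connected solvable subgroup of a reductive group over a field, geometrically. -/
theorem normal_solvable_geom (hG : Red.IsReductive G) (r : R ⟶ G) [IsMonHom r] [IsClosedImmersion r.left]
    [Smooth R.hom] [ConnectedSpace R.left] (hsol : Red.IsSolvableGrp R) (hN : AlgGrp.IsNormalHom r) :
    Red.IsTorus (Red.bc (gp k) R) ∧
      ∀ (X : Over (Spec (CommRingCat.of k))) (t : X ⟶ R) (g : X ⟶ G), (t ≫ r) * g = g * (t ≫ r) := by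
  obtain ⟨_, _, hK, _, _, _⟩ := geom_facts hG
  have := DiagRig.isMonHom_bcMap (gp k) r
  have : IsClosedImmersion ((Over.pullback (gp k)).map r).left := LimGrp.property_map @IsClosedImmersion _ r ‹_›
  have : Smooth (Red.bc (gp k) R).hom := inferInstanceAs (Smooth (pullback.snd R.hom _))
  have : LocallyOfFiniteType R.hom := inferInstance
  have := BaseChange.connectedSpace_bc (gp k) R
  obtain ⟨h1, h2⟩ := normal_solvable hK ((Over.pullback (gp k)).map r) (isSolvableGrp_bc _ hsol)
    (isNormalHom_bc _ r hN)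
  refine ⟨h1, fun X t g => OverField.map_injective (gp k) ?_⟩
  have h := h2 _ ((Over.pullback (gp k)).map t) ((Over.pullback (gp k)).map g)
  rw [← Functor.map_comp] at h
  rwa [Functor.map_mul, Functor.map_mul]

end Field

end Groth.Agent.Borel50.RadicalScheme
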