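import Groth.Agent.Borel50.Parabolic
import Groth.Agent.S5260
import Groth.Agent.FlatMor.FibMapCrit
import Groth.Agent.LimGrp.Quot
import Groth.Prelude.Def_RedSub

/-!
# Subgroups containing Borel subgroups of the geometric fibres are closed and self-normalising
-/

set_option autoImplicit false
universe u

open CategoryTheory MonoidalCategory CartesianMonoidalCategory MonObj GrpObj AlgebraicGeometry Limits

noncomputable section

namespace Groth.Agent.Borel50.Relative

open Groth.Agent.Borel50.Pts Groth.Agent.Borel50.Lin Groth.Agent.Borel50.Density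
open Groth.Agent.DiagRig (bcTr bcUn bcTr_bcUn bcTr_map bcTr_mul bcTr_injective bcTr_comp bcTr_inv)

variable {S : Scheme.{u}}

/-- The part of a geometric point above the residue field. -/
abbrev gext (s : S) :
    Spec (CommRingCat.of (AlgebraicClosure (S.residueField s))) ⟶ Spec (S.residueField s) :=
  Spec.map (CommRingCat.ofHom (algebraMap (S.residueField s) (AlgebraicClosure (S.residueField s))))

lemma gext_fpqc (s : S) : Surjective (gext s) ∧ Flat (gext s) ∧ QuasiCompact (gext s) := by
  refine ⟨⟨fun x => ⟨default, Subsingleton.elim _ _⟩⟩, ?_, inferInstance⟩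
  rw [HasRingHomProperty.Spec_iff (P := @Flat)]
  exact RingHom.flat_algebraMap_iff.mpr inferInstance

/-- Connectedness of the fibres follows from connectedness of the geometric fibres. -/
lemma connectedSpace_fibre (X : Over S) (s : S) (h : ConnectedSpace (Red.geomFibre s X).left) :
    ConnectedSpace ↥(pullback X.hom (S.fromSpecResidueField s)) := by
  obtain ⟨hs, -, -⟩ := gext_fpqc s
  let π : (Red.geomFibre s X).left ⟶ pullback X.hom (S.fromSpecResidueField s) :=
    pullback.lift (pullback.fst X.hom (Red.geomPt s)) (pullback.snd X.hom (Red.geomPt s) ≫ gext s)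
      (by rw [pullback.condition, Category.assoc]; rfl)
  have sq : IsPullback π (pullback.snd X.hom (Red.geomPt s))
      (pullback.snd X.hom (S.fromSpecResidueField s)) (gext s) :=
    IsPullback.of_right (by rw [pullback.lift_fst]; exact IsPullback.of_hasPullback X.hom (Red.geomPt s))
      (pullback.lift_snd ..) (IsPullback.of_hasPullback X.hom (S.fromSpecResidueField s))
  have : Surjective π := MorphismProperty.of_isPullback sq.flip hs
  exact FlatMor.GeomDescent.connectedSpace_of_surjective π h

/-- An isomorphism on the geometric fibres is an isomorphism, for a flat source. -/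
theorem isIso_of_geomFibres {X Y : Over S} [Flat X.hom] [LocallyOfFinitePresentation X.hom]
    [LocallyOfFinitePresentation Y.hom] (f : X ⟶ Y)
    (h : ∀ s : S, IsIso ((Over.pullback (Red.geomPt s)).map f)) : IsIso f := by
  have : IsIso f.left := by
    refine (FlatMor.FibMap.isIso_iff (g := Y.hom) (Over.w f)).2 fun s => ?_
    obtain ⟨hs, hf, hq⟩ := gext_fpqc s
    let π : (Red.geomFibre s Y).left ⟶ Y.hom.fiber s :=
      pullback.lift (pullback.fst Y.hom (Red.geomPt s)) (pullback.snd Y.hom (Red.geomPt s) ≫ gext s)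
        (by rw [pullback.condition, Category.assoc]; rfl)
    have hι : π ≫ Y.hom.fiberι s = pullback.fst Y.hom (Red.geomPt s) := pullback.lift_fst ..
    have sq : IsPullback π (pullback.snd Y.hom (Red.geomPt s))
        (Y.hom.fiberToSpecResidueField s) (gext s) :=
      IsPullback.of_right (h₁₂ := Y.hom.fiberι s) (v₁₃ := Y.hom)
        (by rw [hι]; exact IsPullback.of_hasPullback Y.hom (Red.geomPt s))
        (pullback.lift_snd ..) (IsPullback.of_hasPullback Y.hom (S.fromSpecResidueField s))
    have hπ : (@Surjective ⊓ @Flat ⊓ @QuasiCompact : MorphismProperty Scheme) π :=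
      ⟨⟨MorphismProperty.of_isPullback sq.flip hs, MorphismProperty.of_isPullback sq.flip hf⟩,
        MorphismProperty.of_isPullback sq.flip hq⟩
    have outer := LimGrp.isPullback_map_left (Red.geomPt s) f
    let e : (Red.geomFibre s X).left ⟶ pullback f.left (Y.hom.fiberι s) :=
      pullback.lift (pullback.fst X.hom (Red.geomPt s))
        (((Over.pullback (Red.geomPt s)).map f).left ≫ π) (by rw [Category.assoc, hι]; exact outer.w)
    have left : IsPullback e ((Over.pullback (Red.geomPt s)).map f).left
        (pullback.snd f.left (Y.hom.fiberι s)) π :=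
      IsPullback.of_right (by rw [pullback.lift_fst, hι]; exact outer)
        (pullback.lift_snd ..) (IsPullback.of_hasPullback f.left (Y.hom.fiberι s))
    have := h s
    exact MorphismProperty.of_isPullback_of_descendsAlong (P := MorphismProperty.isomorphisms Scheme)
      (Q := @Surjective ⊓ @Flat ⊓ @QuasiCompact) left.flip hπ
      (show IsIso ((Over.pullback (Red.geomPt s)).map f).left from
        inferInstanceAs (IsIso ((Over.forget _).map ((Over.pullback (Red.geomPt s)).map f))))
  have : IsIso ((Over.forget S).map f) := this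
  exact isIso_of_reflects_iso f (Over.forget S)

variable {G P : Over S} [GrpObj G] [GrpObj P]

/-- A smooth subgroup whose geometric fibres are closed and contain Borel subgroups is closed and is its own
normaliser. -/
theorem self_normalizing (hG : Red.IsReductive G) (i : P ⟶ G) [IsMonHom i] [IsImmersion i.left] [Smooth P.hom]
    [QuasiCompact P.hom]
    (hP : ∀ s : S, IsClosedImmersion ((Over.pullback (Red.geomPt s)).map i).left ∧
      ∃ (B : Over (Spec (CommRingCat.of (AlgebraicClosure (S.residueField s))))) (_ : GrpObj B)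
        (b : B ⟶ Red.geomFibre s P),
        Red.IsBorelOver (AlgebraicClosure (S.residueField s)) (b ≫ (Over.pullback (Red.geomPt s)).map i)) :
    IsClosedImmersion i.left ∧ Red.IsNormalizerOf i i := by
  obtain ⟨hGa, hGs, hGf⟩ := hG
  have hsepP : IsSeparated P.hom := by
    rw [← Over.w i]; infer_instance
  have : Mono i := Over.mono_of_mono_left i
  have key : ∀ s : S, ConnectedSpace (Red.geomFibre s P).left ∧
      ∀ (X : Over _) (g : X ⟶ Red.geomFibre s G),
      (∀ (X' : Over _) (x : X' ⟶ X) (h : X' ⟶ Red.geomFibre s P),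
        (∃ h' : X' ⟶ Red.geomFibre s P, (x ≫ g) * (h ≫ (Over.pullback (Red.geomPt s)).map i) * (x ≫ g)⁻¹ =
          h' ≫ (Over.pullback (Red.geomPt s)).map i) ∧
        (∃ h' : X' ⟶ Red.geomFibre s P, (x ≫ g)⁻¹ * (h ≫ (Over.pullback (Red.geomPt s)).map i) * (x ≫ g) =
          h' ≫ (Over.pullback (Red.geomPt s)).map i)) →
      ∃ z : X ⟶ Red.geomFibre s P, z ≫ (Over.pullback (Red.geomPt s)).map i = g := by
    intro s
    obtain ⟨hc, B, _, b, hb⟩ := hP s
    obtain ⟨ha, hsm, hco, -⟩ := hGf s
    have := DiagRig.isMonHom_bcMap (Red.geomPt s) i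
    have := hb.1
    have : Smooth (Red.geomFibre s P).hom := inferInstanceAs (Smooth (pullback.snd P.hom _))
    have hle : (ptHom (b ≫ (Over.pullback (Red.geomPt s)).map i)).range ≤
        (ptHom ((Over.pullback (Red.geomPt s)).map i)).range := by
      rintro _ ⟨w, rfl⟩
      exact ⟨w ≫ b, show (w ≫ b) ≫ (Over.pullback (Red.geomPt s)).map i = w ≫ b ≫ (Over.pullback (Red.geomPt s)).map i from Category.assoc _ _ _⟩
    obtain ⟨h1, h2⟩ := Parabolic.connected_and_normalizer ((Over.pullback (Red.geomPt s)).map i) _ hb hle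
    exact ⟨h1, fun X g hg => NormalizerScheme.exists_lift_of_le _ _ hb hle h2 g hg⟩
  obtain ⟨N, _, j, hj, hjc, hjf⟩ := S5260.result G P (fun s => connectedSpace_fibre P s (key s).1) i
  have := hj.1
  have := hj.2.1
  obtain ⟨f, hf⟩ := (hj.2.2 P i).2 fun X' x h => by
    refine ⟨⟨x * h * x⁻¹, ?_⟩, ⟨x⁻¹ * h * x, ?_⟩⟩ <;>
      rw [MonObj.mul_comp, MonObj.mul_comp, GrpObj.inv_comp]
  have : LocallyOfFinitePresentation N.hom := by rw [← Over.w j]; infer_instance
  have : IsIso f := isIso_of_geomFibres f fun s => by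
    obtain ⟨z, hz⟩ := (key s).2 (Red.bc (Red.geomPt s) N) ((Over.pullback (Red.geomPt s)).map j) fun X' x h => by
      obtain ⟨⟨a₁, ha₁⟩, ⟨a₂, ha₂⟩⟩ :=
        (hj.2.2 N j).1 ⟨𝟙 N, Category.id_comp _⟩ _ (bcTr (Red.geomPt s) x) (bcTr (Red.geomPt s) h)
      refine ⟨⟨bcUn (Red.geomPt s) a₁, bcTr_injective (Red.geomPt s) ?_⟩, ⟨bcUn (Red.geomPt s) a₂, bcTr_injective (Red.geomPt s) ?_⟩⟩ <;>
        simp only [bcTr_mul, bcTr_inv, bcTr_map, bcTr_bcUn] <;> assumption
    have : Mono ((Over.pullback (Red.geomPt s)).map j) := inferInstance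
    have : Mono ((Over.pullback (Red.geomPt s)).map i) := inferInstance
    have hfz : (Over.pullback (Red.geomPt s)).map f ≫ (Over.pullback (Red.geomPt s)).map j = (Over.pullback (Red.geomPt s)).map i := by
      rw [← Functor.map_comp, hf]
    exact ⟨z, by rw [← cancel_mono ((Over.pullback (Red.geomPt s)).map i), Category.assoc, hz, hfz, Category.id_comp],
      by rw [← cancel_mono ((Over.pullback (Red.geomPt s)).map j), Category.assoc, hfz, hz, Category.id_comp]⟩
  refine ⟨?_, ‹_›, ‹_›, fun X g => ?_⟩
  · rw [← hf, Over.comp_left]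
    have : IsIso f.left := inferInstanceAs (IsIso ((Over.forget _).map f))
    infer_instance
  · rw [← hj.2.2 X g]
    constructor
    · rintro ⟨z, rfl⟩; exact ⟨z ≫ f, by rw [Category.assoc, hf]⟩
    · rintro ⟨z, rfl⟩; exact ⟨z ≫ inv f, by rw [Category.assoc, ← hf, IsIso.inv_hom_id_assoc]⟩

/-- Parabolic subgroups are their own normalisers. -/
theorem of_isParabolic (hG : Red.IsReductive G) (i : P ⟶ G) (hP : Red.IsParabolic i) :
    IsClosedImmersion i.left ∧ Red.IsNormalizerOf i i := by
  obtain ⟨h1, h2, h3, h4⟩ := hP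
  have : IsAffineHom G.hom := hG.1
  have : QuasiCompact P.hom := by rw [← Over.w i]; infer_instance
  exact self_normalizing hG i fun s => ⟨(h4 s).2.1, (h4 s).2.2.2⟩

/-- Borel subgroups are closed and are their own normalisers. -/
theorem of_isBorelSub (hG : Red.IsReductive G) (i : P ⟶ G) (hP : RedSub.IsBorelSub i) :
    IsClosedImmersion i.left ∧ Red.IsNormalizerOf i i := by
  obtain ⟨⟨⟨h1, h2⟩, h3, h4, -⟩, h5⟩ := hP
  refine self_normalizing hG i fun s => ⟨(h5 s).2.1, _, inferInstance, 𝟙 _, ?_⟩
  rw [Category.id_comp]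
  exact h5 s

end Groth.Agent.Borel50.Relative
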