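import Groth.Agent.Borel50.Central
import Groth.Agent.FBase.BC
import Groth.Prelude.Def_W4bk4grossh111Obs

/-!
# Invariants for a subgroup with proper quotient
-/

set_option autoImplicit false
universe u

open CategoryTheory MonoidalCategory CartesianMonoidalCategory MonObj GrpObj AlgebraicGeometry Limits

noncomputable section

namespace Groth.Agent.Borel50.RightInv

variable {k : Type u} [Field k] [IsAlgClosed k] {G H₁ H₂ X : Over (Spec (CommRingCat.of k))}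
  [GrpObj G] [GrpObj H₁] [GrpObj H₂]

/-- The morphism given by a ring of functions detects invariance. -/
lemma appTop_eq_of_comp {W Y : Scheme.{u}} (m₁ m₂ : W ⟶ Y) (R : Subring Γ(Y, ⊤))
    (h : m₁ ≫ Y.toSpecΓ ≫ Spec.map (CommRingCat.ofHom R.subtype) =
      m₂ ≫ Y.toSpecΓ ≫ Spec.map (CommRingCat.ofHom R.subtype)) (f : Γ(Y, ⊤)) (hf : f ∈ R) :
    m₁.appTop f = m₂.appTop f := by
  rw [Scheme.toSpecΓ_naturality_assoc, Scheme.toSpecΓ_naturality_assoc, ← Spec.map_comp, ← Spec.map_comp] at h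
  have h' := congrArg Scheme.Hom.appTop h
  simp only [Scheme.Hom.comp_appTop, Scheme.toSpecΓ_appTop, Scheme.ΓSpecIso_naturality] at h'
  rw [cancel_epi] at h'
  exact congr($h' ⟨f, hf⟩)

theorem rTransInv_eq [IsAffine G.left] [Smooth G.hom] [Smooth H₂.hom] (i₁ : H₁ ⟶ H₂) [IsMonHom i₁]
    [IsClosedImmersion i₁.left] (i₂ : H₂ ⟶ G) [IsMonHom i₂] [IsClosedImmersion i₂.left]
    {a : AlgGrp.Action H₂ X} {o : 𝟙_ _ ⟶ X} (hX : AGF.IsQuotient i₁ X a o) [IsProper X.hom]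
    [IrreducibleSpace X.left] :
    AGF.rTransInv (i₁ ≫ i₂) = AGF.rTransInv i₂ := by
  refine le_antisymm (fun f hf => ?_) fun f hf => ?_
  swap
  · -- invariance restricts to subgroups
    have e1 : (G ◁ (i₁ ≫ i₂)) ≫ μ[G] = (G ◁ i₁) ≫ (G ◁ i₂) ≫ μ[G] := by rw [← Category.assoc, ← MonoidalCategory.whiskerLeft_comp]
    have e2 : fst G H₁ = (G ◁ i₁) ≫ fst G H₂ := (whiskerLeft_fst G i₁).symm
    show ((G ◁ (i₁ ≫ i₂)) ≫ μ[G]).left.appTop f = (fst G H₁).left.appTop f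
    rw [e1, e2]
    simp only [Over.comp_left, Scheme.Hom.comp_appTop, CommRingCat.comp_apply]
    have hf' : ((G ◁ i₂) ≫ μ[G]).left.appTop f = (fst G H₂).left.appTop f := hf
    simp only [Over.comp_left, Scheme.Hom.comp_appTop, CommRingCat.comp_apply] at hf'
    rw [hf']
  have := FixedPt.qc_G G
  have : QuasiCompact H₂.hom := by rw [← Over.w i₂]; infer_instance
  have := hX.2.1
  have := hX.2.2.1
  have := GrpScheme.HomFlat.isReduced_of_smooth H₂.hom
  have : IsReduced X.left := FlatMor.GeomDescent.isReduced_of_flat_surjective (a.orbitMap o).left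
  have : IsIntegral X.left := isIntegral_of_irreducibleSpace_of_isReduced _
  have := FBase.BC.geometricallyIrreducible_of_isSepClosed X.hom
  have := FBase.BC.geometricallyReduced_of_isReduced_of_perfectField X.hom
  have := GeometricallyIntegral.of_geometricallyReduced_of_geometricallyIrreducible X.hom
  let R := AGF.rTransInv (i₁ ≫ i₂)
  let ψ : G.left ⟶ Spec (CommRingCat.of R) := G.left.toSpecΓ ≫ Spec.map (CommRingCat.ofHom R.subtype)
  -- invariance as an identity of morphisms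
  have hψ : ((G ◁ (i₁ ≫ i₂)) ≫ μ[G]).left ≫ ψ = (fst G H₁).left ≫ ψ := by
    simp only [ψ, Scheme.toSpecΓ_naturality_assoc, ← Spec.map_comp]
    congr 2
    ext x
    exact x.2
  let m : H₂ ⊗ G ⟶ G := snd H₂ G * (fst H₂ G ≫ i₂)
  have hψ' : ∀ {T : Over (Spec (CommRingCat.of k))} (y : T ⟶ G) (t : T ⟶ H₁),
      (y * (t ≫ i₁ ≫ i₂)).left ≫ ψ = y.left ≫ ψ := fun {T} y t => by
    have e1 : y * (t ≫ i₁ ≫ i₂) = lift y t ≫ (G ◁ (i₁ ≫ i₂)) ≫ μ[G] := by
      rw [lift_whiskerLeft_assoc, Hom.mul_def]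
    rw [e1, Over.comp_left, Category.assoc, hψ, ← Category.assoc, ← Over.comp_left, lift_fst]
  let π : H₂ ⊗ G ⟶ X ⊗ G := a.orbitMap o ▷ G
  have : QuasiCompact (a.orbitMap o).left :=
    have : QuasiCompact ((a.orbitMap o).left ≫ X.hom) := by rw [Over.w]; infer_instance
    QuasiCompact.of_comp _ X.hom
  have : Flat π.left := GrpScheme.Basic.whiskerRight_mem @Flat _ G hX.2.1
  have : Surjective π.left := GrpScheme.Basic.whiskerRight_mem @Surjective _ G hX.2.2.1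
  have : QuasiCompact π.left := GrpScheme.Basic.whiskerRight_mem @QuasiCompact _ G ‹_›
  have hdesc : ∀ {W : Scheme.{u}} (p q : W ⟶ (H₂ ⊗ G).left), p ≫ π.left = q ≫ π.left →
      p ≫ m.left ≫ ψ = q ≫ m.left ≫ ψ := by
    intro W p q e
    let P : Over.mk (p ≫ (H₂ ⊗ G).hom) ⟶ H₂ ⊗ G := Over.homMk p rfl
    let Q : Over.mk (p ≫ (H₂ ⊗ G).hom) ⟶ H₂ ⊗ G := Over.homMk q (by
      show q ≫ _ = p ≫ _
      rw [← Over.w π, reassoc_of% e])
    have hPQ : P ≫ π = Q ≫ π := Over.OverMorphism.ext e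
    have hT : P ≫ snd H₂ G = Q ≫ snd H₂ G := by
      simpa [π] using congr($hPQ ≫ snd X G)
    have hG : (P ≫ fst H₂ G) ≫ a.orbitMap o = (Q ≫ fst H₂ G) ≫ a.orbitMap o := by
      simpa [π] using congr($hPQ ≫ fst X G)
    let r := hX.2.2.2.lift (P ≫ fst H₂ G) (Q ≫ fst H₂ G) hG
    have hb : Q ≫ fst H₂ G = (P ≫ fst H₂ G) * ((r ≫ snd H₂ H₁) ≫ i₁) := by
      have e1 : r ≫ fst H₂ H₁ = P ≫ fst H₂ G := hX.2.2.2.lift_fst _ _ hG
      have e2 : r ≫ (H₂ ◁ i₁) ≫ μ[H₂] = Q ≫ fst H₂ G := hX.2.2.2.lift_snd _ _ hG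
      rw [← e2, ← e1, Hom.mul_def, Category.assoc r (snd H₂ H₁) i₁, ← comp_lift, Category.assoc]
      congr 1
    suffices (P ≫ m).left ≫ ψ = (Q ≫ m).left ≫ ψ by
      simpa [P, Q] using this
    simp only [m, MonObj.comp_mul]
    rw [← Category.assoc Q (fst H₂ G) i₂, hb, MonObj.mul_comp, ← hT, ← _root_.mul_assoc, Category.assoc _ i₁ i₂,
      hψ', Category.assoc]
  obtain ⟨g', hg'⟩ := AbVarLib.Rigidity.exists_eq_snd_comp_of_isAffine X.hom G.hom
    (EffectiveEpi.desc π.left (m.left ≫ ψ) hdesc)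
  have hg : m.left ≫ ψ = (snd H₂ G).left ≫ g' := by
    rw [← EffectiveEpi.fac π.left (m.left ≫ ψ) hdesc, hg', ← Category.assoc]
    congr 1
    rw [← whiskerRight_snd (a.orbitMap o) G]
    rfl
  let s : G ⟶ H₂ ⊗ G := lift 1 (𝟙 G)
  have hs : s ≫ m = 𝟙 G := by simp [m, s, MonObj.comp_mul]
  have hg'' : g' = ψ :=
    calc g' = (s ≫ snd H₂ G).left ≫ g' := by simp [s]
      _ = s.left ≫ (snd H₂ G).left ≫ g' := by rw [Over.comp_left, Category.assoc]
      _ = s.left ≫ m.left ≫ ψ := by rw [hg]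
      _ = (s ≫ m).left ≫ ψ := by rw [Over.comp_left, Category.assoc]
      _ = ψ := by rw [hs, Over.id_left, Category.id_comp]
  refine appTop_eq_of_comp _ _ R ?_ f hf
  have e1 : (G ◁ i₂) ≫ μ[G] = lift (snd G H₂) (fst G H₂) ≫ m := by
    simp only [m, MonObj.comp_mul, lift_snd, lift_fst_assoc, Hom.mul_def, ← Category.assoc]
    congr 1
    apply CartesianMonoidalCategory.hom_ext <;> simp
  show ((G ◁ i₂) ≫ μ[G]).left ≫ ψ = (fst G H₂).left ≫ ψ
  rw [e1, Over.comp_left, Category.assoc, hg, hg'', ← Category.assoc, ← Over.comp_left, lift_snd]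

end Groth.Agent.Borel50.RightInv
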