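import Groth.Agent.Borel50.RadicalScheme
import Mathlib.LinearAlgebra.Matrix.Charpoly.Coeff

/-!
# Homomorphisms preserve unipotent points
-/

set_option autoImplicit false
universe u v

open CategoryTheory MonoidalCategory CartesianMonoidalCategory MonObj GrpObj AlgebraicGeometry Limits

noncomputable section

namespace Groth.Agent.Borel50

/-- A nilpotent matrix vanishes at the power equal to its size. -/
lemma pow_card_eq_zero {k : Type u} [Field k] {N : ℕ} {M : Matrix (Fin N) (Fin N) k} (h : IsNilpotent M) : M ^ N = 0 := by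
  have hc : M.charpoly = Polynomial.X ^ Fintype.card (Fin N) :=
    sub_eq_zero.1 (Matrix.isNilpotent_charpoly_sub_pow_of_isNilpotent h).eq_zero
  have := Matrix.aeval_self_charpoly M
  rwa [hc, map_pow, Polynomial.aeval_X, Fintype.card_fin] at this

namespace Lin.Rep

variable {k : Type u} [Field k] {N : ℕ} {Γ : Type v} [Group Γ] [TopologicalSpace Γ] (Φ : Rep k Γ N)

/-- The unipotent elements form a closed set. -/
lemma isClosed_isNilpotent : IsClosed {x : Γ | IsNilpotent (Φ.ρ x - 1)} := by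
  let X : Matrix (Fin N) (Fin N) (MvPolynomial (Fin N × Fin N) k) := Matrix.of fun i j => MvPolynomial.X (i, j)
  have hev : ∀ (x : Γ) (i j : Fin N), ev (((X - 1) ^ N) i j) (Φ.ρ x) = ((Φ.ρ x - 1) ^ N) i j := by
    intro x i j
    let φ := MvPolynomial.eval fun p : Fin N × Fin N => Φ.ρ x p.1 p.2
    have hX : φ.mapMatrix X = Φ.ρ x := Matrix.ext fun a b => MvPolynomial.eval_X _
    show φ.mapMatrix ((X - 1) ^ N) i j = _
    rw [map_pow, map_sub, map_one, hX]
  have e : {x : Γ | IsNilpotent (Φ.ρ x - 1)} = ⋂ i, ⋂ j, {x | ev (((X - 1) ^ N) i j) (Φ.ρ x) = 0} := by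
    ext x
    simp only [Set.mem_iInter]
    refine ⟨fun h i j => (hev x i j).trans (by rw [pow_card_eq_zero h]; rfl), fun h => ⟨N, Matrix.ext fun i j => ?_⟩⟩
    exact (hev x i j).symm.trans (h i j)
  rw [e]
  exact isClosed_iInter fun i => isClosed_iInter fun j => Φ.isClosed_ev _

/-- Products of commuting unipotent elements are unipotent. -/
lemma isNilpotent_mul {x y : Γ} (h : Commute x y) (hx : IsNilpotent (Φ.ρ x - 1)) (hy : IsNilpotent (Φ.ρ y - 1)) :
    IsNilpotent (Φ.ρ (x * y) - 1) := by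
  have hc : Commute (Φ.ρ x) (Φ.ρ y) := h.map Φ.ρ
  rw [show Φ.ρ (x * y) - 1 = (Φ.ρ x - 1) * Φ.ρ y + (Φ.ρ y - 1) by rw [map_mul]; noncomm_ring]
  refine Commute.isNilpotent_add ?_ ((hc.sub_left (Commute.one_left _)).isNilpotent_mul_right hx) hy
  exact ((hc.sub_left (Commute.one_left _)).sub_right (Commute.one_right _)).mul_left
    ((Commute.refl _).sub_right (Commute.one_right _))

/-- A closed subgroup containing a power, prime to the characteristic, of a unipotent element contains the element. -/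
theorem mem_of_pow_mem [IsAlgClosed k] (hup : ∀ x, Φ.ρ x ∈ fil k N 0) (H : Subgroup Γ) (hH : IsClosed (H : Set Γ))
    {a : Γ} (ha : a ∈ Φ.unipotent hup 1) (hcom : ∀ y ∈ H, Commute y a) {n : ℕ} (hn : (n : k) ≠ 0)
    (h : a ^ n ∈ H) : a ∈ H := by
  obtain ⟨r, hr, hrn⟩ := exists_root (Φ.restrict H hH) (fun x => hup x) (le_refl 1) hn
    (u := ⟨a ^ n, h⟩) ((Φ.unipotent hup 1).pow_mem ha n)
  have e : (r : Γ) ^ n = a ^ n := congrArg Subtype.val hrn
  have h1 : ((r : Γ)⁻¹ * a) ^ n = 1 := by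
    rw [(hcom _ r.2).inv_left.mul_pow, inv_pow, e, inv_mul_cancel]
  have h2 := Φ.eq_one_of_unipotent_torsion hup hn
    ((Φ.unipotent hup 1).mul_mem ((Φ.unipotent hup 1).inv_mem hr) ha) h1
  rw [inv_mul_eq_one] at h2
  exact h2 ▸ r.2

end Lin.Rep

namespace UnipMap

open Groth.Agent.Borel50.Pts Groth.Agent.Borel50.Lin Groth.Agent.Borel50.Density

attribute [local instance] ptTop

variable {k : Type u} [Field k] [IsAlgClosed k] {B Q : Over (Spec (CommRingCat.of k))} [GrpObj B] [GrpObj Q]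
  [IsAffine B.left] [Smooth B.hom] [IsAffine Q.left] [Smooth Q.hom]

/-- Unipotent points of a triangular group map to unipotent points. -/
theorem isNilpotent_map {N M : ℕ} (Φ : Rep k (Pt B) N) (hup : ∀ x, Φ.ρ x ∈ fil k N 0) (Ψ : Rep k (Pt Q) M)
    (q : B ⟶ Q) [IsMonHom q] {u : Pt B} (hu : u ∈ Φ.unipotent hup 1) : IsNilpotent (Ψ.ρ (u ≫ q) - 1) := by
  classical
  let f : Pt B →* Pt Q := ptHom q
  have hq : Continuous f := continuous_comp q
  rcases CharP.exists' k with hk | ⟨p, hp, hkp⟩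
  swap
  · -- in characteristic `p` a unipotent element has `p`-power order
    have := hp
    rcases Nat.eq_zero_or_pos N with hN | hN
    · have : u = 1 := Φ.inj (Matrix.ext fun a => by subst hN; exact a.elim0)
      exact ⟨1, by rw [this, MonObj.one_comp, map_one, sub_self, zero_pow one_ne_zero]⟩
    have : Nonempty (Fin N) := ⟨⟨0, hN⟩⟩
    have hu1 : u ^ p ^ N = 1 := Φ.inj (by
      rw [map_pow, map_one, ← sub_eq_zero]
      have e := sub_pow_char_pow_of_commute p N (Commute.one_right (Φ.ρ u))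
      rw [one_pow] at e
      rw [← e]
      obtain ⟨d, hd⟩ := Nat.exists_eq_add_of_le (Nat.lt_pow_self hp.out.one_lt (n := N)).le
      rw [hd, pow_add, eq_zero_of_fil (by omega) (pow_mem_fil (Φ.mem_unipotent.1 hu) N), zero_mul])
    rcases Nat.eq_zero_or_pos M with hM | hM
    · exact ⟨1, Matrix.ext fun a => by subst hM; exact a.elim0⟩
    have : Nonempty (Fin M) := ⟨⟨0, hM⟩⟩
    refine ⟨p ^ N, ?_⟩
    rw [sub_pow_char_pow_of_commute p N (Commute.one_right _), one_pow, ← map_pow]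
    show Ψ.ρ (f u ^ p ^ N) - 1 = 0
    rw [← map_pow f, hu1, map_one, map_one, sub_self]
  -- in characteristic zero, use the closure of the powers
  have := FixedPt.qc_G B
  have := FixedPt.qc_G Q
  obtain ⟨A, hA⟩ := Φ.exists_closure_subgroup (Subgroup.zpowers u)
  have hAcl : IsClosed (A : Set (Pt B)) := hA ▸ isClosed_closure
  have huA : u ∈ A := by rw [← SetLike.mem_coe, hA]; exact subset_closure (Subgroup.mem_zpowers u)
  have hAu : ∀ y ∈ A, Commute y u := by
    intro y hy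
    rw [← SetLike.mem_coe, hA] at hy
    have := closure_minimal (s := (Subgroup.zpowers u : Set (Pt B))) (fun z hz => Subgroup.mem_centralizer_iff.2 (by
      intro w hw
      rw [Set.mem_singleton_iff.1 hw]
      obtain ⟨i, rfl⟩ := Subgroup.mem_zpowers_iff.1 hz
      exact ((Commute.refl u).zpow_right i).eq)) (Φ.isClosed_centralizer ({u} : Set (Pt B))) hy
    exact (Subgroup.mem_centralizer_iff.1 this u rfl).symm
  have hAcomm : ∀ x ∈ A, ∀ y ∈ A, x * y = y * x := by
    intro x hx y hy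
    rw [← SetLike.mem_coe, hA] at hy
    have := closure_minimal (s := (Subgroup.zpowers u : Set (Pt B))) (fun z hz => Subgroup.mem_centralizer_iff.2 (by
      intro w hw
      rw [Set.mem_singleton_iff.1 hw]
      obtain ⟨i, rfl⟩ := Subgroup.mem_zpowers_iff.1 hz
      exact ((hAu x hx).zpow_right i).eq)) (Φ.isClosed_centralizer ({x} : Set (Pt B))) hy
    exact Subgroup.mem_centralizer_iff.1 this x rfl
  have hAun : ∀ y ∈ A, y ∈ Φ.unipotent hup 1 := by
    intro y hy
    rw [← SetLike.mem_coe, hA] at hy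
    refine (Φ.mem_unipotent_iff_isNilpotent hup).2 (closure_minimal ?_ Φ.isClosed_isNilpotent hy)
    exact fun z hz => (Φ.mem_unipotent_iff_isNilpotent hup).1 ((Subgroup.zpowers_le.2 hu) hz)
  -- its image
  obtain ⟨K, _, iK, _, _, _, _, hmem, -⟩ := exists_sub A hAcl
  have := GrpScheme.HomFlat.isReduced_of_smooth K.hom
  obtain ⟨H', _, iH, p, _, _, _, hp⟩ := Conseq.exists_image (iK ≫ q)
  obtain ⟨hps, hpe⟩ := hp ‹_›
  have : IsSeparated H'.hom := GrpScheme.IdComponent.isSeparated H'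
  have : LocallyOfFiniteType H'.hom := by rw [← Over.w iH]; infer_instance
  let HC := (ptHom iH).range
  have hHC : IsClosed (HC : Set (Pt Q)) := Density.isClosed_range iH
  have himg : ∀ y, y ∈ HC ↔ ∃ a ∈ A, f a = y := by
    intro y
    constructor
    · rintro ⟨h, rfl⟩
      obtain ⟨w, rfl⟩ := Cartan.exists_pt_of_mem p h (hps.surj (pt h))
      exact ⟨w ≫ iK, (hmem _).2 ⟨w, rfl⟩, show (w ≫ iK) ≫ q = (w ≫ p) ≫ iH by rw [Category.assoc, Category.assoc, hpe]⟩
    · rintro ⟨a, ha, rfl⟩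
      obtain ⟨w, rfl⟩ := (hmem a).1 ha
      exact ⟨w ≫ p, show (w ≫ p) ≫ iH = (w ≫ iK) ≫ q by rw [Category.assoc, Category.assoc, hpe]⟩
  have hHcomm : ∀ x ∈ HC, ∀ y ∈ HC, x * y = y * x := by
    intro x hx y hy
    obtain ⟨a, ha, rfl⟩ := (himg x).1 hx
    obtain ⟨b, hb, rfl⟩ := (himg y).1 hy
    rw [← map_mul, ← map_mul, hAcomm a ha b hb]
  -- an element with a power in the kernel is in the kernel
  have hroot : ∀ (S : Subgroup (Pt Q)), IsClosed (S : Set (Pt Q)) → ∀ a ∈ A, ∀ n : ℕ, (n : k) ≠ 0 →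
      f a ^ n ∈ S → f a ∈ S := by
    intro S hS a ha n hn h
    have := Φ.mem_of_pow_mem hup (A ⊓ S.comap f) (hAcl.inter (hS.preimage hq)) (hAun a ha)
      (fun y hy => hAcomm y hy.1 a ha) hn ⟨A.pow_mem ha n, show f (a ^ n) ∈ S by rw [map_pow]; exact h⟩
    exact this.2
  let ΨH := Ψ.restrict HC hHC
  have : PreconnectedSpace ΨH.identityComponent := ΨH.preconnectedSpace_identityComponent
  let Ψ₀ := ΨH.restrict ΨH.identityComponent ΨH.isClosed_identityComponent
  have hsol : derivedSeries ΨH.identityComponent 1 = ⊥ := by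
    rw [derivedSeries_one, _root_.commutator_eq_bot_iff_center_eq_top, eq_top_iff]
    exact fun x _ => Subgroup.mem_center_iff.2 fun y => Subtype.ext (Subtype.ext (hHcomm _ y.1.2 _ x.1.2))
  obtain ⟨P, P', hPP, hup'⟩ := Ψ₀.exists_upper hsol
  let Ψ₁ := Ψ₀.conj P P' hPP
  obtain ⟨T₁, hT₁, hcov⟩ := Ψ₁.exists_toral_lift hup'
  have hT₁bot : ∀ t ∈ T₁, t = 1 := by
    intro t ht
    refine closure_minimal ?_ (Ψ₁.isClosed_singleton 1) (hT₁.closure_torsion ht)
    rintro s ⟨-, n, hn, hsn⟩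
    obtain ⟨a, ha, hs⟩ := (himg ((s : HC) : Pt Q)).1 (s : HC).2
    have hbot : IsClosed ((⊥ : Subgroup (Pt Q)) : Set (Pt Q)) := by
      rw [Subgroup.coe_bot]; exact Ψ.isClosed_singleton 1
    have h := hroot ⊥ hbot a ha n hn (by
      rw [Subgroup.mem_bot, hs, ← Subgroup.coe_pow, ← Subgroup.coe_pow, hsn]; rfl)
    rw [Subgroup.mem_bot, hs] at h
    exact Subtype.ext (Subtype.ext h)
  -- the unipotent elements of the image
  let E : Subgroup (Pt Q) :=
    { carrier := {y | y ∈ HC ∧ IsNilpotent (Ψ.ρ y - 1)}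
      one_mem' := ⟨HC.one_mem, by simp⟩
      mul_mem' := fun {x y} hx hy => ⟨HC.mul_mem hx.1 hy.1, Ψ.isNilpotent_mul (hHcomm x hx.1 y hy.1) hx.2 hy.2⟩
      inv_mem' := fun {x} hx => ⟨HC.inv_mem hx.1, by
        rw [show Ψ.ρ x⁻¹ - 1 = -(Ψ.ρ x⁻¹ * (Ψ.ρ x - 1)) by
          rw [mul_sub, ← map_mul, inv_mul_cancel, map_one, _root_.mul_one, neg_sub]]
        refine (Commute.isNilpotent_mul_left ?_ hx.2).neg
        show Ψ.ρ x⁻¹ * (Ψ.ρ x - 1) = (Ψ.ρ x - 1) * Ψ.ρ x⁻¹
        rw [mul_sub, sub_mul, ← map_mul, ← map_mul, inv_mul_cancel, mul_inv_cancel, _root_.mul_one, _root_.one_mul]⟩ }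
  have hE : IsClosed (E : Set (Pt Q)) := hHC.inter Ψ.isClosed_isNilpotent
  have huH : f u ∈ HC := (himg _).2 ⟨u, huA, rfl⟩
  have := ΨH.normal_identityComponent
  have := ΨH.finiteIndex_identityComponent
  have hidx : (⟨f u, huH⟩ : HC) ^ ΨH.identityComponent.index ∈ ΨH.identityComponent := Subgroup.pow_index_mem _ _
  have hnil : IsNilpotent (Ψ.ρ (f u ^ ΨH.identityComponent.index) - 1) := by
    let z : ΨH.identityComponent := ⟨_, hidx⟩
    obtain ⟨t, ht, he⟩ := hcov z
    rw [hT₁bot t ht, map_one] at he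
    obtain ⟨m, hm⟩ := (Ψ₁.mem_unipotent_iff_isNilpotent hup').1 (Ψ₁.mem_unipotent_of_diag he.symm)
    refine ⟨m, ?_⟩
    have e : Ψ₁.ρ z - 1 = P * (Ψ.ρ (f u ^ ΨH.identityComponent.index) - 1) * P' := by
      rw [mul_sub, sub_mul, _root_.mul_one, mul_eq_one_comm.mp hPP]
      rfl
    have hpow : ∀ j, (P * (Ψ.ρ (f u ^ ΨH.identityComponent.index) - 1) * P') ^ j =
        P * (Ψ.ρ (f u ^ ΨH.identityComponent.index) - 1) ^ j * P' := fun j => by
      induction j with
      | zero => rw [pow_zero, pow_zero, _root_.mul_one, mul_eq_one_comm.mp hPP]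
      | succ j ih =>
        rw [pow_succ, ih, pow_succ]
        simp only [_root_.mul_assoc]
        rw [← _root_.mul_assoc P' P, hPP, _root_.one_mul]
    rw [e, hpow] at hm
    generalize (Ψ.ρ (f u ^ ΨH.identityComponent.index) - 1) ^ m = X at hm ⊢
    calc X = (P' * P) * X * (P' * P) := by rw [hPP, _root_.one_mul, _root_.mul_one]
      _ = P' * (P * X * P') * P := by simp only [_root_.mul_assoc]
      _ = 0 := by rw [hm, mul_zero, zero_mul]
  exact (hroot E hE u huA _ (Nat.cast_ne_zero.2 Subgroup.FiniteIndex.index_ne_zero)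
    ⟨HC.pow_mem huH _, hnil⟩).2

end UnipMap

end Groth.Agent.Borel50
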