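import Groth.Agent.Borel50.UnipGroup
import Groth.Agent.Borel50.TorusImage
import Groth.Prelude.Def_Par

/-!
# Maximal connected unipotent subgroups and unipotent radicals of Borel subgroups
-/

set_option autoImplicit false
universe u

open CategoryTheory MonoidalCategory CartesianMonoidalCategory MonObj GrpObj AlgebraicGeometry Limits

noncomputable section

namespace Groth.Agent.Borel50.UnipRadical

open Groth.Agent.Borel50.Pts Groth.Agent.Borel50.Lin Groth.Agent.Borel50.Density
open Groth.Agent.DiagRig (bcTr bcUn bcTr_bcUn bcTr_map bcTr_mul bcTr_injective bcTr_comp)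

attribute [local instance] ptTop

section Transfer

variable {k K : Type u} [Field k] [Field K] (g : Spec (CommRingCat.of K) ⟶ Spec (CommRingCat.of k))
  {U : Over (Spec (CommRingCat.of k))} [GrpObj U]

/-- Having no subtorus descends. -/
theorem hasNoSubtorus_of_bc (h : Red.HasNoSubtorus K (Red.bc g U)) : Red.HasNoSubtorus k U := by
  intro T _ j _ _ hT
  have := DiagRig.isMonHom_bcMap g j
  exact RadicalScheme.isIso_hom_of_bc g T (h (Red.bc g T) ((Over.pullback g).map j) (AbSch51.TorusToProper.isTorus_bc g hT))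

/-- Having no subtorus is kept along an isomorphism of base fields. -/
theorem hasNoSubtorus_bc_of_inv (h' : Spec (CommRingCat.of k) ⟶ Spec (CommRingCat.of K)) (w : h' ≫ g = 𝟙 _)
    (h : Red.HasNoSubtorus k U) : Red.HasNoSubtorus K (Red.bc g U) := by
  intro T' _ j _ _ hT'
  let e : ∀ Y : Over (Spec (CommRingCat.of k)), Y ≅ (Over.map g).obj ((Over.map h').obj Y) := fun Y =>
    Over.isoMk (Iso.refl _) (by
      show 𝟙 _ ≫ (Y.hom ≫ h') ≫ g = Y.hom
      rw [Category.id_comp, Category.assoc, w, Category.comp_id])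
  let T := Red.bc h' T'
  let u : T ⟶ U := (e T).hom ≫ bcTr g (bcTr h' (𝟙 T) ≫ j)
  have hu : ∀ {Y : Over (Spec (CommRingCat.of k))} (x : Y ⟶ T), x ≫ u = (e Y).hom ≫ bcTr g (bcTr h' x ≫ j) := by
    intro Y x
    have h1 : bcTr h' x = (Over.map h').map x ≫ bcTr h' (𝟙 T) := by rw [← bcTr_comp, Category.comp_id]
    have h2 : x ≫ (e T).hom = (e Y).hom ≫ (Over.map g).map ((Over.map h').map x) := by
      ext1
      show x.left ≫ 𝟙 _ = 𝟙 _ ≫ x.left
      rw [Category.comp_id, Category.id_comp]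
    rw [h1, Category.assoc, bcTr_comp, ← Category.assoc, ← Category.assoc, h2]
  have : IsMonHom u := DiagRig.isMonHom_of_pts u fun Y x y => by
    rw [hu, hu, hu, bcTr_mul, MonObj.mul_comp, bcTr_mul, MonObj.comp_mul]
  have : Mono u := ⟨fun x y hxy => by
    rw [hu, hu] at hxy
    exact bcTr_injective h' ((cancel_mono j).1 (bcTr_injective g ((cancel_epi (e _).hom).1 hxy)))⟩
  exact RadicalScheme.isIso_hom_of_bc h' T' (h T u (AbSch51.TorusToProper.isTorus_bc h' hT'))

/-- The geometric point of an algebraically closed field has an inverse. -/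
theorem exists_geomPt_inv [IsAlgClosed k] (s : Spec (CommRingCat.of k)) :
    ∃ h' : Spec (CommRingCat.of k) ⟶ Spec (CommRingCat.of (AlgebraicClosure ((Spec (CommRingCat.of k)).residueField s))),
      h' ≫ Red.geomPt s = 𝟙 _ := by
  let κ := (Spec (CommRingCat.of k)).residueField s
  have hci : IsClosedImmersion ((Spec (CommRingCat.of k)).fromSpecResidueField s) :=
    IsClosedImmersion.of_isPreimmersion _ (by
      rw [Scheme.range_fromSpecResidueField]
      convert isClosed_univ
      exact Set.eq_univ_of_forall fun y => Subsingleton.elim (α := PrimeSpectrum k) y s)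
  obtain ⟨ψ, hψ⟩ : ∃ ψ : CommRingCat.of k ⟶ κ, Spec.map ψ = (Spec (CommRingCat.of k)).fromSpecResidueField s :=
    ⟨Spec.preimage _, Spec.map_preimage _⟩
  have hψb : Function.Bijective ψ.hom := ⟨ψ.hom.injective,
    by
      have : IsClosedImmersion (Spec.map ψ) := hψ ▸ hci
      have h2 := (IsClosedImmersion.isAffine_surjective_of_isAffine (Spec.map ψ)).2
      intro y
      obtain ⟨x, hx⟩ := h2 ((Scheme.ΓSpecIso κ).inv y)
      refine ⟨(Scheme.ΓSpecIso _).hom x, ?_⟩
      have e := congr($(Scheme.ΓSpecIso_naturality ψ) x)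
      simp only [CommRingCat.hom_comp, RingHom.comp_apply] at e
      rw [← e, hx]
      simp⟩
  have : IsAlgClosed κ := IsAlgClosed.of_ringEquiv _ _ (RingEquiv.ofBijective ψ.hom hψb)
  have ha : Function.Bijective (algebraMap κ (AlgebraicClosure κ)) := IsAlgClosed.algebraMap_bijective_of_isIntegral
  have : IsIso (Red.geomPt s) := by
    have h1 : IsIso (CommRingCat.ofHom (algebraMap κ (AlgebraicClosure κ))) :=
      (ConcreteCategory.isIso_iff_bijective _).2 ha
    have h2 : IsIso ψ := (ConcreteCategory.isIso_iff_bijective _).2 hψb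
    show IsIso (_ ≫ (Spec (CommRingCat.of k)).fromSpecResidueField s)
    rw [← hψ]
    infer_instance
  exact ⟨inv (Red.geomPt s), IsIso.inv_hom_id _⟩

/-- Connected groups without subtori stay so on the geometric fibre over an algebraically closed field. -/
theorem geom_of_noSubtorus [IsAlgClosed k] [LocallyOfFiniteType U.hom] [ConnectedSpace U.left]
    (h : Red.HasNoSubtorus k U) (s : Spec (CommRingCat.of k)) :
    ConnectedSpace (Red.geomFibre s U).left ∧
      Red.HasNoSubtorus (AlgebraicClosure ((Spec (CommRingCat.of k)).residueField s)) (Red.geomFibre s U) := by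
  obtain ⟨h', w⟩ := exists_geomPt_inv s
  exact ⟨BaseChange.connectedSpace_bc _ U, hasNoSubtorus_bc_of_inv _ h' w h⟩

end Transfer

variable {k : Type u} [Field k] [IsAlgClosed k] {G U : Over (Spec (CommRingCat.of k))} [GrpObj G] [GrpObj U]
  [IsAffine G.left] [Smooth G.hom] [ConnectedSpace G.left] [Smooth U.hom] [ConnectedSpace U.left]

/-- The rational points of a connected subgroup without subtori are solvable and unipotent. -/
theorem pts_facts (iU : U ⟶ G) [IsMonHom iU] [IsClosedImmersion iU.left] (hU : Red.HasNoSubtorus k U) :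
    (∃ n, derivedSeries (Pt U) n = ⊥) ∧
      ∀ {N : ℕ} (Φ : Rep k (Pt G) N), ∀ x ∈ (ptHom iU).range, IsNilpotent (Φ.ρ x - 1) := by
  have : IsAffine U.left := isAffine_of_isAffineHom iU.left
  have := FixedPt.qc_G U
  have := GrpScheme.HomFlat.isReduced_of_smooth U.hom
  obtain ⟨M, ⟨Φ₀⟩⟩ := exists_rep (G := U)
  obtain ⟨P, Q, hQP, hup, hun⟩ := UnipGroup.unipotent_of_noSubtorus hU Φ₀
  refine ⟨?_, fun {N} Φ x hx => ?_⟩
  · have hnil := (Φ₀.conj P Q hQP).upperCentralSeries_eq_top hup ⊥
      (fun t ht x => by rw [Subgroup.mem_bot.1 ht, _root_.one_mul, _root_.mul_one])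
      (fun x => ⟨1, Subgroup.one_mem _, by rw [map_one, (Φ₀.conj P Q hQP).diag_of_mem_unipotent (hun x)]⟩)
    have : Group.IsNilpotent (Pt U) := ⟨⟨M + 1, hnil⟩⟩
    have : Group.IsSolvable (Pt U) := inferInstance
    exact Group.IsSolvable.solvable
  · obtain ⟨w, rfl⟩ := hx
    exact UnipMap.isNilpotent_map (Φ₀.conj P Q hQP) hup Φ iU (hun w)

/-- Such a subgroup is conjugate into any Borel subgroup. -/
theorem exists_conj_le_borel (iU : U ⟶ G) [IsMonHom iU] [IsClosedImmersion iU.left] (hU : Red.HasNoSubtorus k U)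
    {B : Over (Spec (CommRingCat.of k))} [GrpObj B] (iB : B ⟶ G) [IsMonHom iB] (hB : Red.IsBorelOver k iB) :
    ∃ g : Pt G, (ptHom iU).range.map (MulAut.conj g).toMonoidHom ≤ (ptHom iB).range := by
  have := FixedPt.qc_G G
  have := hB.2.1
  have : Mono iB := Over.mono_of_mono_left iB
  have : LocallyOfFiniteType B.hom := by rw [← Over.w iB]; infer_instance
  have : QuasiCompact B.hom := by rw [← Over.w iB]; infer_instance
  obtain ⟨X, a, o, hl, -, hf, hs, hq⟩ := S3279.result k G B iB
  have hX : AGF.IsQuotient iB X a o := ⟨hl, hf, hs, hq⟩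
  have := Conj.isProper_quotient_borel iB hB hX
  obtain ⟨g, l, hl'⟩ := Conj.exists_conj_factor iU (pts_facts iU hU).1 hX
  have := Conj.isMonHom_conjBy g iU
  refine ⟨g, ?_⟩
  rw [← ToralConj.range_conjBy iU g]
  rintro _ ⟨x, rfl⟩
  exact ⟨x ≫ l, show (x ≫ l) ≫ iB = x ≫ AGF.conjBy g iU by rw [Category.assoc, hl']⟩

omit [Smooth U.hom] [ConnectedSpace U.left] in
/-- A maximal connected subgroup without subtori lying in a connected solvable subgroup contains all connected unipotent
subgroups of it. -/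
theorem le_of_maximal (iU : U ⟶ G) [IsMonHom iU] [IsClosedImmersion iU.left] [Smooth U.hom] [ConnectedSpace U.left]
    (hU : Red.HasNoSubtorus k U)
    (maxU : ∀ (V : Over (Spec (CommRingCat.of k))) [GrpObj V] (j : V ⟶ G) [IsMonHom j] (f : U ⟶ V),
      IsClosedImmersion j.left → Smooth V.hom → ConnectedSpace V.left → Red.HasNoSubtorus k V → f ≫ j = iU → IsIso f)
    {N : ℕ} (Φ : Rep k (Pt G) N) (R : Subgroup (Pt G)) (hR : IsClosed (R : Set (Pt G)))
    (hRc : _root_.IsPreconnected (R : Set (Pt G))) {n : ℕ} (hsol : derivedSeries R n = ⊥)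
    (hle : (ptHom iU).range ≤ R) (S : Subgroup (Pt G)) (hSc : _root_.IsPreconnected (S : Set (Pt G)))
    (hSR : S ≤ R) (hSn : ∀ x ∈ S, IsNilpotent (Φ.ρ x - 1)) : S ≤ (ptHom iU).range := by
  classical
  have := FixedPt.qc_G G
  have := GrpScheme.HomFlat.isReduced_of_smooth G.hom
  have : IsAffine U.left := isAffine_of_isAffineHom iU.left
  have := FixedPt.qc_G U
  have := GrpScheme.HomFlat.isReduced_of_smooth U.hom
  have : PreconnectedSpace R := Subtype.preconnectedSpace hRc
  obtain ⟨P, Q, hQP, hup⟩ := (Φ.restrict R hR).exists_upper hsol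
  let Ψ := (Φ.restrict R hR).conj P Q hQP
  -- the unipotent points of the solvable group
  have hnil : ∀ x : R, IsNilpotent (Ψ.ρ x - 1) ↔ IsNilpotent (Φ.ρ (x : Pt G) - 1) := by
    intro x
    have hp : ∀ (A : Matrix (Fin N) (Fin N) k) (j : ℕ), (P * A * Q) ^ j = P * A ^ j * Q := fun A j => by
      induction j with
      | zero => rw [pow_zero, pow_zero, _root_.mul_one, mul_eq_one_comm.mp hQP]
      | succ j ih =>
        rw [pow_succ, ih, pow_succ]
        simp only [_root_.mul_assoc]
        rw [← _root_.mul_assoc Q P, hQP, _root_.one_mul]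
    have e : Ψ.ρ x - 1 = P * (Φ.ρ (x : Pt G) - 1) * Q := by
      rw [mul_sub, sub_mul, _root_.mul_one, mul_eq_one_comm.mp hQP]
      rfl
    rw [e]
    constructor
    · rintro ⟨m, hm⟩
      refine ⟨m, ?_⟩
      rw [hp] at hm
      calc (Φ.ρ (x : Pt G) - 1) ^ m = (Q * P) * (Φ.ρ (x : Pt G) - 1) ^ m * (Q * P) := by
            rw [hQP, _root_.one_mul, _root_.mul_one]
        _ = Q * (P * (Φ.ρ (x : Pt G) - 1) ^ m * Q) * P := by simp only [_root_.mul_assoc]
        _ = 0 := by rw [hm, mul_zero, zero_mul]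
    · rintro ⟨m, hm⟩
      exact ⟨m, by rw [hp, hm, mul_zero, zero_mul]⟩
  let Uall : Subgroup (Pt G) := (Ψ.unipotent hup 1).map R.subtype
  have hUall : ∀ x : Pt G, x ∈ R → IsNilpotent (Φ.ρ x - 1) → x ∈ Uall := fun x hx hxn =>
    ⟨⟨x, hx⟩, (Ψ.mem_unipotent_iff_isNilpotent hup).2 ((hnil ⟨x, hx⟩).2 hxn), rfl⟩
  have hUn : ∀ x ∈ Uall, IsNilpotent (Φ.ρ x - 1) := by
    rintro _ ⟨y, hy, rfl⟩
    exact (hnil y).1 ((Ψ.mem_unipotent_iff_isNilpotent hup).1 hy)
  set UC := (ptHom iU).range with hUC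
  let X : Set (Pt G) := (UC : Set (Pt G)) ∪ S
  obtain ⟨V, hV⟩ := Φ.exists_closure_subgroup (Subgroup.closure X)
  have hXU : Subgroup.closure X ≤ Uall := (Subgroup.closure_le Uall).2 (by
    rintro x (hx | hx)
    · exact hUall x (hle hx) ((pts_facts iU hU).2 Φ x hx)
    · exact hUall x (hSR hx) (hSn x hx))
  have hVn : ∀ x ∈ V, IsNilpotent (Φ.ρ x - 1) := fun x hx => by
    rw [← SetLike.mem_coe, hV] at hx
    exact closure_minimal (fun y hy => hUn y (hXU hy)) Φ.isClosed_isNilpotent hx
  have hVc : _root_.IsPreconnected (V : Set (Pt G)) := by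
    rw [hV]
    refine (LieKolchin.preconnected_closure Φ.good X ?_ (Or.inl UC.one_mem)).closure
    exact IsPreconnected.union 1 UC.one_mem S.one_mem (Density.isPreconnected_range iU) hSc
  obtain ⟨K, _, iK, _, _, _, _, hmem, hconn⟩ := exists_sub V (hV ▸ isClosed_closure)
  have := hconn hVc
  have := GrpScheme.HomFlat.isReduced_of_smooth K.hom
  have : Mono iK := Over.mono_of_mono_left iK
  obtain ⟨f, hf⟩ := factor_of_points iU iK fun w => by
    obtain ⟨z, hz⟩ := (hmem (w ≫ iU)).1 (by
      rw [← SetLike.mem_coe, hV]; exact subset_closure (Subgroup.subset_closure (Or.inl ⟨w, rfl⟩)))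
    exact mem_range_of_factor hz
  have : IsIso f := maxU K iK f ‹_› ‹_› ‹_›
    (RadicalScheme.hasNoSubtorus_of_isNilpotent Φ iK fun w => hVn _ ((hmem _).2 ⟨w, rfl⟩)) hf
  intro x hx
  obtain ⟨w, rfl⟩ := (hmem x).1 (by rw [← SetLike.mem_coe, hV]; exact subset_closure (Subgroup.subset_closure (Or.inr hx)))
  exact ⟨w ≫ inv f, show (w ≫ inv f) ≫ iU = w ≫ iK by rw [Category.assoc, ← hf, IsIso.inv_hom_id_assoc]⟩

end Groth.Agent.Borel50.UnipRadical
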